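import Cfsg.Agent.SingerFive.Model
import Mathlib.RingTheory.Coprime.Lemmas
import Mathlib.Tactic.IntervalCases
import Mathlib.Tactic.Linarith

/-!
# The degrees of exceptional constituents do not divide the order of the group

Each factor of the order meets `a * m - v` in a divisor of a small number, so only small fields
remain, and these are checked one by one.
-/

set_option autoImplicit false

namespace CfsgLib.SingerFive

/-- The order of the special linear group of degree five. -/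
def ordSL (q : ℕ) : ℕ := q ^ 10 * ((q ^ 2 - 1) * (q ^ 3 - 1) * (q ^ 4 - 1) * (q ^ 5 - 1))

theorem gcd_dvd_of {D x b : ℕ} {c : ℤ} (hb : c.natAbs = b)
    (h : ∀ g : ℤ, g ∣ (D : ℤ) → g ∣ (x : ℤ) → g ∣ c) : Nat.gcd D x ∣ b :=
  hb ▸ Int.natCast_dvd.1 (h _ (Int.natCast_dvd_natCast.2 (Nat.gcd_dvd_left D x))
    (Int.natCast_dvd_natCast.2 (Nat.gcd_dvd_right D x)))

theorem dvd_replace {D x y b : ℕ} (h : D ∣ x * y) (hb : Nat.gcd D x ∣ b) : D ∣ b * y :=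
  (Nat.dvd_gcd_mul_iff_dvd_mul.2 h).trans (Nat.mul_dvd_mul_right hb y)

theorem gcd_pow_dvd {D x b : ℕ} (h : Nat.gcd D x ∣ b) (k : ℕ) : Nat.gcd D (x ^ k) ∣ b ^ k :=
  (gcd_pow_right_dvd_pow_gcd (α := ℕ) (a := D) (b := x) (k := k)).trans (pow_dvd_pow_of_dvd h k)

/-- A divisor of a power of `q` prime to a small number is small. -/
theorem gcd_prime_pow_dvd {p f D b : ℕ} (hp : p.Prime) (hb : Nat.gcd D (p ^ f) ∣ b) (hlt : b < p ^ f)
    (hb0 : b ≠ 0) (k : ℕ) : Nat.gcd D ((p ^ f) ^ k) ∣ b := by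
  rw [← pow_mul]
  obtain ⟨i, -, hi⟩ := (Nat.dvd_prime_pow hp).1 (Nat.gcd_dvd_right D (p ^ (f * k)))
  rcases le_or_gt i f with h | h
  · rw [hi]
    exact (Nat.dvd_gcd (hi ▸ Nat.gcd_dvd_left _ _) (pow_dvd_pow p h)).trans hb
  · exfalso
    have h1 : p ^ f ∣ Nat.gcd D (p ^ f) :=
      Nat.dvd_gcd ((pow_dvd_pow p h.le).trans (hi ▸ Nat.gcd_dvd_left _ _)) dvd_rfl
    have := Nat.le_of_dvd (Nat.pos_of_ne_zero hb0) (h1.trans hb)
    omega

theorem ordSL_eq {n : ℕ} : ordSL (n + 1) = (n + 1) ^ 10 * (n ^ 4 * ((n + 2) ^ 2 *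
    (((n + 1) ^ 2 + 1) * (((n + 1) ^ 2 + (n + 1) + 1) * pts (n + 1))))) := by
  rw [ordSL, show (n + 1) ^ 2 - 1 = n * (n + 2) by
      rw [show (n + 1) ^ 2 = n * (n + 2) + 1 by ring, Nat.add_sub_cancel],
    show (n + 1) ^ 3 - 1 = n * ((n + 1) ^ 2 + (n + 1) + 1) by
      rw [show (n + 1) ^ 3 = n * ((n + 1) ^ 2 + (n + 1) + 1) + 1 by ring, Nat.add_sub_cancel],
    show (n + 1) ^ 4 - 1 = n * (n + 2) * ((n + 1) ^ 2 + 1) by
      rw [show (n + 1) ^ 4 = n * (n + 2) * ((n + 1) ^ 2 + 1) + 1 by ring, Nat.add_sub_cancel],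
    show (n + 1) ^ 5 - 1 = n * pts (n + 1) by
      rw [show (n + 1) ^ 5 = n * pts (n + 1) + 1 by rw [pts]; ring, Nat.add_sub_cancel]]
  ring

/-- The fields with fewer than 520 elements. -/
theorem not_dvd_small : ∀ t < 104, ∀ a < 4,
    ordSL (5 * t + 6) % ((a + 1) * (pts (5 * t + 6) / 5) - 1) ≠ 0 ∧
      ordSL (5 * t + 6) % ((a + 1) * (pts (5 * t + 6) / 5) - 2) ≠ 0 := by
  unfold ordSL pts
  decide +kernel

variable {p f m : ℕ}

theorem not_dvd_ordSL_aux (hp : p.Prime) (h2 : 2 ≤ p ^ f) (hq5 : p ^ f % 5 = 1) (hm : 5 * m = pts (p ^ f))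
    {a v : ℕ} (ha1 : 1 ≤ a) (ha : a ≤ 4) (hv : v = 1 ∨ v = 2) (hone : a = v → a = 1) :
    ¬ a * m - v ∣ ordSL (p ^ f) := by
  intro hdvd
  rcases Nat.lt_or_ge (p ^ f) 520 with hsmall | hbig
  · obtain ⟨t, ht⟩ : ∃ t, p ^ f = 5 * t + 6 := ⟨(p ^ f - 6) / 5, by omega⟩
    have hm' : m = pts (5 * t + 6) / 5 := by rw [← ht, ← hm, Nat.mul_div_cancel_left _ (by norm_num)]
    obtain ⟨b, rfl⟩ := Nat.exists_eq_add_of_le ha1
    have := not_dvd_small t (by omega) b (by omega)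
    rw [← hm', ← ht, show b + 1 = 1 + b by omega] at this
    rcases hv with rfl | rfl
    exacts [this.1 (Nat.mod_eq_zero_of_dvd hdvd), this.2 (Nat.mod_eq_zero_of_dvd hdvd)]
  set q := p ^ f with hq
  obtain ⟨n, hn⟩ : ∃ n, q = n + 1 := ⟨q - 1, by omega⟩
  rw [hn, ordSL_eq, ← hn] at hdvd
  have hP : pts q = q ^ 4 + q ^ 3 + q ^ 2 + q + 1 := rfl
  have hq4 : 520 ^ 4 ≤ q ^ 4 := Nat.pow_le_pow_left hbig 4
  have hva : v < a * m := by
    have : m ≤ a * m := Nat.le_mul_of_pos_left m ha1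
    omega
  set D := a * m - v with hD
  have hDz : 5 * (D : ℤ) = (a : ℤ) * (pts q : ℤ) - 5 * v := by
    rw [hD, Nat.cast_sub hva.le, ← hm]; push_cast; ring
  have hP' : (pts q : ℤ) = (q : ℤ) ^ 4 + (q : ℤ) ^ 3 + (q : ℤ) ^ 2 + (q : ℤ) + 1 := by rw [hP]; push_cast; rfl
  have hn' : (q : ℤ) = (n : ℤ) + 1 := by rw [hn]; push_cast; rfl
  -- reductions
  have red1 : ∀ {x : ℕ} {y : ℤ} {c : ℤ}, (pts q : ℤ) = (x : ℤ) * y + c →
      ∀ g : ℤ, g ∣ (D : ℤ) → g ∣ (x : ℤ) → g ∣ (a : ℤ) * c - 5 * v := by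
    intro x y c h g hgD hgx
    rw [show (a : ℤ) * c - 5 * v = 5 * D - a * (x * y) by rw [hDz, h]; ring]
    exact dvd_sub (hgD.mul_left 5) ((hgx.mul_right y).mul_left _)
  have bq : Nat.gcd D q ∣ ((a : ℤ) * 1 - 5 * v).natAbs :=
    gcd_dvd_of rfl (red1 (y := (q : ℤ) ^ 3 + (q : ℤ) ^ 2 + q + 1) (by rw [hP']; ring))
  have bp : Nat.gcd D (n + 2) ∣ ((a : ℤ) * 1 - 5 * v).natAbs :=
    gcd_dvd_of rfl (red1 (y := (q : ℤ) ^ 3 + q) (by rw [hP']; push_cast; rw [hn']; ring))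
  have bs : Nat.gcd D (q ^ 2 + 1) ∣ ((a : ℤ) * 1 - 5 * v).natAbs :=
    gcd_dvd_of rfl (red1 (y := (q : ℤ) ^ 2 + q) (by rw [hP']; push_cast; ring))
  have bP : Nat.gcd D (pts q) ∣ ((a : ℤ) * 0 - 5 * v).natAbs :=
    gcd_dvd_of rfl (red1 (y := 1) (by ring))
  have bm : Nat.gcd D n ∣ (5 * ((a : ℤ) - v)).natAbs := by
    refine gcd_dvd_of rfl fun g hgD hgx => ?_
    have := red1 (x := n) (y := (q : ℤ) ^ 3 + 2 * (q : ℤ) ^ 2 + 3 * q + 4) (c := 5) (by rw [hP', hn']; ring) g hgD hgx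
    rwa [show (a : ℤ) * 5 - 5 * v = 5 * ((a : ℤ) - v) by ring] at this
  have bt : Nat.gcd D (q ^ 2 + q + 1) ∣ (25 * (v : ℤ) ^ 2 - 5 * a * v + (a : ℤ) ^ 2).natAbs := by
    refine gcd_dvd_of rfl fun g hgD hgx => ?_
    have h1 := red1 (x := q ^ 2 + q + 1) (y := (q : ℤ) ^ 2) (c := (q : ℤ) + 1)
      (by rw [hP']; push_cast; ring) g hgD hgx
    push_cast at hgx
    rw [show 25 * (v : ℤ) ^ 2 - 5 * a * v + (a : ℤ) ^ 2 = (a : ℤ) ^ 2 * ((q : ℤ) ^ 2 + q + 1) -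
      ((a : ℤ) * (q + 1) - 5 * v) * ((a : ℤ) * q + 5 * v) by ring]
    exact dvd_sub (hgx.mul_left _) (h1.mul_right _)
  set A := ((a : ℤ) * 1 - 5 * v).natAbs with hA
  have hA9 : A ≠ 0 ∧ A ≤ 9 := by rcases hv with rfl | rfl <;> interval_cases a <;> simp [hA]
  have bq' : Nat.gcd D (q ^ 10) ∣ A := gcd_prime_pow_dvd hp bq (by omega) hA9.1 10
  have hqbig : 5 * (D + v) = a * pts q := by
    rw [show D + v = a * m by omega, ← hm]; ring
  by_cases hav : a = v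
  · -- `D = a (q - 1) S / 5`
    subst hav
    set S := q ^ 3 + 2 * q ^ 2 + 3 * q + 4 with hS
    have hnS : pts q = n * S + 5 := by rw [hP, hS, hn]; ring
    have hDS : 5 * D = a * (n * S) := by
      have : a * pts q = a * (n * S) + 5 * a := by rw [hnS]; ring
      omega
    obtain ⟨R, hR⟩ : 5 ∣ S := by
      rw [hS]
      have : ∀ r : ℕ, r % 5 = 1 → (r ^ 3 + 2 * r ^ 2 + 3 * r + 4) % 5 = 0 := fun r hr => by
        simp [Nat.add_mod, Nat.mul_mod, Nat.pow_mod, hr]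
      exact Nat.dvd_of_mod_eq_zero (this q hq5)
    have hDR : D = a * n * R := by
      rw [hR] at hDS
      have : 5 * D = 5 * (a * n * R) := by rw [hDS]; ring
      omega
    have hRD : R ∣ D := ⟨a * n, by rw [hDR]; ring⟩
    have hRn : R * n ∣ D := ⟨a, by rw [hDR]; ring⟩
    have h1 : R * n ∣ n * (q ^ 10 * (n ^ 3 * ((n + 2) ^ 2 *
        ((q ^ 2 + 1) * ((q ^ 2 + q + 1) * pts q))))) := by
      refine (hRn.trans hdvd).trans (dvd_of_eq ?_); ring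
    rw [mul_comm R n] at h1
    have h2 := Nat.dvd_of_mul_dvd_mul_left (by omega) h1
    have r : ∀ {x b : ℕ}, Nat.gcd D x ∣ b → Nat.gcd R x ∣ b := fun h => (Nat.gcd_dvd_gcd_of_dvd_left _ hRD).trans h
    have bn : Nat.gcd R n ∣ 2 := by
      refine gcd_dvd_of (c := 2) rfl fun g hgR hgn => ?_
      have e : 5 * (R : ℤ) = (q : ℤ) ^ 3 + 2 * (q : ℤ) ^ 2 + 3 * q + 4 := by exact_mod_cast hR.symm.trans hS
      obtain ⟨w, hw⟩ : ∃ w, n = 5 * w := ⟨n / 5, by omega⟩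
      obtain ⟨w, rfl⟩ : ∃ z, n = 5 * z := ⟨w, hw⟩
      rw [show (2 : ℤ) = (R : ℤ) - (5 * (w : ℤ)) * (5 * (w : ℤ) ^ 2 + 5 * w + 2) by
        rw [hn'] at e; push_cast at e ⊢; linarith]
      exact dvd_sub hgR ((Dvd.dvd.mul_right (by exact_mod_cast hgn) _))
    have h3 := dvd_replace h2 (r bq')
    rw [mul_left_comm] at h3
    have h4 := dvd_replace h3 (gcd_pow_dvd bn 3)
    rw [mul_left_comm A, mul_left_comm (2 ^ 3)] at h4
    have h5 := dvd_replace h4 (gcd_pow_dvd (r bp) 2)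
    rw [mul_left_comm A, mul_left_comm (2 ^ 3), mul_left_comm (A ^ 2)] at h5
    have h6 := dvd_replace h5 (r bs)
    rw [show A * (A ^ 2 * (2 ^ 3 * (A * ((q ^ 2 + q + 1) * pts q)))) =
      (q ^ 2 + q + 1) * (A * (A ^ 2 * (2 ^ 3 * (A * pts q)))) by ring] at h6
    have h7 := dvd_replace h6 (r bt)
    set B := (25 * (a : ℤ) ^ 2 - 5 * a * a + (a : ℤ) ^ 2).natAbs with hB
    set C := ((a : ℤ) * 0 - 5 * a).natAbs with hC
    rw [show B * (A * (A ^ 2 * (2 ^ 3 * (A * pts q)))) = pts q * (B * (A * (2 ^ 3 * (A ^ 2 * A)))) by ring] at h7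
    have h8 := dvd_replace h7 (r bP)
    have hS3 : q ^ 3 ≤ S := by omega
    have hq3 : 520 ^ 3 ≤ q ^ 3 := Nat.pow_le_pow_left hbig 3
    have hbound : C * (B * (A * (2 ^ 3 * (A ^ 2 * A)))) ≤ 20000000 ∧ C * (B * (A * (2 ^ 3 * (A ^ 2 * A)))) ≠ 0 := by
      obtain rfl := hone rfl; norm_num [hA, hB, hC]
    have := Nat.le_of_dvd (Nat.pos_of_ne_zero hbound.2) h8
    omega
  · set M := (5 * ((a : ℤ) - v)).natAbs with hM
    have h3 := dvd_replace hdvd bq'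
    rw [mul_left_comm] at h3
    have h4 := dvd_replace h3 (gcd_pow_dvd bm 4)
    rw [mul_left_comm A, mul_left_comm (M ^ 4)] at h4
    have h5 := dvd_replace h4 (gcd_pow_dvd bp 2)
    rw [mul_left_comm A, mul_left_comm (M ^ 4), mul_left_comm (A ^ 2)] at h5
    have h6 := dvd_replace h5 bs
    rw [show A * (A ^ 2 * (M ^ 4 * (A * ((q ^ 2 + q + 1) * pts q)))) =
      (q ^ 2 + q + 1) * (A * (A ^ 2 * (M ^ 4 * (A * pts q)))) by ring] at h6
    have h7 := dvd_replace h6 bt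
    set B := (25 * (v : ℤ) ^ 2 - 5 * a * v + (a : ℤ) ^ 2).natAbs with hB
    set C := ((a : ℤ) * 0 - 5 * v).natAbs with hC
    rw [show B * (A * (A ^ 2 * (M ^ 4 * (A * pts q)))) = pts q * (B * (A * (M ^ 4 * (A ^ 2 * A)))) by ring] at h7
    have h8 := dvd_replace h7 bP
    have hPa : q ^ 4 ≤ a * pts q := le_trans (by omega) (Nat.le_mul_of_pos_left _ ha1)
    have hbound : C * (B * (A * (M ^ 4 * (A ^ 2 * A)))) ≤ 10000000000 ∧ C * (B * (A * (M ^ 4 * (A ^ 2 * A)))) ≠ 0 := by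
      rcases hv with rfl | rfl <;> interval_cases a <;> first | omega | norm_num [hA, hB, hC, hM]
    have := Nat.le_of_dvd (Nat.pos_of_ne_zero hbound.2) h8
    omega

/-- **No exceptional degree with `a ≤ 4` divides the order.** -/
theorem not_dvd_ordSL (hp : p.Prime) (h2 : 2 ≤ p ^ f) (hq5 : p ^ f % 5 = 1) (hm : 5 * m = pts (p ^ f))
    {a v : ℕ} (ha1 : 1 ≤ a) (ha : a ≤ 4) (hv : v = 1 ∨ v = 2) : ¬ a * m - v ∣ ordSL (p ^ f) := by
  intro hdvd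
  by_cases hav : a = v
  · subst hav
    refine not_dvd_ordSL_aux hp h2 hq5 hm (a := 1) (v := 1) le_rfl (by norm_num) (.inl rfl) (fun _ => rfl)
      ((Dvd.intro_left a ?_).trans hdvd)
    rw [one_mul, Nat.mul_sub, mul_one]
  · exact not_dvd_ordSL_aux hp h2 hq5 hm ha1 ha hv (fun e => absurd e hav) hdvd

end CfsgLib.SingerFive
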