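import Mathlib.GroupTheory.Transfer
import Mathlib.GroupTheory.Sylow
import Mathlib.GroupTheory.PGroup

/-!
# A normal subgroup containing a cyclic T.I. subgroup

The Sylow subgroups for the primes of the cyclic subgroup lie in it, so Burnside's transfer gives a
normal complement in a normal subgroup containing it but not the whole normaliser.  The complement
has an invariant Sylow subgroup, whose centre would have more elements than the cyclic subgroup
acting semiregularly on it allows.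
-/

set_option autoImplicit false
set_option linter.style.haveILetI false
set_option linter.unusedSectionVars false

namespace CfsgLib.SingerFive

open Subgroup

variable {G : Type*} [Group G] [Finite G] {m : ℕ} {h : G}

theorem commute_of_mem_zpowers {x y : G} (hx : x ∈ zpowers h) (hy : y ∈ zpowers h) : Commute x y := by
  obtain ⟨a, rfl⟩ := hx
  obtain ⟨b, rfl⟩ := hy
  exact (Commute.refl h).zpow_zpow a b

theorem exists_pow_of_mem_zpowers {x : G} (hx : x ∈ zpowers h) : ∃ k : ℕ, h ^ k = x := by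
  obtain ⟨k, hk⟩ := (mem_powers_iff_mem_zpowers (x := h) (y := x)).2 hx
  exact ⟨k, hk⟩

variable (hm : orderOf h = m) (hcc : ∀ k : ℕ, ¬ m ∣ k → ∀ x : G, Commute x (h ^ k) → x ∈ zpowers h)

include hm hcc in
theorem mem_of_commute {z x : G} (hz : z ∈ zpowers h) (hz1 : z ≠ 1) (hx : Commute x z) : x ∈ zpowers h := by
  obtain ⟨k, rfl⟩ := exists_pow_of_mem_zpowers hz
  exact hcc k (fun hd => hz1 (orderOf_dvd_iff_pow_eq_one.1 (hm ▸ hd))) x hx

include hm hcc in
/-- For a prime of the order some Sylow subgroup lies in the cyclic subgroup. -/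
theorem exists_sylow_le {l : ℕ} (hl : l.Prime) (hlm : l ∣ m) :
    ∃ P : Sylow l G, (P : Subgroup G) ≤ zpowers h ∧ ∃ t ∈ (P : Subgroup G), t ≠ 1 := by
  haveI := Fact.mk hl
  set t := h ^ (m / l) with ht
  have hot : orderOf t = l := by
    rw [ht, ← hm]
    exact orderOf_pow_orderOf_div (orderOf_pos h).ne' (hm ▸ hlm)
  have ht1 : t ≠ 1 := fun e => by rw [e, orderOf_one] at hot; exact hl.ne_one hot.symm
  obtain ⟨P, hP⟩ := (IsPGroup.of_card (p := l) (n := 1) (G := zpowers t)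
    (by rw [Nat.card_zpowers, hot, pow_one])).exists_le_sylow
  have htP : t ∈ (P : Subgroup G) := hP (mem_zpowers t)
  refine ⟨P, ?_, t, htP, ht1⟩
  haveI : Nontrivial (P : Subgroup G) := ⟨⟨⟨t, htP⟩, 1, fun e => ht1 (congrArg Subtype.val e)⟩⟩
  obtain ⟨⟨⟨z, hzP⟩, hzc⟩, hz1⟩ := @exists_ne _ P.2.center_nontrivial (1 : center (P : Subgroup G))
  have hz1' : z ≠ 1 := fun e => hz1 (Subtype.ext (Subtype.ext e))
  have hcomm : ∀ y ∈ (P : Subgroup G), Commute y z := fun y hy =>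
    congrArg Subtype.val (mem_center_iff.1 hzc ⟨y, hy⟩)
  have hzH : z ∈ zpowers h :=
    mem_of_commute hm hcc (Subgroup.pow_mem _ (mem_zpowers h) _) ht1 (hcomm t htP).symm
  exact fun y hy => mem_of_commute hm hcc hzH hz1' (hcomm y hy)

/-- **A normal subgroup containing `h` is everything.** -/
theorem eq_top_of_mem {f : G} (hm : orderOf h = m) (hbig : 31 ≤ m)
    (hcc : ∀ k : ℕ, ¬ m ∣ k → ∀ x : G, Commute x (h ^ k) → x ∈ zpowers h)
    (hnorm : ∀ k : ℕ, ¬ m ∣ k → ∀ g : G, g * h ^ k * g⁻¹ ∈ zpowers h → ∃ i : ℕ, g * (f ^ i)⁻¹ ∈ zpowers h)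
    (hf5 : f ^ 5 = 1) (hfH : f ∉ zpowers h) (hne : ∃ g : G, g * h * g⁻¹ ∉ zpowers h)
    (hsmall : ∀ E : Subgroup G, (∀ x ∈ E, ∀ y ∈ E, x * y = y * x) → (∀ x ∈ E, h * x * h⁻¹ ∈ E) →
      E ⊓ zpowers h = ⊥ → Nat.card E ≤ 25)
    (N : Subgroup G) [hNn : N.Normal] (hN : h ∈ N) : N = ⊤ := by
  classical
  have hHN : zpowers h ≤ N := zpowers_le.2 hN
  have hNG : ∀ {z g : G}, z ∈ zpowers h → z ≠ 1 → g * z * g⁻¹ ∈ zpowers h → ∃ i : ℕ, g * (f ^ i)⁻¹ ∈ zpowers h := by
    intro z g hz hz1 hg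
    obtain ⟨k, rfl⟩ := exists_pow_of_mem_zpowers hz
    exact hnorm k (fun hd => hz1 (orderOf_dvd_iff_pow_eq_one.1 (hm ▸ hd))) g hg
  by_cases hfN : f ∈ N
  · obtain ⟨l, hl, hlm⟩ := Nat.exists_prime_and_dvd (show m ≠ 1 by omega)
    haveI := Fact.mk hl
    obtain ⟨P, hPH, t, htP, ht1⟩ := exists_sylow_le hm hcc hl hlm
    have h1 := Sylow.normalizer_sup_eq_top' P (hPH.trans hHN)
    rw [eq_top_iff, ← h1]
    refine sup_le (fun g hg => ?_) le_rfl
    obtain ⟨i, hi⟩ := hNG (hPH htP) ht1 (hPH ((mem_normalizer_iff.1 hg t).1 htP))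
    have := N.mul_mem (hHN hi) (N.pow_mem hfN i)
    rwa [inv_mul_cancel_right] at this
  exfalso
  have hord : orderOf f = 5 := by
    haveI := Fact.mk Nat.prime_five
    exact orderOf_eq_prime hf5 fun e => hfH (e ▸ one_mem _)
  have hfi : ∀ i : ℕ, f ^ i ∈ N → f ^ i = 1 := by
    intro i hi
    by_contra hne
    have hco : Nat.Coprime i (orderOf f) := by
      rw [hord, Nat.coprime_comm, Nat.Prime.coprime_iff_not_dvd Nat.prime_five]
      exact fun hd => hne (orderOf_dvd_iff_pow_eq_one.1 (hord ▸ hd))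
    obtain ⟨j, hj⟩ := exists_pow_eq_self_of_coprime hco
    exact hfN (hj ▸ N.pow_mem hi j)
  -- the transfer maps
  have hker : ∀ l : ℕ, l.Prime → l ∣ m → ∃ K : Subgroup N, (∀ x ∈ K, ¬ l ∣ orderOf x) ∧
      (∀ x : N, ¬ l ∣ orderOf x → x ∈ K) ∧ ∀ a b : N, a * b * a⁻¹ * b⁻¹ ∈ K := by
    intro l hl hlm
    haveI := Fact.mk hl
    obtain ⟨P, hPH, t, htP, ht1⟩ := exists_sylow_le hm hcc hl hlm
    have hcent : Subgroup.normalizer ((P.subtype (hPH.trans hHN) : Subgroup N) : Set N) ≤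
        Subgroup.centralizer ((P.subtype (hPH.trans hHN) : Subgroup N) : Set N) := by
      intro g hg
      rw [mem_centralizer_iff]
      intro y hy
      rw [SetLike.mem_coe, Sylow.coe_subtype, mem_subgroupOf] at hy
      have hgt : (g : G) * t * (g : G)⁻¹ ∈ zpowers h := by
        have := (mem_normalizer_iff.1 hg ⟨t, hHN (hPH htP)⟩).1 (by rw [Sylow.coe_subtype, mem_subgroupOf]; exact htP)
        rw [Sylow.coe_subtype, mem_subgroupOf] at this
        exact hPH this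
      obtain ⟨i, hi⟩ := hNG (hPH htP) ht1 hgt
      have hiN : f ^ i ∈ N := by
        have := N.mul_mem (N.inv_mem (hHN hi)) g.2
        rwa [mul_inv_rev, inv_inv, inv_mul_cancel_right] at this
      rw [hfi i hiN, inv_one, mul_one] at hi
      exact Subtype.ext (commute_of_mem_zpowers (hPH hy) hi).eq
    set Q := P.subtype (hPH.trans hHN) with hQ
    set τ := MonoidHom.transferSylow Q hcent with hτ
    have hnd := MonoidHom.not_dvd_card_ker_transferSylow Q hcent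
    refine ⟨τ.ker, fun x hx hd => hnd (hd.trans ?_), fun x hx => ?_, fun a b => ?_⟩
    · rw [← Subgroup.orderOf_mk x hx]
      exact orderOf_dvd_natCard _
    · rw [MonoidHom.mem_ker, ← orderOf_eq_one_iff]
      refine Nat.eq_one_of_dvd_coprimes (b := Nat.card Q) ?_ (orderOf_map_dvd τ x) (orderOf_dvd_natCard _)
      obtain ⟨k, hk⟩ := Q.2.exists_card_eq
      rw [hk]
      exact (hl.coprime_iff_not_dvd.2 hx).symm.pow_right k
    · rw [MonoidHom.mem_ker, map_mul, map_mul, map_mul, map_inv, map_inv]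
      haveI : IsMulCommutative (Q : Subgroup N) := ⟨⟨fun a b => Subtype.ext ((hcent (le_normalizer b.2)) a a.2)⟩⟩
      rw [(IsMulCommutative.is_comm (M := (Q : Subgroup N))).comm (τ a) (τ b)]
      simp
  choose Kl hKl1 hKl2 hKl3 using hker
  -- the normal complement
  let W : Subgroup G :=
    { carrier := {g | ∃ hg : g ∈ N, ∀ (l : ℕ) (hl : l.Prime) (hd : l ∣ m), (⟨g, hg⟩ : N) ∈ Kl l hl hd}
      one_mem' := ⟨N.one_mem, fun l hl hd => (Kl l hl hd).one_mem⟩
      mul_mem' := fun {a b} ⟨ha, ha'⟩ ⟨hb, hb'⟩ => ⟨N.mul_mem ha hb, fun l hl hd => (Kl l hl hd).mul_mem (ha' l hl hd) (hb' l hl hd)⟩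
      inv_mem' := fun {a} ⟨ha, ha'⟩ => ⟨N.inv_mem ha, fun l hl hd => (Kl l hl hd).inv_mem (ha' l hl hd)⟩ }
  have hWcop : ∀ g ∈ W, Nat.Coprime (orderOf g) m := by
    rintro g ⟨hg, hgK⟩
    refine Nat.coprime_of_dvd' fun l hl hlo hlm => absurd ?_ (hKl1 l hl hlm _ (hgK l hl hlm))
    rwa [Subgroup.orderOf_mk g hg]
  haveI hWn : W.Normal := by
    refine ⟨fun g hg a => ?_⟩
    obtain ⟨hgN, hgK⟩ := hg
    refine ⟨hNn.conj_mem g hgN a, fun l hl hlm => hKl2 l hl hlm _ ?_⟩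
    rw [Subgroup.orderOf_mk, show orderOf (a * g * a⁻¹) = orderOf g from MulEquiv.orderOf_eq (MulAut.conj a) g,
      ← Subgroup.orderOf_mk g hgN]
    exact hKl1 l hl hlm _ (hgK l hl hlm)
  have hWH : W ⊓ zpowers h = ⊥ := by
    rw [eq_bot_iff]
    rintro g ⟨hgW, hgH⟩
    have h1 : orderOf g ∣ m := hm ▸ orderOf_dvd_of_mem_zpowers hgH
    rw [mem_bot, ← orderOf_eq_one_iff]
    exact Nat.eq_one_of_dvd_coprimes (hWcop g hgW) dvd_rfl h1
  have hcommW : ∀ a ∈ N, ∀ b ∈ N, a * b * a⁻¹ * b⁻¹ ∈ W := fun a ha b hb =>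
    ⟨N.mul_mem (N.mul_mem (N.mul_mem ha hb) (N.inv_mem ha)) (N.inv_mem hb),
      fun l hl hlm => hKl3 l hl hlm ⟨a, ha⟩ ⟨b, hb⟩⟩
  by_cases hW : W = ⊥
  · obtain ⟨g, hg⟩ := hne
    refine hg (mem_of_commute hm hcc (mem_zpowers h) (fun e => ?_) ?_)
    · rw [e, orderOf_one] at hm; omega
    · have h1 := hcommW _ (hNn.conj_mem h hN g) h hN
      rw [hW, mem_bot] at h1
      show _ * _ = _ * _
      calc g * h * g⁻¹ * h = g * h * g⁻¹ * h * (g * h * g⁻¹)⁻¹ * h⁻¹ * (h * (g * h * g⁻¹)) := by group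
        _ = h * (g * h * g⁻¹) := by rw [h1, one_mul]
  obtain ⟨s, hs, hsW⟩ := Nat.exists_prime_and_dvd (show Nat.card W ≠ 1 from fun e => hW (eq_bot_of_card_eq W e))
  haveI := Fact.mk hs
  obtain ⟨Q₀⟩ := (inferInstance : Nonempty (Sylow s W))
  set Q := (Q₀ : Subgroup W).map W.subtype with hQ
  have hfr : Subgroup.normalizer (Q : Set G) ⊔ W = ⊤ := Sylow.normalizer_sup_eq_top Q₀
  obtain ⟨n, hn, w, hw, hnw⟩ : ∃ n ∈ Subgroup.normalizer (Q : Set G), ∃ w ∈ W, n * w = h :=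
    mem_sup_of_normal_right.1 (hfr ▸ mem_top h) |>.imp fun n ⟨hn, w, hw, e⟩ => ⟨hn, w, hw, e⟩
  have hmdvd : ∀ i : ℕ, n ^ i ∈ W → m ∣ i := by
    intro i hi
    have e1 : ((n : G ⧸ W)) = (h : G ⧸ W) := by
      rw [QuotientGroup.eq]
      rwa [← hnw, inv_mul_cancel_left]
    have e2 : ((h ^ i : G) : G ⧸ W) = 1 := by
      rw [QuotientGroup.mk_pow, ← e1, ← QuotientGroup.mk_pow, QuotientGroup.eq_one_iff]
      exact hi
    rw [QuotientGroup.eq_one_iff] at e2
    have : h ^ i ∈ W ⊓ zpowers h := ⟨e2, Subgroup.pow_mem _ (mem_zpowers h) i⟩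
    rw [hWH, mem_bot] at this
    exact hm ▸ orderOf_dvd_of_pow_eq_one this
  obtain ⟨r, hr⟩ := hmdvd (orderOf n) (by rw [pow_orderOf_eq_one]; exact W.one_mem)
  set n₀ := n ^ r with hn₀
  have hr0 : r ≠ 0 := by
    rintro rfl
    rw [mul_zero] at hr
    exact (orderOf_pos n).ne' hr
  have hon : orderOf n₀ = m := by
    rw [hn₀, orderOf_pow_of_dvd hr0 (hr ▸ dvd_mul_left r m), hr, Nat.mul_div_cancel _ (Nat.pos_of_ne_zero hr0)]
  have hn₀Q : n₀ ∈ Subgroup.normalizer (Q : Set G) := Subgroup.pow_mem _ hn r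
  -- a conjugate of `n₀` generates the cyclic subgroup
  obtain ⟨l, hl, hlm⟩ := Nat.exists_prime_and_dvd (show m ≠ 1 by omega)
  haveI := Fact.mk hl
  obtain ⟨P, hPH, -⟩ := exists_sylow_le hm hcc hl hlm
  set t := n₀ ^ (m / l) with ht
  have hot : orderOf t = l := by
    rw [ht, ← hon]
    exact orderOf_pow_orderOf_div (orderOf_pos n₀).ne' (hon.symm ▸ hlm)
  obtain ⟨P', hP'⟩ := (IsPGroup.of_card (p := l) (n := 1) (G := zpowers t)
    (by rw [Nat.card_zpowers, hot, pow_one])).exists_le_sylow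
  obtain ⟨a, ha⟩ := MulAction.exists_smul_eq G P' P
  have hat : a * t * a⁻¹ ∈ zpowers h := by
    refine hPH ?_
    rw [← ha, Sylow.coe_subgroup_smul]
    exact ⟨t, hP' (mem_zpowers t), rfl⟩
  have hat1 : a * t * a⁻¹ ≠ 1 := fun e => by
    rw [conj_eq_one_iff] at e
    rw [e, orderOf_one] at hot
    exact hl.ne_one hot.symm
  have han : a * n₀ * a⁻¹ ∈ zpowers h := by
    refine mem_of_commute hm hcc hat hat1 ?_
    show Commute (MulAut.conj a n₀) (MulAut.conj a t)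
    exact (Commute.self_pow n₀ (m / l)).map (MulAut.conj a)
  have hgen : zpowers (a * n₀ * a⁻¹) = zpowers h := by
    refine eq_of_le_of_card_ge (zpowers_le.2 han) (le_of_eq ?_)
    rw [Nat.card_zpowers, Nat.card_zpowers, hm, show orderOf (a * n₀ * a⁻¹) = orderOf n₀ from
      MulEquiv.orderOf_eq (MulAut.conj a) n₀, hon]
  set Q' := Q.map (MulAut.conj a).toMonoidHom with hQ'
  have hQ'W : Q' ≤ W := by
    rintro _ ⟨q, hq, rfl⟩
    exact hWn.conj_mem q (map_subtype_le _ hq) a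
  have hinv : ∀ x ∈ Q', h * x * h⁻¹ ∈ Q' := by
    intro x hx
    have hh : h ∈ zpowers (a * n₀ * a⁻¹) := hgen ▸ mem_zpowers h
    obtain ⟨j, hj⟩ := exists_pow_of_mem_zpowers hh
    rw [conj_pow] at hj
    obtain ⟨q, hq, rfl⟩ := hx
    refine ⟨n₀ ^ j * q * (n₀ ^ j)⁻¹, (mem_normalizer_iff.1 (Subgroup.pow_mem _ hn₀Q j) q).1 hq, ?_⟩
    simp only [MulEquiv.coe_toMonoidHom, MulAut.conj_apply, ← hj]
    group
  have hQ'p : IsPGroup s Q' := (Q₀.2.map W.subtype).map _
  haveI : Nontrivial Q' := by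
    have h1 : Nat.card Q' = Nat.card Q₀ := by
      rw [hQ', Subgroup.card_map_of_injective (MulAut.conj a).injective, hQ,
        Subgroup.card_map_of_injective W.subtype_injective]
    rw [← Finite.one_lt_card_iff_nontrivial, h1]
    exact lt_of_lt_of_le hs.one_lt (Nat.le_of_dvd Nat.card_pos (Q₀.dvd_card_of_dvd_card hsW))
  set E := (center Q').map Q'.subtype with hE
  have hEW : E ⊓ zpowers h = ⊥ := le_bot_iff.1 (hWH ▸ inf_le_inf_right _ ((map_subtype_le _).trans hQ'W))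
  have hEcomm : ∀ x ∈ E, ∀ y ∈ E, x * y = y * x := by
    rintro _ ⟨x, hx, rfl⟩ _ ⟨y, -, rfl⟩
    exact congrArg Subtype.val (mem_center_iff.1 hx y).symm
  have hEinv : ∀ x ∈ E, h * x * h⁻¹ ∈ E := by
    rintro _ ⟨x, hx, rfl⟩
    refine ⟨⟨_, hinv x x.2⟩, mem_center_iff.2 fun y => ?_, rfl⟩
    obtain ⟨z, hz⟩ : ∃ z : Q', h * (z : G) * h⁻¹ = y := by
      have hinj : Function.Injective fun z : Q' => (⟨_, hinv z z.2⟩ : Q') := fun u v e => Subtype.ext (by
        have := congrArg Subtype.val e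
        simpa using this)
      obtain ⟨z, hz⟩ := Finite.injective_iff_surjective.1 hinj y
      exact ⟨z, congrArg Subtype.val hz⟩
    refine Subtype.ext ?_
    show (y : G) * (h * x * h⁻¹) = h * x * h⁻¹ * y
    have hxz : (x : G) * z = z * x := congrArg Subtype.val (mem_center_iff.1 hx z).symm
    rw [← hz]
    calc h * (z : G) * h⁻¹ * (h * x * h⁻¹) = h * ((z : G) * x) * h⁻¹ := by group
      _ = h * ((x : G) * z) * h⁻¹ := by rw [hxz]
      _ = _ := by group
  have hle := hsmall E hEcomm hEinv hEW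
  obtain ⟨⟨x, hxQ⟩, hx1⟩ := @exists_ne _ (hQ'p.center_nontrivial) (1 : center Q')
  set x₀ : G := (x : G) with hx₀
  have hx₀E : x₀ ∈ E := ⟨x, hxQ, rfl⟩
  have hx₀1 : x₀ ≠ 1 := fun e => hx1 (Subtype.ext (Subtype.ext e))
  have hinj : Function.Injective fun i : Fin m => (⟨h ^ (i : ℕ) * x₀ * (h ^ (i : ℕ))⁻¹, by
      have : ∀ i : ℕ, h ^ i * x₀ * (h ^ i)⁻¹ ∈ E := fun i => by
        induction i with
        | zero => simpa using hx₀E
        | succ i ih =>
          have := hEinv _ ih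
          rwa [pow_succ', show h * h ^ i * x₀ * (h * h ^ i)⁻¹ = h * (h ^ i * x₀ * (h ^ i)⁻¹) * h⁻¹ by group]
      exact this i⟩ : E) := by
    intro i j hij
    have heq := congrArg Subtype.val hij
    simp only at heq
    by_contra hne
    wlog hlt : (i : ℕ) < j generalizing i j
    · exact this hij.symm heq.symm (Ne.symm hne) (by have := Fin.val_ne_of_ne hne; omega)
    obtain ⟨d, hd⟩ := Nat.exists_eq_add_of_lt hlt
    rw [hd, add_assoc, pow_add] at heq
    have h3 : x₀ = h ^ (d + 1) * x₀ * (h ^ (d + 1))⁻¹ := by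
      have h4 := congrArg (fun y => (h ^ (i : ℕ))⁻¹ * y * h ^ (i : ℕ)) heq
      simpa [mul_assoc] using h4
    have h5 : Commute x₀ (h ^ (d + 1)) := by
      show _ * _ = _ * _
      conv_lhs => rw [h3]
      group
    have h6 : x₀ ∈ E ⊓ zpowers h :=
      ⟨hx₀E, hcc (d + 1) (fun hdd => by have := Nat.le_of_dvd (by omega) hdd; have := j.2; omega) x₀ h5⟩
    rw [hEW, mem_bot] at h6
    exact hx₀1 h6
  have h7 := Nat.card_le_card_of_injective _ hinj
  rw [Nat.card_fin] at h7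
  omega

end CfsgLib.SingerFive
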