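import Cfsg.Agent.SingerFive.Model
import Mathlib.LinearAlgebra.Matrix.Charpoly.Coeff
import Mathlib.LinearAlgebra.LinearIndependent.Basic

/-!
# Commutative algebras and groups with scalar commutators normalised by the norm-one torus

A commutative algebra normalised by the torus is a domain: its elements of square zero kill an
invariant subspace and its idempotents of least rank are moved too little.  Hence its elements
commute with a short power of the generator and lie in the field.
-/

set_option autoImplicit false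
set_option linter.unusedSectionVars false
set_option linter.style.haveILetI false

namespace CfsgLib.SingerFive

open Matrix Cfsg.Geo CfsgLib.MaxSub

variable {F : Type*} [Field F] [Fintype F] {L : Type*} [Field L] [Algebra F L] [Finite L]
  (e : L ≃ₗ[F] (Fin 5 → F)) {c : Lˣ} (ho : orderOf c = pts (Fintype.card F))
  (hc : ∀ a : Lˣ, a ∈ Subgroup.zpowers c ↔ Algebra.norm F (a : L) = 1)

include ho hc

include e in
theorem not_scalar_gen_pow {s : ℕ} (hs : ¬ red (Fintype.card F) ∣ s) (z : F) :
    algebraMap F L z ≠ (c : L) ^ s := fun h => hs ((scalar_iff e ho hc).1 ⟨z, h⟩)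

include e in
theorem not_red_dvd_small {s : ℕ} (h0 : 0 < s) (h : s ≤ 30) : ¬ red (Fintype.card F) ∣ s := fun hd => by
  have := Nat.le_of_dvd h0 hd
  have := big_red (q := Fintype.card F) Fintype.one_lt_card
  omega

/-- A subspace invariant under the torus is trivial. -/
theorem torus_irreducible (W : Submodule F (Fin 5 → F))
    (hW : ∀ w ∈ W, (gl e c).1 *ᵥ w ∈ W) : W = ⊥ ∨ W = ⊤ := by
  let S : Subalgebra F L :=
    { carrier := {a | ∀ w ∈ W, mat e a *ᵥ w ∈ W}
      mul_mem' := fun {a b} ha hb w hw => by rw [map_mul, ← mulVec_mulVec]; exact ha _ (hb w hw)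
      add_mem' := fun {a b} ha hb w hw => by rw [map_add, add_mulVec]; exact W.add_mem (ha w hw) (hb w hw)
      algebraMap_mem' := fun z w hw => by
        rw [AlgHom.commutes, Algebra.algebraMap_eq_smul_one, smul_mulVec, one_mulVec]
        exact W.smul_mem z hw }
  have hall := mem_subalgebra e (S := S) (d := (c : L)) hW
    (fun z hz => not_scalar_gen_pow e ho hc (s := 1) (not_red_dvd_small e ho hc one_pos (by norm_num)) z
      (by rw [pow_one]; exact hz))
  refine or_iff_not_imp_left.2 fun hne => eq_top_iff.2 fun y _ => ?_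
  obtain ⟨w, hw, hw0⟩ := Submodule.exists_mem_ne_zero_of_ne_bot hne
  obtain ⟨x, rfl⟩ := e.surjective w
  obtain ⟨z, rfl⟩ := e.surjective y
  have hx : x ≠ 0 := fun h => hw0 (by rw [h, map_zero])
  have h : ∀ w ∈ W, mat e (z / x) *ᵥ w ∈ W := hall (z / x)
  have := h _ hw
  rwa [mat_mulVec, div_mul_cancel₀ _ hx] at this

/-- A commutative algebra normalised by the torus is in the field. -/
theorem subalgebra_le_field {A : Subalgebra F (Matrix (Fin 5) (Fin 5) F)}
    (hA : ∀ x ∈ A, ∀ y ∈ A, x * y = y * x)
    (hM : ∀ g ∈ Subgroup.zpowers (gl e c), ∀ x ∈ A,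
      (g : Matrix (Fin 5) (Fin 5) F) * x * ((g⁻¹ : GL (Fin 5) F) : Matrix (Fin 5) (Fin 5) F) ∈ A)
    {x : Matrix (Fin 5) (Fin 5) F} (hx : x ∈ A) : ∃ u, mat e u = x := by
  classical
  letI : CommRing A := { (inferInstance : Ring A) with mul_comm := fun a b => Subtype.ext (hA _ a.2 _ b.2) }
  let cj : ℕ → Matrix (Fin 5) (Fin 5) F → Matrix (Fin 5) (Fin 5) F := fun i X =>
    ((gl e c ^ i : GL (Fin 5) F) : Matrix (Fin 5) (Fin 5) F) * X * (((gl e c ^ i)⁻¹ : GL (Fin 5) F) : Matrix (Fin 5) (Fin 5) F)
  have hcjA : ∀ i : ℕ, ∀ X ∈ A, cj i X ∈ A := fun i X hX => hM _ (Subgroup.pow_mem _ (Subgroup.mem_zpowers _) i) X hX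
  have hcjmul : ∀ i X Y, cj i X * cj i Y = cj i (X * Y) := fun i X Y => by
    simp only [cj, mul_assoc, Units.inv_mul_cancel_left]
  have hcjinj : ∀ i X Y, cj i X = cj i Y → X = Y := fun i X Y h => by
    simpa only [cj, Units.mul_left_inj, Units.mul_right_inj] using h
  -- commutation with a short power puts into the field
  have key : ∀ (X : Matrix (Fin 5) (Fin 5) F) (i j : Fin 6), i < j → cj i X = cj j X → ∃ u, mat e u = X := by
    intro X i j hij heq
    obtain ⟨s, hs⟩ := Nat.exists_eq_add_of_lt (show (i : ℕ) < j from hij)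
    rw [hs, add_assoc] at heq
    have hcomm : Commute X ((gl e c ^ (s + 1) : GL (Fin 5) F) : Matrix (Fin 5) (Fin 5) F) := by
      have h1 : X = cj (s + 1) X := by
        simp only [cj] at heq ⊢
        rw [pow_add, Units.val_mul, _root_.mul_inv_rev, Units.val_mul] at heq
        simp only [mul_assoc, Units.mul_right_inj] at heq
        simp only [← mul_assoc, Units.mul_left_inj] at heq
        exact heq
      show X * _ = _ * X
      conv_lhs => rw [h1]
      simp only [cj, mul_assoc, Units.inv_mul, mul_one]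
    rw [← map_pow] at hcomm
    refine exists_of_commute e (b := _) (not_scalar_gen_pow e ho hc
      (not_red_dvd_small e ho hc (s := s + 1) (by omega) (by have := j.2; omega))) ?_
    rw [← Units.val_pow_eq_pow_val]
    exact hcomm
  -- no elements of square zero
  have hred : ∀ y ∈ A, y * y = 0 → y = 0 := by
    let K0 : Submodule F (Fin 5 → F) :=
      { carrier := {v | ∀ y ∈ A, y * y = 0 → y *ᵥ v = 0}
        add_mem' := fun {u v} hu hv y hy h => by rw [mulVec_add, hu y hy h, hv y hy h, add_zero]
        zero_mem' := fun y _ _ => mulVec_zero y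
        smul_mem' := fun r v hv y hy h => by rw [mulVec_smul, hv y hy h, smul_zero] }
    have hinv : ∀ w ∈ K0, (gl e c).1 *ᵥ w ∈ K0 := by
      intro w hw y hy h
      have hy' := hM (gl e c)⁻¹ (Subgroup.inv_mem _ (Subgroup.mem_zpowers _)) y hy
      rw [inv_inv] at hy'
      have h' := hw _ hy' (by
        simp only [mul_assoc, Units.mul_inv_cancel_left]
        rw [← mul_assoc y y, h, zero_mul, mul_zero])
      rw [mulVec_mulVec]
      have h2 := congrArg (fun v => (gl e c).1 *ᵥ v) h'
      simp only [mulVec_mulVec, mulVec_zero, mul_assoc, Units.mul_inv_cancel_left] at h2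
      exact h2
    rcases torus_irreducible e ho hc K0 hinv with hbot | htop
    · exfalso
      let S : Set ℕ := {d | ∃ U : Submodule F (Fin 5 → F), U ≠ ⊥ ∧ (∀ y ∈ A, ∀ u ∈ U, y *ᵥ u ∈ U) ∧
        Module.finrank F U = d}
      have hS : ∃ d, d ∈ S := ⟨_, ⊤, top_ne_bot, fun _ _ _ _ => trivial, rfl⟩
      obtain ⟨U, hU0, hU, hUd⟩ := Nat.find_spec hS
      refine hU0 (le_bot_iff.1 (hbot ▸ fun u hu y hy h => ?_))
      let U' := U.map (Matrix.toLin' y)
      have hle : U' ≤ U := by
        rintro _ ⟨v, hv, rfl⟩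
        rw [toLin'_apply]; exact hU y hy v hv
      by_contra hne
      have hU'0 : U' ≠ ⊥ := fun h0 => hne (by
        have := Submodule.mem_map_of_mem (f := Matrix.toLin' y) hu
        rwa [show U.map (Matrix.toLin' y) = ⊥ from h0, Submodule.mem_bot, toLin'_apply] at this)
      have hinv' : ∀ z ∈ A, ∀ v ∈ U', z *ᵥ v ∈ U' := by
        rintro z hz _ ⟨v, hv, rfl⟩
        refine ⟨z *ᵥ v, hU z hz v hv, ?_⟩
        rw [toLin'_apply, toLin'_apply, mulVec_mulVec, mulVec_mulVec, hA y hy z hz]
      have heq : U' = U := Submodule.eq_of_le_of_finrank_le hle (by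
        rw [hUd]; exact Nat.find_min' hS ⟨U', hU'0, hinv', rfl⟩)
      apply hne
      obtain ⟨v, -, rfl⟩ : u ∈ U.map (Matrix.toLin' y) := by rw [show U.map (Matrix.toLin' y) = U from heq]; exact hu
      rw [toLin'_apply, mulVec_mulVec, h, zero_mulVec]
    · intro y hy h
      refine Matrix.ext_of_mulVec_single fun i => ?_
      rw [zero_mulVec]
      exact (show (Pi.single i 1 : Fin 5 → F) ∈ K0 by rw [htop]; trivial) y hy h
  have hnil : ∀ (k : ℕ) (y : A), y ^ k = 0 → y = 0 := by
    intro k
    induction k using Nat.strong_induction_on with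
    | _ k ih =>
      intro y hk
      rcases Nat.lt_or_ge k 2 with hk2 | hk2
      · interval_cases k
        · rw [pow_zero] at hk
          exact eq_zero_of_zero_eq_one hk.symm y
        · rwa [pow_one] at hk
      · refine ih (k - 1) (by omega) y ?_
        apply Subtype.ext
        refine hred _ (y ^ (k - 1)).2 ?_
        have : y ^ (k - 1) * y ^ (k - 1) = 0 := by
          rw [← pow_add, show k - 1 + (k - 1) = k + (k - 2) by omega, pow_add, hk, zero_mul]
        exact congrArg Subtype.val this
  -- no idempotents but zero and one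
  let rk : Matrix (Fin 5) (Fin 5) F → ℕ := fun X => Module.finrank F (LinearMap.range (Matrix.toLin' X))
  have hrange : ∀ X Y : Matrix (Fin 5) (Fin 5) F,
      LinearMap.range (Matrix.toLin' (X * Y)) ≤ LinearMap.range (Matrix.toLin' X) := fun X Y => by
    rw [Matrix.toLin'_mul]; exact LinearMap.range_comp_le_range _ _
  have hfixr : ∀ {X : Matrix (Fin 5) (Fin 5) F}, X * X = X → ∀ u ∈ LinearMap.range (Matrix.toLin' X), X *ᵥ u = u := by
    rintro X hX _ ⟨v, rfl⟩
    rw [toLin'_apply, mulVec_mulVec, hX]
  have hidem : ∀ y ∈ A, y * y = y → y = 0 ∨ y = 1 := by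
    by_contra hcon
    push Not at hcon
    obtain ⟨y₀, hy₀A, hy₀, hy₀0, hy₀1⟩ := hcon
    have hS : ∃ d, ∃ y ∈ A, y * y = y ∧ y ≠ 0 ∧ rk y = d := ⟨_, y₀, hy₀A, hy₀, hy₀0, rfl⟩
    obtain ⟨ε, hεA, hε, hε0, hεd⟩ := Nat.find_spec hS
    have hmin : ∀ y ∈ A, y * y = y → y ≠ 0 → rk ε ≤ rk y := fun y hyA hy hy0 => by
      rw [hεd]; exact Nat.find_min' hS ⟨y, hyA, hy, hy0, rfl⟩
    have hεlt : rk ε < 5 := by
      by_contra hge
      have h5 : LinearMap.range (Matrix.toLin' y₀) = ⊤ := by
        refine Submodule.eq_top_of_finrank_eq ?_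
        have h1 := hmin y₀ hy₀A hy₀ hy₀0
        have h2 := Submodule.finrank_le (LinearMap.range (Matrix.toLin' y₀))
        simp only [rk, Module.finrank_fin_fun] at h1 h2 hge ⊢
        omega
      exact hy₀1 (Matrix.ext_of_mulVec_single fun i => by
        rw [one_mulVec]; exact hfixr hy₀ _ (h5 ▸ Submodule.mem_top))
    have hcjrk : ∀ i, rk (cj i ε) = rk ε := fun i => by
      show (cj i ε).rank = ε.rank
      simp only [cj]
      rw [Matrix.rank_mul_eq_left_of_isUnit_det _ _ ((Matrix.isUnit_iff_isUnit_det _).1 (Units.isUnit _)),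
        Matrix.rank_mul_eq_right_of_isUnit_det _ _ ((Matrix.isUnit_iff_isUnit_det _).1 (Units.isUnit _))]
    by_cases hsame : ∃ i j : Fin 6, i < j ∧ cj i ε = cj j ε
    · obtain ⟨i, j, hij, hE⟩ := hsame
      obtain ⟨u, hu⟩ := key _ i j hij hE
      have hu2 : u * u = u := mat_injective e (by rw [map_mul, hu, hε])
      rcases eq_or_ne u 0 with rfl | hu0
      · exact hε0 (by rw [← hu, map_zero])
      · rw [(mul_eq_right₀ hu0).1 hu2, map_one] at hu
        have h51 : rk (1 : Matrix (Fin 5) (Fin 5) F) = 5 := by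
          show (1 : Matrix (Fin 5) (Fin 5) F).rank = 5
          rw [Matrix.rank_one, Fintype.card_fin]
        rw [← hu, h51] at hεlt
        omega
    · push Not at hsame
      have hne : ∀ i j : Fin 6, i ≠ j → cj i ε ≠ cj j ε := fun i j hij => by
        rcases lt_or_gt_of_ne hij with h' | h'
        exacts [hsame i j h', (hsame j i h').symm]
      have hzero : ∀ i j : Fin 6, i ≠ j → cj i ε * cj j ε = 0 := by
        intro i j hij
        by_contra hp
        set X := cj i ε with hX
        set Y := cj j ε with hY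
        have hXA : X ∈ A := hcjA _ _ hεA
        have hYA : Y ∈ A := hcjA _ _ hεA
        have hXX : X * X = X := by rw [hX, hcjmul, hε]
        have hYY : Y * Y = Y := by rw [hY, hcjmul, hε]
        have hP2 : X * Y * (X * Y) = X * Y := by
          rw [mul_assoc, ← mul_assoc Y X Y, hA Y hYA X hXA, mul_assoc X Y Y, hYY, ← mul_assoc, hXX]
        have hm := hmin _ (A.mul_mem hXA hYA) hP2 hp
        have e1 : LinearMap.range (Matrix.toLin' (X * Y)) = LinearMap.range (Matrix.toLin' X) :=
          Submodule.eq_of_le_of_finrank_le (hrange X Y) (le_of_eq_of_le (hcjrk i) hm)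
        have e2 : LinearMap.range (Matrix.toLin' (X * Y)) = LinearMap.range (Matrix.toLin' Y) := by
          refine Submodule.eq_of_le_of_finrank_le ?_ (le_of_eq_of_le (hcjrk j) hm)
          rw [hA X hXA Y hYA]; exact hrange Y X
        have e3 : ∀ {P Q : Matrix (Fin 5) (Fin 5) F}, P * P = P →
            LinearMap.range (Matrix.toLin' P) = LinearMap.range (Matrix.toLin' Q) → P * Q = Q := by
          intro P Q hP hPQ
          refine Matrix.ext_of_mulVec_single fun k => ?_
          rw [← mulVec_mulVec]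
          exact hfixr hP _ (hPQ ▸ ⟨_, toLin'_apply _ _⟩)
        exact hne i j hij (by
          show X = Y
          rw [← e3 hYY (e2.symm.trans e1), hA Y hYA X hXA, e3 hXX (e1.symm.trans e2)])
      have hv : ∀ i : Fin 6, ∃ v, cj i ε *ᵥ v = v ∧ v ≠ 0 := by
        intro i
        have hi0 : LinearMap.range (Matrix.toLin' (cj i ε)) ≠ ⊥ := by
          rw [ne_eq, LinearMap.range_eq_bot, LinearEquiv.map_eq_zero_iff]
          exact fun h => hε0 (hcjinj i _ _ (h.trans (by simp [cj])))
        obtain ⟨v, hv, hv0⟩ := Submodule.exists_mem_ne_zero_of_ne_bot hi0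
        exact ⟨v, hfixr (by rw [hcjmul, hε]) v hv, hv0⟩
      choose V hV hV0 using hv
      have hli : LinearIndependent F V := by
        rw [Fintype.linearIndependent_iff]
        intro g hg i
        have := congrArg (fun u => cj i ε *ᵥ u) hg
        simp only [mulVec_sum, mulVec_smul, mulVec_zero] at this
        rw [Finset.sum_eq_single i (fun j _ hji => by
          rw [← hV j, mulVec_mulVec, hzero i j (Ne.symm hji), zero_mulVec, smul_zero])
          (fun h => absurd (Finset.mem_univ i) h), hV] at this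
        exact (smul_eq_zero.1 this).resolve_right (hV0 i)
      have := hli.fintype_card_le_finrank
      rw [Fintype.card_fin, Module.finrank_fin_fun] at this
      omega
  haveI : Finite A := Subtype.finite
  have hunit : ∀ y : A, y ≠ 0 → IsUnit y := by
    intro y hy
    obtain ⟨i, j, hij, heq⟩ := Finite.exists_ne_map_eq_of_infinite fun k : ℕ => y ^ k
    wlog hlt : i < j generalizing i j
    · exact this j i (Ne.symm hij) heq.symm (by omega)
    obtain ⟨d, rfl⟩ := Nat.exists_eq_add_of_lt hlt
    have hper : ∀ m, i ≤ m → ∀ t, y ^ (m + t * (d + 1)) = y ^ m := by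
      intro m hm t
      obtain ⟨r, rfl⟩ := Nat.exists_eq_add_of_le hm
      induction t with
      | zero => simp
      | succ t ih =>
        rw [show i + r + (t + 1) * (d + 1) = (i + d + 1) + (r + t * (d + 1)) by ring, pow_add, ← heq,
          ← pow_add, ← add_assoc, ih]
    have hm : i ≤ (i + 1) * (d + 1) := by nlinarith
    rcases hidem _ (y ^ ((i + 1) * (d + 1))).2 (congrArg Subtype.val
      (show y ^ ((i + 1) * (d + 1)) * y ^ ((i + 1) * (d + 1)) = y ^ ((i + 1) * (d + 1)) by
        rw [← pow_add]; exact hper _ hm (i + 1))) with h | h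
    · exact absurd (hnil _ y (Subtype.ext h)) hy
    · exact isUnit_iff_exists_inv.2 ⟨y ^ ((i + 1) * (d + 1) - 1), by
        rw [← pow_succ', Nat.sub_add_cancel (Nat.mul_pos (by omega) (by omega))]
        exact Subtype.ext h⟩
  haveI : Nontrivial A := ⟨0, 1, fun h => zero_ne_one (congrArg Subtype.val h)⟩
  haveI : NoZeroDivisors A := ⟨fun {a b} h => or_iff_not_imp_left.2 fun ha => (hunit a ha).mul_right_eq_zero.1 h⟩
  haveI : IsDomain A := NoZeroDivisors.to_isDomain A
  let Y : Fin 6 → A := fun i => ⟨_, hcjA (i : ℕ) x hx⟩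
  let P : Polynomial A := x.charpoly.map (algebraMap F A)
  have hroot : ∀ i, P.IsRoot (Y i) := by
    intro i
    rw [Polynomial.IsRoot, Polynomial.eval_map_algebraMap]
    apply Subtype.ext
    show A.val (Polynomial.aeval (Y i) x.charpoly) = 0
    refine (Polynomial.aeval_algHom_apply A.val (Y i) x.charpoly).symm.trans ?_
    have he : (cj i x).charpoly = x.charpoly := by
      simp only [cj]; rw [Matrix.coe_units_inv]; exact Matrix.charpoly_units_conj _ x
    show Polynomial.aeval (cj i x) x.charpoly = 0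
    rw [← he]
    exact Matrix.aeval_self_charpoly _
  obtain ⟨i, j, hij, hY⟩ : ∃ i j : Fin 6, i < j ∧ Y i = Y j := by
    by_contra hno
    push Not at hno
    have hinj : Function.Injective Y := fun i j h => by
      by_contra hij
      rcases lt_or_gt_of_ne hij with h' | h'
      exacts [hno i j h' h, hno j i h' h.symm]
    have hP0 : P ≠ 0 := ((Matrix.charpoly_monic x).map _).ne_zero
    have h1 : (Finset.univ.image Y).card ≤ P.natDegree := by
      refine le_trans (Finset.card_le_card (t := P.roots.toFinset) fun y hy => ?_)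
        ((Multiset.toFinset_card_le _).trans (Polynomial.card_roots' P))
      obtain ⟨i, -, rfl⟩ := Finset.mem_image.1 hy
      rw [Multiset.mem_toFinset, Polynomial.mem_roots hP0]
      exact hroot i
    rw [Finset.card_image_of_injective _ hinj, Finset.card_univ, Fintype.card_fin,
      (Matrix.charpoly_monic x).natDegree_map, Matrix.charpoly_natDegree_eq_dim, Fintype.card_fin] at h1
    omega
  exact key x i j hij (congrArg Subtype.val hY)

/-- A group of matrices normalised by the torus, with scalar commutators and no non-scalar element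
of the field, has at most 25 classes modulo scalars. -/
theorem card_le_of_scalar_commutators {E : Subgroup (GL (Fin 5) F)}
    (hnorm : ∀ g ∈ Subgroup.zpowers (gl e c), ∀ x ∈ E, g * x * g⁻¹ ∈ E)
    (hcomm : ∀ x ∈ E, ∀ y ∈ E, ∃ z : F, (y : Matrix (Fin 5) (Fin 5) F) * x = z • ((x : Matrix (Fin 5) (Fin 5) F) * y))
    (hfield : ∀ x ∈ E, ∀ u : L, mat e u = (x : Matrix (Fin 5) (Fin 5) F) → Scal x)
    {ι : Type*} [Fintype ι] (f : ι → GL (Fin 5) F) (hf : ∀ i, f i ∈ E)
    (hsep : ∀ i j, Scal (f i * (f j)⁻¹) → i = j) : Fintype.card ι ≤ 25 := by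
  classical
  let E0 : Subgroup (GL (Fin 5) F) :=
    { carrier := {x | x ∈ E ∧ ∀ y ∈ E, x * y = y * x}
      one_mem' := ⟨E.one_mem, fun y _ => by rw [one_mul, mul_one]⟩
      mul_mem' := fun {a b} ha hb => ⟨E.mul_mem ha.1 hb.1, fun y hy => by
        rw [mul_assoc, hb.2 y hy, ← mul_assoc, ha.2 y hy, mul_assoc]⟩
      inv_mem' := fun {a} ha => ⟨E.inv_mem ha.1, fun y hy =>
        (Commute.inv_left (ha.2 y hy)).eq⟩ }
  have hZ : ∀ x ∈ E, (∀ y ∈ E, x * y = y * x) → Scal x := by
    intro x hx hxc
    let S : Set (Matrix (Fin 5) (Fin 5) F) := (fun a : GL (Fin 5) F => (a : Matrix (Fin 5) (Fin 5) F)) '' E0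
    have hA : ∀ x ∈ Algebra.adjoin F S, ∀ y ∈ Algebra.adjoin F S, x * y = y * x := by
      intro x hx y hy
      refine (Algebra.commute_of_mem_adjoin_of_forall_mem_commute hy fun b hb => ?_).eq
      refine (Algebra.commute_of_mem_adjoin_of_forall_mem_commute hx fun a ha => ?_).symm
      obtain ⟨a, ha', rfl⟩ := ha
      obtain ⟨b, hb', rfl⟩ := hb
      exact congrArg Units.val (hb'.2 a ha'.1)
    have hM : ∀ g ∈ Subgroup.zpowers (gl e c), ∀ x ∈ Algebra.adjoin F S, (g : Matrix (Fin 5) (Fin 5) F) * x *
        ((g⁻¹ : GL (Fin 5) F) : Matrix (Fin 5) (Fin 5) F) ∈ Algebra.adjoin F S := by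
      intro g hg x hx
      induction hx using Algebra.adjoin_induction with
      | mem x hx =>
        obtain ⟨a, ha, rfl⟩ := hx
        refine Algebra.subset_adjoin ⟨g * a * g⁻¹, ⟨hnorm g hg a ha.1, fun y hy => ?_⟩, ?_⟩
        · have h1 := hnorm g⁻¹ (Subgroup.inv_mem _ hg) y hy
          have h2 := ha.2 _ h1
          rw [inv_inv] at h2
          calc g * a * g⁻¹ * y = g * (a * (g⁻¹ * y * g)) * g⁻¹ := by group
            _ = g * (g⁻¹ * y * g * a) * g⁻¹ := by rw [h2]
            _ = y * (g * a * g⁻¹) := by group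
        · simp only [Units.val_mul]
      | algebraMap r =>
        rw [← Algebra.commutes, mul_assoc, Units.mul_inv, mul_one]
        exact Subalgebra.algebraMap_mem _ r
      | add x y _ _ ihx ihy => rw [mul_add, add_mul]; exact add_mem ihx ihy
      | mul x y _ _ ihx ihy =>
        have : (g : Matrix (Fin 5) (Fin 5) F) * (x * y) * ((g⁻¹ : GL (Fin 5) F) : Matrix (Fin 5) (Fin 5) F) =
            ((g : Matrix (Fin 5) (Fin 5) F) * x * ((g⁻¹ : GL (Fin 5) F) : Matrix (Fin 5) (Fin 5) F)) *
            ((g : Matrix (Fin 5) (Fin 5) F) * y * ((g⁻¹ : GL (Fin 5) F) : Matrix (Fin 5) (Fin 5) F)) := by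
          simp only [mul_assoc, Units.inv_mul_cancel_left]
        rw [this]; exact mul_mem ihx ihy
    obtain ⟨u, hu⟩ := subalgebra_le_field e ho hc hA hM (Algebra.subset_adjoin ⟨x, ⟨hx, hxc⟩, rfl⟩)
    exact hfield x hx u hu
  choose χ hχ using fun (i : ι) (y : E) => hcomm (f i) (hf i) y y.2
  have huni : ∀ (i : ι) (y : E) (r : F), (y : GL (Fin 5) F).1 * (f i).1 = r • ((f i).1 * (y : GL (Fin 5) F).1) →
      χ i y = r := by
    intro i y r h
    rw [hχ i y, ← sub_eq_zero, ← sub_smul, smul_eq_zero, sub_eq_zero] at h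
    exact h.resolve_right ((f i) * (y : GL (Fin 5) F)).ne_zero
  let φ : ι → E →* F := fun i =>
    { toFun := χ i
      map_one' := huni i 1 1 (by simp)
      map_mul' := fun y z => huni i _ _ (by
        rw [Subgroup.coe_mul, Units.val_mul, mul_assoc, hχ i z, mul_smul_comm, ← mul_assoc, hχ i y,
          smul_mul_assoc, smul_smul, mul_comm (χ i z), mul_assoc]) }
  have hinj : Function.Injective φ := by
    intro i j hij
    refine hsep i j (hZ _ (E.mul_mem (hf i) (E.inv_mem (hf j))) fun y hy => ?_)
    have hi' := hχ i ⟨y, hy⟩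
    have hj' := hχ j ⟨y, hy⟩
    rw [show χ i ⟨y, hy⟩ = χ j ⟨y, hy⟩ from DFunLike.congr_fun hij ⟨y, hy⟩] at hi'
    have hjinv : ((f j)⁻¹ : GL (Fin 5) F).1 * y.1 = χ j ⟨y, hy⟩ • (y.1 * ((f j)⁻¹ : GL (Fin 5) F).1) := by
      have h' := congrArg (fun X => ((f j)⁻¹ : GL (Fin 5) F).1 * X * ((f j)⁻¹ : GL (Fin 5) F).1) hj'
      simp only [mul_smul_comm, smul_mul_assoc, mul_assoc, Units.mul_inv, mul_one, Units.inv_mul_cancel_left] at h'
      exact h'
    apply Units.ext
    simp only [Units.val_mul]
    rw [mul_assoc, hjinv, mul_smul_comm, ← mul_assoc y.1, hi', smul_mul_assoc, mul_assoc]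
  have hli := (linearIndependent_monoidHom E F).comp φ hinj
  have hind : LinearIndependent F fun i => (f i).1 := by
    rw [Fintype.linearIndependent_iff]
    intro g hg k
    have hrow : ∀ p r, g k * (f k).1 p r = 0 := by
      intro p r
      refine Fintype.linearIndependent_iff.1 hli (fun i => g i * (f i).1 p r) ?_ k
      funext y
      simp only [Finset.sum_apply, Pi.smul_apply, Function.comp_apply, smul_eq_mul, Pi.zero_apply]
      have h' := congrArg (fun X => (y : GL (Fin 5) F).1 * X * ((y : GL (Fin 5) F)⁻¹ : GL (Fin 5) F).1) hg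
      simp only [Finset.mul_sum, Finset.sum_mul, mul_smul_comm, smul_mul_assoc, hχ, mul_assoc, Units.mul_inv,
        mul_one, mul_zero, zero_mul, smul_smul] at h'
      have h'' := congrFun (congrFun h' p) r
      rw [Matrix.sum_apply] at h''
      rw [Matrix.zero_apply] at h''
      refine (Finset.sum_congr rfl fun i _ => ?_).trans h''
      show g i * (f i).1 p r * χ i y = _
      rw [Matrix.smul_apply, smul_eq_mul]
      ring
    by_contra hk'
    exact (f k).ne_zero (Matrix.ext fun p r => (mul_eq_zero.1 (hrow p r)).resolve_left hk')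
  have := hind.fintype_card_le_finrank
  rwa [Module.finrank_matrix, Fintype.card_fin, Module.finrank_self] at this

end CfsgLib.SingerFive
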