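import Cfsg.Agent.MaxSub.Transvection
import Mathlib.GroupTheory.Sylow
import Mathlib.GroupTheory.GroupAction.Quotient

/-!
# A group doubly transitive on the points of the projective four-space contains the special linear group

The stabiliser of a point `v` is transitive on the points and hyperplanes on both sides.  If it
contains no transvection with centre `v`, elements acting as transvections modulo `v` exist by a
pigeonhole in a Sylow subgroup, and two counts of these elements show that one of them is a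
transvection.  The axes of the transvections with centre `v` then form the whole annihilator.
-/

set_option autoImplicit false
set_option linter.unusedSectionVars false
set_option linter.style.haveILetI false

namespace CfsgLib.SingerFive

open Matrix Cfsg.Geo CfsgLib.MaxSub

variable {F : Type*} [Field F] [Fintype F]

/-- Equal numbers of orbits for equal numbers of fixed points. -/
theorem card_orbits_eq {P α β : Type*} [Group P] [Finite P] [MulAction P α] [MulAction P β]
    [Finite α] [Finite β] (h : ∀ g : P, Nat.card (MulAction.fixedBy α g) = Nat.card (MulAction.fixedBy β g)) :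
    Nat.card (MulAction.orbitRel.Quotient P α) = Nat.card (MulAction.orbitRel.Quotient P β) := by
  classical
  haveI := Fintype.ofFinite P
  haveI := Fintype.ofFinite α
  haveI := Fintype.ofFinite β
  have h1 := MulAction.sum_card_fixedBy_eq_card_orbits_mul_card_group P α
  have h2 := MulAction.sum_card_fixedBy_eq_card_orbits_mul_card_group P β
  rw [Finset.sum_congr rfl (g := fun g => Fintype.card (MulAction.fixedBy β g)) (fun g _ => by
    simpa only [Nat.card_eq_fintype_card] using h g), h2] at h1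
  simp only [Nat.card_eq_fintype_card]
  exact (Nat.eq_of_mul_eq_mul_right Fintype.card_pos h1).symm

/-- A group action by linear maps and scalars on column vectors. -/
abbrev colAct (X : Subgroup (GL (Fin 5) F)) : MulAction (X × Fˣ) (Fin 5 → F) where
  smul g x := (g.2 : F) • ((g.1 : GL (Fin 5) F).1 *ᵥ x)
  one_smul x := show ((1 : Fˣ) : F) • ((1 : GL (Fin 5) F).1 *ᵥ x) = x by simp
  mul_smul g g' x := show ((g.2 * g'.2 : Fˣ) : F) • (((g.1 : GL (Fin 5) F) * g'.1).1 *ᵥ x) =
      (g.2 : F) • ((g.1 : GL (Fin 5) F).1 *ᵥ ((g'.2 : F) • ((g'.1 : GL (Fin 5) F).1 *ᵥ x))) by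
    rw [mulVec_smul, mulVec_mulVec, smul_smul, Units.val_mul, Units.val_mul]

/-- The contragredient action on row vectors. -/
abbrev rowAct (X : Subgroup (GL (Fin 5) F)) : MulAction (X × Fˣ) (Fin 5 → F) where
  smul g f := ((g.2⁻¹ : Fˣ) : F) • (f ᵥ* ((g.1 : GL (Fin 5) F)⁻¹).1)
  one_smul f := show (((1 : Fˣ)⁻¹ : Fˣ) : F) • (f ᵥ* ((1 : GL (Fin 5) F)⁻¹).1) = f by simp
  mul_smul g g' f := show (((g.2 * g'.2)⁻¹ : Fˣ) : F) • (f ᵥ* (((g.1 : GL (Fin 5) F) * g'.1)⁻¹).1) =
      ((g.2⁻¹ : Fˣ) : F) • ((((g'.2⁻¹ : Fˣ) : F) • (f ᵥ* ((g'.1 : GL (Fin 5) F)⁻¹).1)) ᵥ* ((g.1 : GL (Fin 5) F)⁻¹).1) by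
    rw [smul_vecMul, vecMul_vecMul, smul_smul, _root_.mul_inv_rev, Units.val_mul, _root_.mul_inv_rev,
      Units.val_mul, mul_comm (g.2⁻¹ : Fˣ).val]

variable (X : Subgroup (GL (Fin 5) F))

/-- Transitivity on pairs of different points. -/
def TwoTrans : Prop :=
  ∀ u w u' w' : Fin 5 → F, u ≠ 0 → u' ≠ 0 → (∀ c : F, c • u ≠ w) → (∀ c : F, c • u' ≠ w') →
    ∃ g ∈ X, (∃ c : F, c ≠ 0 ∧ g.1 *ᵥ u = c • u') ∧ ∃ c : F, c ≠ 0 ∧ g.1 *ᵥ w = c • w'

variable {X}

theorem exists_indep {u : Fin 5 → F} (hu : u ≠ 0) : ∃ w, ∀ c : F, c • u ≠ w := by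
  by_contra h
  push Not at h
  have : (Submodule.span F {u} : Submodule F (Fin 5 → F)) = ⊤ :=
    eq_top_iff.2 fun w _ => Submodule.mem_span_singleton.2 (h w)
  have h1 := finrank_span_singleton (K := F) hu
  rw [this, finrank_top, Module.finrank_fin_fun] at h1
  omega

theorem TwoTrans.exists_map (h2 : TwoTrans X) {u u' : Fin 5 → F} (hu : u ≠ 0) (hu' : u' ≠ 0) :
    ∃ g ∈ X, ∃ c : F, c ≠ 0 ∧ g.1 *ᵥ u = c • u' := by
  obtain ⟨w, hw⟩ := exists_indep hu
  obtain ⟨w', hw'⟩ := exists_indep hu'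
  obtain ⟨g, hg, h, -⟩ := h2 u w u' w' hu hu' hw hw'
  exact ⟨g, hg, h⟩

theorem TwoTrans.irreducible (h2 : TwoTrans X) : MaxSub.Irreducible X := by
  intro W hW
  refine or_iff_not_imp_left.2 fun hne => eq_top_iff.2 fun y _ => ?_
  obtain ⟨w, hw, hw0⟩ := Submodule.exists_mem_ne_zero_of_ne_bot hne
  rcases eq_or_ne y 0 with rfl | hy
  · exact W.zero_mem
  obtain ⟨g, hg, c, hc, he⟩ := h2.exists_map hw0 hy
  have := W.smul_mem c⁻¹ (hW g hg w hw)
  rwa [he, inv_smul_smul₀ hc] at this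

variable (X) in
/-- The stabiliser of a point. -/
def pointStab (v : Fin 5 → F) (hv : v ≠ 0) : Subgroup (GL (Fin 5) F) where
  carrier := {g | g ∈ X ∧ ∃ c : F, g.1 *ᵥ v = c • v}
  one_mem' := ⟨X.one_mem, 1, by simp⟩
  mul_mem' := by
    rintro g g' ⟨hg, c, hc⟩ ⟨hg', c', hc'⟩
    exact ⟨X.mul_mem hg hg', c' * c, by rw [Units.val_mul, ← mulVec_mulVec, hc', mulVec_smul, hc, smul_smul]⟩
  inv_mem' := by
    rintro g ⟨hg, c, hc⟩
    refine ⟨X.inv_mem hg, c⁻¹, ?_⟩
    have hc0 : c ≠ 0 := fun h => hv (by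
      rw [h, zero_smul] at hc
      have := congrArg (fun x => (g⁻¹).1 *ᵥ x) hc
      simpa only [mulVec_mulVec, Units.inv_mul, one_mulVec, mulVec_zero] using this)
    have := congrArg (fun x => c⁻¹ • ((g⁻¹).1 *ᵥ x)) hc
    simp only [mulVec_mulVec, Units.inv_mul, one_mulVec, mulVec_smul, inv_smul_smul₀ hc0] at this
    exact this.symm

theorem mem_pointStab {v : Fin 5 → F} {hv : v ≠ 0} {g : GL (Fin 5) F} :
    g ∈ pointStab X v hv ↔ g ∈ X ∧ ∃ c : F, g.1 *ᵥ v = c • v := Iff.rfl

theorem eigen_ne_zero {v : Fin 5 → F} (hv : v ≠ 0) {g : GL (Fin 5) F} {c : F} (h : g.1 *ᵥ v = c • v) :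
    c ≠ 0 := fun h0 => hv (by
  rw [h0, zero_smul] at h
  have := congrArg (fun x => (g⁻¹).1 *ᵥ x) h
  simpa only [mulVec_mulVec, Units.inv_mul, one_mulVec, mulVec_zero] using this)

theorem dot_inv_vecMul {g : GL (Fin 5) F} {v : Fin 5 → F} {c : F} (hc : c ≠ 0) (h : g.1 *ᵥ v = c • v)
    (f : Fin 5 → F) : (f ᵥ* (g⁻¹).1) ⬝ᵥ v = c⁻¹ * (f ⬝ᵥ v) := by
  have := dot_conj g f v
  rw [h, dotProduct_smul, smul_eq_mul] at this
  rw [← this, inv_mul_cancel_left₀ hc]

/-- The stabiliser of a point is transitive on the hyperplanes through it and on the others. -/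
theorem stab_transitive (h2 : TwoTrans X) {v : Fin 5 → F} (hv : v ≠ 0) {a a' : Fin 5 → F}
    (ha : a ≠ 0) (ha' : a' ≠ 0) (hiff : a ⬝ᵥ v = 0 ↔ a' ⬝ᵥ v = 0) :
    ∃ g ∈ pointStab X v hv, ∃ c : F, c ≠ 0 ∧ a ᵥ* (g⁻¹).1 = c • a' := by
  classical
  set H := pointStab X v hv with hH
  obtain ⟨w, hw⟩ := exists_indep hv
  -- three orbits on column vectors
  let r : Fin 3 → (Fin 5 → F) := ![0, v, w]
  have hcol : ∀ (g : H × Fˣ) (x : Fin 5 → F), letI := colAct H; g • x = (g.2 : F) • ((g.1 : GL (Fin 5) F).1 *ᵥ x) :=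
    fun g x => rfl
  have hcount : letI := colAct H; Nat.card (MulAction.orbitRel.Quotient (H × Fˣ) (Fin 5 → F)) = 3 := by
    letI := colAct H
    rw [← Nat.card_fin 3]
    refine (Nat.card_eq_of_bijective (fun i => (Quotient.mk'' (r i) : MulAction.orbitRel.Quotient (H × Fˣ) (Fin 5 → F)))
      ⟨?_, ?_⟩).symm
    · intro i j hij
      obtain ⟨g, hg⟩ := MulAction.mem_orbit_iff.1 ((MulAction.orbitRel_apply).1 (Quotient.exact' hij))
      rw [hcol] at hg
      obtain ⟨c, hc⟩ := (mem_pointStab.1 g.1.2).2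
      have hcv := eigen_ne_zero hv hc
      have hw0 : w ≠ 0 := fun h => hw 0 (by rw [zero_smul, h])
      have key : ∀ x, (g.2 : F) • ((g.1 : GL (Fin 5) F).1 *ᵥ x) = 0 → x = 0 := fun x hx => by
        have := congrArg (fun y => ((g.1 : GL (Fin 5) F)⁻¹).1 *ᵥ y) ((smul_eq_zero.1 hx).resolve_left g.2.ne_zero)
        simpa only [mulVec_mulVec, Units.inv_mul, one_mulVec, mulVec_zero] using this
      have key2 : (g.2 : F) • ((g.1 : GL (Fin 5) F).1 *ᵥ w) ≠ v := fun hx => by
        have h0 := congrArg (fun y => ((g.1 : GL (Fin 5) F)⁻¹).1 *ᵥ y) hx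
        have hinv : ((g.1 : GL (Fin 5) F)⁻¹).1 *ᵥ v = c⁻¹ • v := by
          have := congrArg (fun x => c⁻¹ • (((g.1 : GL (Fin 5) F)⁻¹).1 *ᵥ x)) hc
          simp only [mulVec_mulVec, Units.inv_mul, one_mulVec, mulVec_smul, inv_smul_smul₀ hcv] at this
          exact this.symm
        simp only [mulVec_smul, mulVec_mulVec, Units.inv_mul, one_mulVec, hinv] at h0
        exact hw ((g.2 : F)⁻¹ * c⁻¹) (by rw [← smul_smul, ← h0, inv_smul_smul₀ g.2.ne_zero])
      fin_cases i <;> fin_cases j <;> first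
        | rfl
        | (exfalso; simp only [r, Fin.zero_eta, Fin.mk_one, Fin.reduceFinMk, Matrix.cons_val_zero, Matrix.cons_val_one,
            Matrix.cons_val, mulVec_zero, smul_zero] at hg
           first
            | exact hv hg.symm | exact hw0 hg.symm | exact hv (key v hg) | exact hw0 (key w hg)
            | exact key2 hg
            | (rw [hc, smul_smul] at hg; exact hw _ hg))
    · intro q
      induction q using Quotient.inductionOn' with
      | _ x =>
        by_cases hx0 : x = 0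
        · exact ⟨0, by subst hx0; rfl⟩
        by_cases hxv : ∃ c : F, c • v = x
        · obtain ⟨c, rfl⟩ := hxv
          refine ⟨1, Quotient.sound' ((MulAction.orbitRel_apply).2 ?_)⟩
          have hc : c ≠ 0 := fun h => hx0 (by rw [h, zero_smul])
          refine ⟨(1, (Units.mk0 c hc)⁻¹), ?_⟩
          show ((Units.mk0 c hc)⁻¹ : Fˣ).val • ((1 : GL (Fin 5) F).1 *ᵥ (c • v)) = r 1
          simp [r, smul_smul, inv_mul_cancel₀ hc]
        · push Not at hxv
          obtain ⟨g, hg, ⟨c, hc, hgv⟩, d, hd, hgw⟩ := h2 v x v w hv hv hxv hw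
          refine ⟨2, Quotient.sound' ((MulAction.orbitRel_apply).2 ?_)⟩
          refine ⟨(⟨g, mem_pointStab.2 ⟨hg, c, hgv⟩⟩, (Units.mk0 d hd)⁻¹), ?_⟩
          show ((Units.mk0 d hd)⁻¹ : Fˣ).val • (g.1 *ᵥ x) = r 2
          simp [r, hgw, smul_smul, inv_mul_cancel₀ hd]
  -- the same number on row vectors
  have hfix : ∀ g : H × Fˣ,
      (letI := colAct H; Nat.card (MulAction.fixedBy (Fin 5 → F) g)) =
      (letI := rowAct H; Nat.card (MulAction.fixedBy (Fin 5 → F) g)) := by
    intro g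
    set A : Matrix (Fin 5) (Fin 5) F := (g.2 : F) • (g.1 : GL (Fin 5) F).1 - 1 with hA
    have e1 : (letI := colAct H; Nat.card (MulAction.fixedBy (Fin 5 → F) g)) = Nat.card (LinearMap.ker (Matrix.toLin' A)) := by
      letI := colAct H
      refine Nat.card_congr (Equiv.subtypeEquivRight fun x => ?_)
      rw [MulAction.mem_fixedBy, LinearMap.mem_ker, toLin'_apply, hA, sub_mulVec, one_mulVec, smul_mulVec,
        sub_eq_zero]
      exact Iff.rfl
    have e2 : (letI := rowAct H; Nat.card (MulAction.fixedBy (Fin 5 → F) g)) = Nat.card (LinearMap.ker (Matrix.toLin' Aᵀ)) := by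
      letI := rowAct H
      refine Nat.card_congr (Equiv.subtypeEquivRight fun x => ?_)
      rw [MulAction.mem_fixedBy, LinearMap.mem_ker, toLin'_apply, mulVec_transpose, hA, vecMul_sub, vecMul_one,
        vecMul_smul, sub_eq_zero]
      show ((g.2⁻¹ : Fˣ) : F) • (x ᵥ* ((g.1 : GL (Fin 5) F)⁻¹).1) = x ↔ _
      constructor
      · intro h
        conv_lhs => rw [← h]
        rw [smul_vecMul, vecMul_vecMul, Units.inv_mul, vecMul_one, smul_smul, Units.mul_inv, one_smul]
      · intro h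
        conv_lhs => rw [← h]
        rw [smul_vecMul, vecMul_vecMul, Units.mul_inv, vecMul_one, smul_smul, Units.inv_mul, one_smul]
    have e3 : Module.finrank F (LinearMap.ker (Matrix.toLin' A)) = Module.finrank F (LinearMap.ker (Matrix.toLin' Aᵀ)) := by
      have h1 := LinearMap.finrank_range_add_finrank_ker (Matrix.toLin' A)
      have h3 := LinearMap.finrank_range_add_finrank_ker (Matrix.toLin' Aᵀ)
      have h4 : Module.finrank F (LinearMap.range (Matrix.toLin' Aᵀ)) = Module.finrank F (LinearMap.range (Matrix.toLin' A)) :=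
        Matrix.rank_transpose A
      omega
    rw [e1, e2, Module.natCard_eq_pow_finrank (K := F) (V := LinearMap.ker (Matrix.toLin' A)),
      Module.natCard_eq_pow_finrank (K := F) (V := LinearMap.ker (Matrix.toLin' Aᵀ)), e3]
  have hrow : letI := rowAct H; Nat.card (MulAction.orbitRel.Quotient (H × Fˣ) (Fin 5 → F)) = 3 := by
    rw [← hcount]
    exact (@card_orbits_eq (H × Fˣ) (Fin 5 → F) (Fin 5 → F) _ _ (colAct H) (rowAct H) _ _ hfix).symm
  letI := rowAct H
  have hrel : ∀ f f' : Fin 5 → F, (Quotient.mk'' f : MulAction.orbitRel.Quotient (H × Fˣ) (Fin 5 → F)) = Quotient.mk'' f' →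
      ∃ g ∈ H, ∃ c : F, c ≠ 0 ∧ f ᵥ* (g⁻¹).1 = c • f' := by
    intro f f' hff
    obtain ⟨g, hg⟩ := MulAction.mem_orbit_iff.1 ((MulAction.orbitRel_apply).1 (Quotient.exact' hff.symm))
    refine ⟨g.1, g.1.2, (g.2 : F), g.2.ne_zero, ?_⟩
    rw [show f' = g • f from hg.symm]
    show f ᵥ* _ = (g.2 : F) • (((g.2⁻¹ : Fˣ) : F) • (f ᵥ* ((g.1 : GL (Fin 5) F)⁻¹).1))
    rw [smul_smul, Units.mul_inv, one_smul]
  by_contra hcon
  have hne : (Quotient.mk'' a : MulAction.orbitRel.Quotient (H × Fˣ) (Fin 5 → F)) ≠ Quotient.mk'' a' := fun h =>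
    hcon (hrel _ _ h)
  obtain ⟨b, hb0, hbiff⟩ : ∃ b : Fin 5 → F, b ≠ 0 ∧ ¬ (b ⬝ᵥ v = 0 ↔ a ⬝ᵥ v = 0) := by
    by_cases h : a ⬝ᵥ v = 0
    · obtain ⟨b, hb⟩ := exists_dot_eq_one hv
      exact ⟨b, fun e => by simp [e] at hb, by simp [h, hb]⟩
    · obtain ⟨b, hb0, hb⟩ := exists_dot_of_notMem (Submodule.span F {v}) (x := w) (by
        rw [Submodule.mem_span_singleton]; rintro ⟨c, hc⟩; exact hw c hc)
      refine ⟨b, fun e => by simp [e] at hb, ?_⟩
      simp [h, hb0 v (Submodule.mem_span_singleton_self v)]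
  have hinv : ∀ f f' : Fin 5 → F, (Quotient.mk'' f : MulAction.orbitRel.Quotient (H × Fˣ) (Fin 5 → F)) = Quotient.mk'' f' →
      ((f ⬝ᵥ v = 0 ↔ f' ⬝ᵥ v = 0) ∧ (f = 0 ↔ f' = 0)) := by
    intro f f' hff
    obtain ⟨g, hg, c, hc, he⟩ := hrel f f' hff
    obtain ⟨d, hd⟩ := (mem_pointStab.1 hg).2
    have hd0 := eigen_ne_zero hv hd
    constructor
    · have h1 := dot_inv_vecMul hd0 hd f
      rw [he, smul_dotProduct, smul_eq_mul] at h1
      constructor <;> intro h0
      · rw [h0, mul_zero] at h1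
        exact (mul_eq_zero.1 h1).resolve_left hc
      · rw [h0, mul_zero] at h1
        exact (mul_eq_zero.1 h1.symm).resolve_left (inv_ne_zero hd0)
    · constructor <;> intro h0
      · rw [h0, zero_vecMul] at he
        exact (smul_eq_zero.1 he.symm).resolve_left hc
      · rw [h0, smul_zero] at he
        have := congrArg (fun y => y ᵥ* g.1) he
        simpa only [vecMul_vecMul, Units.inv_mul, vecMul_one, zero_vecMul] using this
  let r' : Fin 4 → MulAction.orbitRel.Quotient (H × Fˣ) (Fin 5 → F) :=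
    ![Quotient.mk'' 0, Quotient.mk'' a, Quotient.mk'' a', Quotient.mk'' b]
  have hinj : Function.Injective r' := by
    intro i j hij
    fin_cases i <;> fin_cases j <;> first
      | rfl
      | (exfalso; simp only [r', Fin.zero_eta, Fin.mk_one, Fin.reduceFinMk, Matrix.cons_val_zero,
          Matrix.cons_val_one, Matrix.cons_val] at hij
         first
          | exact hne hij | exact hne hij.symm
          | exact ha ((hinv _ _ hij).2.1 rfl) | exact ha ((hinv _ _ hij).2.2 rfl)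
          | exact ha' ((hinv _ _ hij).2.1 rfl) | exact ha' ((hinv _ _ hij).2.2 rfl)
          | exact hb0 ((hinv _ _ hij).2.1 rfl) | exact hb0 ((hinv _ _ hij).2.2 rfl)
          | exact hbiff (hinv _ _ hij).1 | exact hbiff (hinv _ _ hij).1.symm
          | exact hbiff ((hinv _ _ hij).1.trans hiff.symm) | exact hbiff ((hinv _ _ hij).1.symm.trans hiff.symm))
  have := Nat.card_le_card_of_injective r' hinj
  rw [hrow, Nat.card_fin] at this
  omega

/-- A `p`-group of linear maps fixes a vector modulo an invariant proper subspace. -/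
theorem exists_fixed_mod {p : ℕ} [hp : Fact p.Prime] (hpF : p ∣ Fintype.card F) {R : Subgroup (GL (Fin 5) F)}
    (hR : IsPGroup p R) (W : Submodule F (Fin 5 → F)) (hW : ∀ g ∈ R, ∀ w ∈ W, g.1 *ᵥ w ∈ W) (hne : W ≠ ⊤) :
    ∃ x, x ∉ W ∧ ∀ g ∈ R, g.1 *ᵥ x - x ∈ W := by
  classical
  letI : MulAction R ((Fin 5 → F) ⧸ W) :=
    { smul := fun g => Submodule.mapQ W W (Matrix.toLin' (g : GL (Fin 5) F).1) fun w hw => by
        rw [Submodule.mem_comap, toLin'_apply]; exact hW g g.2 w hw
      one_smul := fun y => by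
        induction y using Submodule.Quotient.induction_on with
        | _ x => show Submodule.mapQ W W _ _ (Submodule.Quotient.mk x) = _; simp
      mul_smul := fun g g' y => by
        induction y using Submodule.Quotient.induction_on with
        | _ x =>
          show Submodule.mapQ W W _ _ (Submodule.Quotient.mk x) =
            Submodule.mapQ W W _ _ (Submodule.mapQ W W _ _ (Submodule.Quotient.mk x))
          simp [mulVec_mulVec] }
  haveI : Finite ((Fin 5 → F) ⧸ W) := Quotient.finite _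
  have hdvd : p ∣ Nat.card ((Fin 5 → F) ⧸ W) := by
    rw [Module.natCard_eq_pow_finrank (K := F), Nat.card_eq_fintype_card]
    refine dvd_pow hpF ?_
    have := Submodule.finrank_quotient_add_finrank W
    have h2 := Submodule.finrank_lt hne
    omega
  obtain ⟨y, hy, hy0⟩ := hR.exists_fixed_point_of_prime_dvd_card_of_fixed_point ((Fin 5 → F) ⧸ W) hdvd
    (a := 0) (fun g => map_zero _)
  obtain ⟨x, rfl⟩ := Submodule.Quotient.mk_surjective W y
  refine ⟨x, fun hx => hy0 ((Submodule.Quotient.mk_eq_zero W).2 hx).symm, fun g hg => ?_⟩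
  have h1 := hy ⟨g, hg⟩
  change Submodule.mapQ W W _ _ (Submodule.Quotient.mk x) = _ at h1
  rw [Submodule.mapQ_apply, toLin'_apply] at h1
  exact (Submodule.Quotient.eq W).1 h1

/-- An element acting modulo `v` as the transvection with centre `w` and axis `a`. -/
def Lift (X : Subgroup (GL (Fin 5) F)) (v w a : Fin 5 → F) : Prop :=
  a ⬝ᵥ v = 0 ∧ a ⬝ᵥ w = 0 ∧ ∃ g ∈ X, ∃ b : Fin 5 → F, b ⬝ᵥ v = 0 ∧
    g.1 = 1 + vecMulVec w a + vecMulVec v b

namespace Lift

variable {v w u a a' : Fin 5 → F}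

theorem zero_right (w : Fin 5 → F) : Lift X v w 0 :=
  ⟨zero_dotProduct v, zero_dotProduct w, 1, X.one_mem, 0, zero_dotProduct v, by simp⟩

theorem add_left (h : Lift X v w a) (h' : Lift X v u a) : Lift X v (w + u) a := by
  obtain ⟨hav, haw, g, hg, b, hbv, hgb⟩ := h
  obtain ⟨-, hau, g', hg', b', hbv', hgb'⟩ := h'
  refine ⟨hav, by rw [dotProduct_add, haw, hau, add_zero], g * g', X.mul_mem hg hg',
    b + b' + (b ⬝ᵥ u) • a, by simp [hbv, hbv', hav], ?_⟩
  rw [Units.val_mul, hgb, hgb']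
  simp only [mul_add, add_mul, one_mul, mul_one, vecMulVec_mul_vecMulVec, hau, hav, hbv, zero_smul,
    vecMulVec_zero, add_zero, add_vecMulVec, vecMulVec_add]
  abel

theorem add_right (h : Lift X v w a) (h' : Lift X v w a') : Lift X v w (a + a') := by
  obtain ⟨hav, haw, g, hg, b, hbv, hgb⟩ := h
  obtain ⟨hav', haw', g', hg', b', hbv', hgb'⟩ := h'
  refine ⟨by rw [add_dotProduct, hav, hav', add_zero], by rw [add_dotProduct, haw, haw', add_zero], g * g',
    X.mul_mem hg hg', b + b' + (b ⬝ᵥ w) • a', by simp [hbv, hbv', hav'], ?_⟩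
  rw [Units.val_mul, hgb, hgb']
  simp only [mul_add, add_mul, one_mul, mul_one, vecMulVec_mul_vecMulVec, haw, hav, hbv, zero_smul,
    vecMulVec_zero, add_zero, vecMulVec_add]
  abel

theorem smul_iff {c : F} (hc : c ≠ 0) : Lift X v (c • w) a ↔ Lift X v w (c • a) := by
  simp only [Lift, dotProduct_smul, smul_dotProduct, smul_eq_mul, mul_eq_zero, hc, false_or, smul_vecMulVec,
    vecMulVec_smul]

theorem translate (h : Lift X v w a) (t : F) : Lift X v (w + t • v) a := by
  obtain ⟨hav, haw, g, hg, b, hbv, hgb⟩ := h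
  refine ⟨hav, by simp [dotProduct_add, dotProduct_smul, haw, hav], g, hg, b - t • a, by simp [hbv, hav], ?_⟩
  rw [hgb, add_vecMulVec, smul_vecMulVec, vecMulVec_sub, vecMulVec_smul]
  abel

theorem conj (h : Lift X v w a) {g : GL (Fin 5) F} (hg : g ∈ X) {c : F} (hc : g.1 *ᵥ v = c • v) (hv : v ≠ 0) :
    Lift X v (g.1 *ᵥ w) (a ᵥ* (g⁻¹).1) := by
  obtain ⟨hav, haw, t, ht, b, hbv, htb⟩ := h
  have hc0 := eigen_ne_zero hv hc
  refine ⟨by rw [dot_inv_vecMul hc0 hc, hav, mul_zero], by rw [dot_conj, haw], g * t * g⁻¹,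
    X.mul_mem (X.mul_mem hg ht) (X.inv_mem hg), c • (b ᵥ* (g⁻¹).1),
    by rw [smul_dotProduct, dot_inv_vecMul hc0 hc, hbv, mul_zero, smul_zero], ?_⟩
  rw [Units.val_mul, Units.val_mul, htb, mul_add, mul_add, mul_one, mul_vecMulVec, mul_vecMulVec, hc, add_mul,
    add_mul, Units.mul_inv, vecMulVec_mul, vecMulVec_mul, smul_vecMulVec, vecMulVec_smul]

end Lift

/-- Two lifts which commute modulo `v` commute, if there is no transvection with centre `v`. -/
theorem dot_eq_zero_of_commute {v w u a a' : Fin 5 → F} (hnt : ∀ d, d ⬝ᵥ v = 0 → tv v d ∈ X → d = 0)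
    {g : GL (Fin 5) F} (hg : g ∈ X) {b : Fin 5 → F} (hbv : b ⬝ᵥ v = 0)
    (hgb : g.1 = 1 + vecMulVec w a + vecMulVec v b) (hav : a ⬝ᵥ v = 0) (h' : Lift X v u a')
    (hau : a ⬝ᵥ u = 0) (ha'w : a' ⬝ᵥ w = 0) (hind : ∀ c : F, c • a ≠ a') : b ⬝ᵥ u = 0 := by
  obtain ⟨hav', hau', g', hg', b', hbv', hgb'⟩ := h'
  set d := (b' ⬝ᵥ w) • a - (b ⬝ᵥ u) • a' with hd
  have hdv : d ⬝ᵥ v = 0 := by simp [hd, sub_dotProduct, hav, hav']
  have hgv : (g * g').1 *ᵥ v = v := by
    rw [Units.val_mul, ← mulVec_mulVec, hgb', hgb]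
    simp [add_mulVec, vecMulVec_mulVec', hav', hbv', hav, hbv]
  have hprod : g' * g = g * g' * tv v d := by
    apply Units.ext
    rw [Units.val_mul (g * g'), tv_coe hdv, mul_add, mul_one, mul_vecMulVec, hgv, Units.val_mul, Units.val_mul,
      hgb, hgb']
    simp only [mul_add, add_mul, one_mul, mul_one, vecMulVec_mul_vecMulVec, hau, ha'w, hav, hav', hbv, hbv',
      zero_smul, vecMulVec_zero, add_zero, zero_add, hd, vecMulVec_sub]
    abel
  have htv : tv v d ∈ X := by
    rw [show tv v d = (g * g')⁻¹ * (g' * g) by rw [hprod, inv_mul_cancel_left]]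
    exact X.mul_mem (X.inv_mem (X.mul_mem hg hg')) (X.mul_mem hg' hg)
  have h0 := hnt d hdv htv
  rw [hd, sub_eq_zero] at h0
  by_contra hb
  exact hind ((b ⬝ᵥ u)⁻¹ * (b' ⬝ᵥ w)) (by rw [← smul_smul, h0, inv_smul_smul₀ hb])

/-- Two lifts which do not commute modulo `v` give a third. -/
theorem lift_commutator {v w u a a' : Fin 5 → F} (h : Lift X v w a) (h' : Lift X v u a')
    (hau : a ⬝ᵥ u = 0) : Lift X v u ((a' ⬝ᵥ w) • a) := by
  obtain ⟨hav, haw, g, hg, b, hbv, hgb⟩ := h
  obtain ⟨hav', hau', g', hg', b', hbv', hgb'⟩ := h'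
  set d := (b' ⬝ᵥ w) • a - (b ⬝ᵥ u) • a' - ((a' ⬝ᵥ w) * (b' ⬝ᵥ u + b ⬝ᵥ u)) • a with hd
  have hdv : d ⬝ᵥ v = 0 := by simp [hd, sub_dotProduct, hav, hav']
  refine ⟨by simp [hav], by simp [hau], (g * g')⁻¹ * (g' * g),
    X.mul_mem (X.inv_mem (X.mul_mem hg hg')) (X.mul_mem hg' hg), d, hdv, ?_⟩
  have hgv : (g * g').1 *ᵥ v = v := by
    rw [Units.val_mul, ← mulVec_mulVec, hgb', hgb]
    simp [add_mulVec, vecMulVec_mulVec', hav', hbv', hav, hbv]
  have hgu : (g * g').1 *ᵥ u = u + (b' ⬝ᵥ u + b ⬝ᵥ u) • v := by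
    rw [Units.val_mul, ← mulVec_mulVec, hgb', hgb]
    simp [add_mulVec, mulVec_add, mulVec_smul, vecMulVec_mulVec', hau', hau, hav, hbv, add_smul]
    abel
  rw [Units.val_mul, Units.inv_mul_eq_iff_eq_mul, mul_add, mul_add, mul_one, mul_vecMulVec, mul_vecMulVec, hgv,
    hgu, Units.val_mul, Units.val_mul, hgb, hgb', add_vecMulVec, smul_vecMulVec]
  simp only [mul_add, add_mul, one_mul, mul_one, vecMulVec_mul_vecMulVec, haw, hau, hau', hav, hav', hbv, hbv',
    zero_smul, vecMulVec_zero, add_zero, zero_add, hd, vecMulVec_sub, vecMulVec_smul, smul_smul]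
  module

/-- There is a lift of a transvection, or a transvection with centre `v`. -/
theorem exists_lift (h2 : TwoTrans X) {v : Fin 5 → F} (hv : v ≠ 0)
    (hnt : ∀ d, d ⬝ᵥ v = 0 → tv v d ∈ X → d = 0) :
    ∃ w a, (∀ c : F, c • v ≠ w) ∧ a ≠ 0 ∧ Lift X v w a := by
  classical
  set H := pointStab X v hv with hH
  obtain ⟨p, hchar⟩ := CharP.exists F
  obtain ⟨f, hp, hq⟩ := FiniteField.card F p
  haveI := Fact.mk hp
  haveI := hchar
  have hpF : p ∣ Fintype.card F := hq ▸ dvd_pow_self p f.ne_zero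
  obtain ⟨a₁, ha₁⟩ := exists_dot_eq_one hv
  have hdvd : Fintype.card F ^ 4 ∣ Nat.card H := by
    letI := rowAct H
    have horb : MulAction.orbit (H × Fˣ) a₁ = {f : Fin 5 → F | f ⬝ᵥ v ≠ 0} := by
      ext f
      constructor
      · rintro ⟨g, rfl⟩
        show (((g.2⁻¹ : Fˣ) : F) • _) ⬝ᵥ v ≠ 0
        obtain ⟨d, hd⟩ := (mem_pointStab.1 g.1.2).2
        rw [smul_dotProduct, dot_inv_vecMul (eigen_ne_zero hv hd) hd, ha₁, mul_one, smul_eq_mul]
        exact mul_ne_zero (Units.ne_zero _) (inv_ne_zero (eigen_ne_zero hv hd))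
      · intro hf
        have hf0 : f ≠ 0 := fun e => hf (by rw [e, zero_dotProduct])
        obtain ⟨g, hg, c, hc, he⟩ := stab_transitive h2 hv (a := a₁) (a' := f) (fun e => by simp [e] at ha₁) hf0
          (by simp [ha₁, show f ⬝ᵥ v ≠ 0 from hf])
        refine ⟨(⟨g, hg⟩, Units.mk0 c hc), ?_⟩
        show (((Units.mk0 c hc)⁻¹ : Fˣ) : F) • (a₁ ᵥ* (g⁻¹).1) = f
        rw [he, Units.val_inv_eq_inv_val, Units.val_mk0, inv_smul_smul₀ hc]
    have h1 : Nat.card (MulAction.orbit (H × Fˣ) a₁) ∣ Nat.card (H × Fˣ) :=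
      ⟨_, ((MulAction.index_stabilizer (H × Fˣ) a₁).symm ▸ (Subgroup.index_mul_card (MulAction.stabilizer (H × Fˣ) a₁)).symm :
        Nat.card (H × Fˣ) = (MulAction.orbit (H × Fˣ) a₁).ncard * Nat.card (MulAction.stabilizer (H × Fˣ) a₁))⟩
    rw [horb, Nat.card_prod, Nat.card_units, Nat.card_eq_fintype_card (α := F)] at h1
    have hcount : Nat.card {f : Fin 5 → F | f ⬝ᵥ v ≠ 0} = Fintype.card F ^ 4 * (Fintype.card F - 1) := by
      let l : (Fin 5 → F) →ₗ[F] F := ((dotProductBilin F F).flip v)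
      have hl : ∀ f, l f = f ⬝ᵥ v := fun f => rfl
      have hker : Nat.card (LinearMap.ker l) = Fintype.card F ^ 4 := by
        have h := LinearMap.finrank_range_add_finrank_ker l
        rw [Module.finrank_fin_fun, LinearMap.range_eq_top.2 (fun c => ⟨c • a₁, by rw [hl, smul_dotProduct, ha₁, smul_eq_mul, mul_one]⟩),
          finrank_top, Module.finrank_self] at h
        rw [Module.natCard_eq_pow_finrank (K := F), Nat.card_eq_fintype_card]
        congr 1
        omega
      rw [← hker, Nat.mul_sub, mul_one]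
      have : Nat.card {f : Fin 5 → F | f ⬝ᵥ v ≠ 0} + Nat.card (LinearMap.ker l) =
          Nat.card (Fin 5 → F) := by
        rw [add_comm, Nat.card_congr (Equiv.subtypeEquivRight fun f => (by rw [LinearMap.mem_ker, hl] : f ∈ LinearMap.ker l ↔ f ⬝ᵥ v = 0))]
        rw [← Nat.card_sum]
        exact Nat.card_congr (Equiv.sumCompl fun f : Fin 5 → F => f ⬝ᵥ v = 0)
      rw [Nat.card_fun, Nat.card_fin, Nat.card_eq_fintype_card (α := F)] at this
      rw [hker] at this ⊢
      rw [show Fintype.card F ^ 4 * Fintype.card F = Fintype.card F ^ 5 by ring]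
      omega
    rw [hcount] at h1
    exact Nat.dvd_of_mul_dvd_mul_right (by have := Fintype.one_lt_card (α := F); omega) h1
  obtain ⟨R', hR'⟩ := Sylow.exists_subgroup_card_pow_prime p (G := H) (n := (f : ℕ) * 4)
    (by rw [pow_mul, ← hq]; exact hdvd)
  set R := R'.map H.subtype with hRdef
  have hRH : R ≤ H := Subgroup.map_subtype_le _
  have hRc : Nat.card R = Fintype.card F ^ 4 := by
    rw [hRdef, Subgroup.card_map_of_injective H.subtype_injective, hR', pow_mul, ← hq]
  have hR : IsPGroup p R := IsPGroup.of_card (n := (f : ℕ) * 4) (by rw [hRc, hq, pow_mul])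
  have hRv : ∀ g ∈ R, g.1 *ᵥ v = v := by
    intro g hg
    obtain ⟨c, hc⟩ := (mem_pointStab.1 (hRH hg)).2
    obtain ⟨k, hk⟩ := hR ⟨g, hg⟩
    have hk' : g ^ p ^ k = 1 := congrArg Subtype.val hk
    have hpow : ∀ j : ℕ, (g ^ j).1 *ᵥ v = c ^ j • v := by
      intro j
      induction j with
      | zero => simp
      | succ j ih => rw [pow_succ', Units.val_mul, ← mulVec_mulVec, ih, mulVec_smul, hc, smul_smul, pow_succ]
    have h1 := hpow (p ^ k)
    rw [hk', Units.val_one, one_mulVec] at h1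
    have h3 : c ^ p ^ k = 1 := by
      have h4 : (c ^ p ^ k - 1) • v = 0 := by rw [sub_smul, one_smul, ← h1, sub_self]
      exact sub_eq_zero.1 ((smul_eq_zero.1 h4).resolve_right hv)
    have h5 : (c - 1) ^ p ^ k = 0 := by rw [sub_pow_char_pow, h3, one_pow, sub_self]
    rw [hc, sub_eq_zero.1 (eq_zero_of_pow_eq_zero h5), one_smul]
  set W₁ := Submodule.span F ({v} : Set (Fin 5 → F)) with hW₁
  have hd1 : Module.finrank F W₁ = 1 := finrank_span_singleton hv
  have hne : ∀ W : Submodule F (Fin 5 → F), Module.finrank F W < 5 → W ≠ ⊤ := fun W h e => by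
    rw [e, finrank_top, Module.finrank_fin_fun] at h; omega
  have step : ∀ (W : Submodule F (Fin 5 → F)) (d : ℕ), Module.finrank F W = d → d < 5 →
      (∀ g ∈ R, ∀ w ∈ W, g.1 *ᵥ w ∈ W) → ∃ x, x ∉ W ∧ (∀ g ∈ R, g.1 *ᵥ x - x ∈ W) ∧
        Module.finrank F (W ⊔ Submodule.span F {x} : Submodule F (Fin 5 → F)) = d + 1 ∧
        ∀ g ∈ R, ∀ w ∈ W ⊔ Submodule.span F {x}, g.1 *ᵥ w ∈ W ⊔ Submodule.span F {x} := by
    intro W d hd hd5 hW
    obtain ⟨x, hx, hfix⟩ := exists_fixed_mod hpF hR W hW (hne W (hd ▸ hd5))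
    refine ⟨x, hx, hfix, ?_, ?_⟩
    · have hinf : W ⊓ Submodule.span F {x} = ⊥ := by
        rw [← disjoint_iff]
        exact (Submodule.disjoint_span_singleton' (fun e => hx (by rw [e]; exact W.zero_mem))).2 hx
      have := Submodule.finrank_sup_add_finrank_inf_eq W (Submodule.span F {x})
      rw [hinf, finrank_bot, finrank_span_singleton (fun e => hx (by rw [e]; exact W.zero_mem)), hd, add_zero] at this
      exact this
    · intro g hg w hw
      obtain ⟨y, hy, z, hz, rfl⟩ := Submodule.mem_sup.1 hw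
      obtain ⟨c, rfl⟩ := Submodule.mem_span_singleton.1 hz
      rw [mulVec_add, mulVec_smul, show g.1 *ᵥ x = (g.1 *ᵥ x - x) + x by abel, smul_add, ← add_assoc]
      exact Submodule.mem_sup.2 ⟨_, W.add_mem (hW g hg y hy) (W.smul_mem c (hfix g hg)), _, hz, rfl⟩
  obtain ⟨w, hw, hwf, hd2, hW2⟩ := step W₁ 1 hd1 (by norm_num) (fun g hg x hx => by
    obtain ⟨c, rfl⟩ := Submodule.mem_span_singleton.1 hx
    rw [mulVec_smul, hRv g hg]; exact hx)
  set W₂ := W₁ ⊔ Submodule.span F {w}
  obtain ⟨x, hx, hxf, hd3, hW3⟩ := step W₂ 2 hd2 (by norm_num) hW2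
  set W₃ := W₂ ⊔ Submodule.span F {x}
  obtain ⟨y, hy, hyf, hd4, hW4⟩ := step W₃ 3 hd3 (by norm_num) hW3
  set W₄ := W₃ ⊔ Submodule.span F {y}
  obtain ⟨z, hz, hzf, hd5, -⟩ := step W₄ 4 hd4 (by norm_num) hW4
  have htop : W₄ ⊔ Submodule.span F {z} = ⊤ :=
    Submodule.eq_top_of_finrank_eq (by rw [hd5, Module.finrank_fin_fun])
  have key2 : ∀ g : R, ∃ c : F, (g : GL (Fin 5) F).1 *ᵥ y - y - c • x ∈ W₂ := fun g => by
    obtain ⟨a, ha, b, hb, hab⟩ := Submodule.mem_sup.1 (hyf g g.2)
    obtain ⟨c, rfl⟩ := Submodule.mem_span_singleton.1 hb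
    exact ⟨c, by rw [← hab, add_sub_cancel_right]; exact ha⟩
  have key3 : ∀ g : R, ∃ c : F × F, (g : GL (Fin 5) F).1 *ᵥ z - z - c.1 • y - c.2 • x ∈ W₂ := fun g => by
    obtain ⟨a, ha, b, hb, hab⟩ := Submodule.mem_sup.1 (hzf g g.2)
    obtain ⟨c, rfl⟩ := Submodule.mem_span_singleton.1 hb
    obtain ⟨a', ha', b', hb', hab'⟩ := Submodule.mem_sup.1 ha
    obtain ⟨c', rfl⟩ := Submodule.mem_span_singleton.1 hb'
    exact ⟨(c, c'), by rw [← hab, ← hab', add_sub_cancel_right, add_sub_cancel_right]; exact ha'⟩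
  choose c2 hc2 using key2
  choose c3 hc3 using key3
  obtain ⟨r, r', hrr, heq⟩ : ∃ r r' : R, r ≠ r' ∧ (c2 r, c3 r) = (c2 r', c3 r') := by
    by_contra hcon
    push Not at hcon
    have := Nat.card_le_card_of_injective (fun r : R => (c2 r, c3 r)) fun r r' h => by
      by_contra hne; exact hcon r r' hne h
    rw [hRc, Nat.card_prod, Nat.card_prod, Nat.card_eq_fintype_card] at this
    have h2 : 2 ≤ Fintype.card F := Fintype.one_lt_card
    have h3 : 0 < Fintype.card F ^ 3 := by positivity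
    nlinarith
  rw [Prod.mk.injEq] at heq
  set k : GL (Fin 5) F := (r : GL (Fin 5) F)⁻¹ * r' with hk
  have hkR : k ∈ R := R.mul_mem (R.inv_mem r.2) r'.2
  have hk1 : k ≠ 1 := fun h => hrr (Subtype.ext (inv_mul_eq_one.1 h))
  have hkW : ∀ u, (r' : GL (Fin 5) F).1 *ᵥ u - (r : GL (Fin 5) F).1 *ᵥ u ∈ W₂ → k.1 *ᵥ u - u ∈ W₂ := fun u hu => by
    have := hW2 _ (R.inv_mem r.2) _ hu
    rw [mulVec_sub, mulVec_mulVec, mulVec_mulVec, Units.inv_mul, one_mulVec, ← Units.val_mul] at this
    exact this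
  have hkall : ∀ u, k.1 *ᵥ u - u ∈ W₂ := by
    intro u
    have hu : u ∈ W₄ ⊔ Submodule.span F {z} := htop ▸ Submodule.mem_top
    simp only [W₄, W₃, Submodule.mem_sup, Submodule.mem_span_singleton] at hu
    obtain ⟨_, ⟨_, ⟨u2, hu2, _, ⟨s, rfl⟩, rfl⟩, _, ⟨t, rfl⟩, rfl⟩, _, ⟨s', rfl⟩, rfl⟩ := hu
    have e2 : k.1 *ᵥ u2 - u2 ∈ W₂ := W₂.sub_mem (hW2 k hkR u2 hu2) hu2
    have ey : k.1 *ᵥ y - y ∈ W₂ := hkW y (by
      have := W₂.sub_mem (hc2 r') (hc2 r)
      rw [heq.1] at this
      convert this using 1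
      abel)
    have ez : k.1 *ᵥ z - z ∈ W₂ := hkW z (by
      have := W₂.sub_mem (hc3 r') (hc3 r)
      rw [heq.2] at this
      convert this using 1
      abel)
    have ex : k.1 *ᵥ x - x ∈ W₂ := hxf k hkR
    have := W₂.add_mem (W₂.add_mem (W₂.add_mem e2 (W₂.smul_mem s ex)) (W₂.smul_mem t ey)) (W₂.smul_mem s' ez)
    convert this using 1
    simp only [mulVec_add, mulVec_smul, smul_sub]
    abel
  -- coordinates
  obtain ⟨α, hαv, hαw⟩ := exists_dot_of_notMem W₁ hw
  obtain ⟨β₀, hβ₀⟩ := exists_dot_eq_one hv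
  set β := β₀ - (β₀ ⬝ᵥ w) • α with hβ
  have hv1 : α ⬝ᵥ v = 0 := hαv v (Submodule.mem_span_singleton_self v)
  have hb1 : β ⬝ᵥ v = 1 := by simp [hβ, sub_dotProduct, hv1, hβ₀]
  have hb2 : β ⬝ᵥ w = 0 := by simp [hβ, sub_dotProduct, hαw]
  have hcoord : ∀ u ∈ W₂, u = (α ⬝ᵥ u) • w + (β ⬝ᵥ u) • v := by
    intro u hu
    simp only [W₂, hW₁, Submodule.mem_sup, Submodule.mem_span_singleton] at hu
    obtain ⟨_, ⟨s, rfl⟩, _, ⟨t, rfl⟩, rfl⟩ := hu
    simp [dotProduct_add, dotProduct_smul, hv1, hαw, hb1, hb2, add_comm]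
  set a := α ᵥ* (k.1 - 1) with ha
  set b := β ᵥ* (k.1 - 1) with hb
  have hku : ∀ u, (k.1 - 1) *ᵥ u = (a ⬝ᵥ u) • w + (b ⬝ᵥ u) • v := fun u => by
    rw [ha, hb, ← dotProduct_mulVec, ← dotProduct_mulVec]
    exact hcoord _ (by rw [sub_mulVec, one_mulVec]; exact hkall u)
  have hkmat : k.1 = 1 + vecMulVec w a + vecMulVec v b := by
    rw [add_assoc, ← sub_eq_iff_eq_add']
    refine Matrix.ext_of_mulVec_single fun i => ?_
    rw [hku, add_mulVec, vecMulVec_mulVec', vecMulVec_mulVec']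
  have hav : a ⬝ᵥ v = 0 := by rw [ha, ← dotProduct_mulVec, sub_mulVec, one_mulVec, hRv k hkR, sub_self, dotProduct_zero]
  have hbv : b ⬝ᵥ v = 0 := by rw [hb, ← dotProduct_mulVec, sub_mulVec, one_mulVec, hRv k hkR, sub_self, dotProduct_zero]
  have haw : a ⬝ᵥ w = 0 := by rw [ha, ← dotProduct_mulVec, sub_mulVec, one_mulVec]; exact hαv _ (hwf k hkR)
  have hkX : k ∈ X := (mem_pointStab.1 (hRH hkR)).1
  refine ⟨w, a, fun c hc => hw (hc ▸ Submodule.smul_mem _ c (Submodule.mem_span_singleton_self v)), fun ha0 => ?_,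
    hav, haw, k, hkX, b, hbv, hkmat⟩
  rw [ha0, vecMulVec_zero, add_zero] at hkmat
  have hkt : k = tv v b := Units.ext (by rw [hkmat, tv_coe hbv])
  rw [hkt] at hk1 hkX
  exact hk1 (by rw [hnt b hbv hkX, tv_zero_right])

/-- Some transvection has centre `v`. -/
theorem exists_tv (h2 : TwoTrans X) {v : Fin 5 → F} (hv : v ≠ 0) :
    ∃ d, d ≠ 0 ∧ d ⬝ᵥ v = 0 ∧ tv v d ∈ X := by
  classical
  by_contra hcon
  have hnt : ∀ d, d ⬝ᵥ v = 0 → tv v d ∈ X → d = 0 := fun d h1 h2 => by
    by_contra h0; exact hcon ⟨d, h0, h1, h2⟩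
  obtain ⟨w, a, hw, ha, hl⟩ := exists_lift h2 hv hnt
  set q := Fintype.card F with hqdef
  have hq2 : 2 ≤ q := Fintype.one_lt_card
  set Out : Finset (Fin 5 → F) := Finset.univ.filter fun u => ∀ c : F, c • v ≠ u with hOut
  set Axs : Finset (Fin 5 → F) := Finset.univ.filter fun d => d ⬝ᵥ v = 0 ∧ d ≠ 0 with hAxs
  set A : (Fin 5 → F) → Finset (Fin 5 → F) := fun u => Axs.filter fun d => Lift X v u d with hA
  set C : (Fin 5 → F) → Finset (Fin 5 → F) := fun d => Out.filter fun u => Lift X v u d with hC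
  have hAmap : ∀ u ∈ Out, (A u).card = (A w).card := by
    have hle : ∀ u₁ ∈ Out, ∀ u₂ ∈ Out, (A u₁).card ≤ (A u₂).card := by
      intro u₁ hu₁ u₂ hu₂
      simp only [hOut, Finset.mem_filter, Finset.mem_univ, true_and] at hu₁ hu₂
      obtain ⟨g, hg, ⟨c, hc, hgv⟩, d, hd, hgu⟩ := h2 v u₁ v u₂ hv hv hu₁ hu₂
      refine Finset.card_le_card_of_injOn (fun x => d • (x ᵥ* (g⁻¹).1)) (fun x hx => ?_) ?_
      · simp only [hA, hAxs, Finset.mem_coe, Finset.mem_filter, Finset.mem_univ, true_and] at hx ⊢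
        obtain ⟨⟨hxv, hx0⟩, hxl⟩ := hx
        refine ⟨⟨by rw [smul_dotProduct, dot_inv_vecMul hc hgv, hxv, mul_zero, smul_zero], fun e => hx0 ?_⟩, ?_⟩
        · have := congrArg (fun y => y ᵥ* g.1) ((smul_eq_zero.1 e).resolve_left hd)
          simpa only [vecMul_vecMul, Units.inv_mul, vecMul_one, zero_vecMul] using this
        · rw [← Lift.smul_iff hd, ← hgu]
          exact hxl.conj hg hgv hv
      · intro x _ y _ hxy
        have := congrArg (fun z => z ᵥ* g.1) (smul_right_injective _ hd hxy)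
        simpa only [vecMul_vecMul, Units.inv_mul, vecMul_one] using this
    have hwO : w ∈ Out := by simp [hOut, hw]
    exact fun u hu => le_antisymm (hle u hu w hwO) (hle w hwO u hu)
  have hCmap : ∀ d ∈ Axs, (C d).card = (C a).card := by
    have hle : ∀ d₁ ∈ Axs, ∀ d₂ ∈ Axs, (C d₁).card ≤ (C d₂).card := by
      intro d₁ hd₁ d₂ hd₂
      simp only [hAxs, Finset.mem_filter, Finset.mem_univ, true_and] at hd₁ hd₂
      obtain ⟨g, hg, c, hc, he⟩ := stab_transitive h2 hv hd₁.2 hd₂.2 (by simp [hd₁.1, hd₂.1])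
      obtain ⟨hgX, e, hge⟩ := mem_pointStab.1 hg
      have he0 := eigen_ne_zero hv hge
      refine Finset.card_le_card_of_injOn (fun x => c • (g.1 *ᵥ x)) (fun x hx => ?_) ?_
      · simp only [hC, hOut, Finset.mem_coe, Finset.mem_filter, Finset.mem_univ, true_and] at hx ⊢
        obtain ⟨hxv, hxl⟩ := hx
        refine ⟨fun t ht => ?_, ?_⟩
        · refine hxv (c⁻¹ * t * e⁻¹) ?_
          have := congrArg (fun y => c⁻¹ • ((g⁻¹).1 *ᵥ y)) ht
          simp only [mulVec_smul, mulVec_mulVec, Units.inv_mul, one_mulVec, inv_smul_smul₀ hc] at this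
          rw [← this]
          have hinv : (g⁻¹).1 *ᵥ v = e⁻¹ • v := by
            have := congrArg (fun x => e⁻¹ • ((g⁻¹).1 *ᵥ x)) hge
            simp only [mulVec_mulVec, Units.inv_mul, one_mulVec, mulVec_smul, inv_smul_smul₀ he0] at this
            exact this.symm
          rw [hinv, smul_smul, smul_smul]
        · rw [Lift.smul_iff hc, ← he]
          exact hxl.conj hgX hge hv
      · intro x _ y _ hxy
        have := congrArg (fun z => (g⁻¹).1 *ᵥ z) (smul_right_injective _ hc hxy)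
        simpa only [mulVec_mulVec, Units.inv_mul, one_mulVec] using this
    have haA : a ∈ Axs := by simp [hAxs, hl.1, ha]
    exact fun d hd => le_antisymm (hle d hd a haA) (hle a haA d hd)
  have hcardV : (Finset.univ : Finset (Fin 5 → F)).card = q ^ 5 := by simp [hqdef]
  have hline : (Finset.univ.filter fun u : Fin 5 → F => ∃ c : F, c • v = u).card = q := by
    rw [hqdef, ← Finset.card_univ]
    refine (Finset.card_bij (fun c _ => c • v) (fun c _ => by simp) (fun c _ d _ h => smul_left_injective F hv h)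
      (fun u hu => by
        obtain ⟨c, hc⟩ := (Finset.mem_filter.1 hu).2
        exact ⟨c, Finset.mem_univ _, hc⟩)).symm
  have hOutc : Out.card + q = q ^ 5 := by
    rw [← hcardV, hOut]
    conv_lhs => rw [← hline]
    rw [← Finset.card_union_of_disjoint]
    · congr 1
      ext u; simp only [Finset.mem_union, Finset.mem_filter, Finset.mem_univ, true_and, iff_true]
      by_cases h : ∃ c : F, c • v = u
      · exact Or.inr h
      · push Not at h; exact Or.inl h
    · rw [Finset.disjoint_filter]; intro u _ h1 ⟨c, hc⟩; exact h1 c hc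
  have hkerc : (Finset.univ.filter fun d : Fin 5 → F => d ⬝ᵥ v = 0).card = q ^ 4 := by
    obtain ⟨a₁, ha₁⟩ := exists_dot_eq_one hv
    let l : (Fin 5 → F) →ₗ[F] F := ((dotProductBilin F F).flip v)
    have hl' : ∀ f, l f = f ⬝ᵥ v := fun f => rfl
    have h := LinearMap.finrank_range_add_finrank_ker l
    rw [Module.finrank_fin_fun, LinearMap.range_eq_top.2 (fun c => ⟨c • a₁, by rw [hl', smul_dotProduct, ha₁, smul_eq_mul, mul_one]⟩),
      finrank_top, Module.finrank_self] at h
    have h3 : Nat.card (LinearMap.ker l) = q ^ 4 := by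
      rw [Module.natCard_eq_pow_finrank (K := F), Nat.card_eq_fintype_card, hqdef]; congr 1; omega
    rw [← h3, ← Fintype.card_subtype, ← Nat.card_eq_fintype_card]
    rfl
  have hAxsc : Axs.card + 1 = q ^ 4 := by
    rw [← hkerc, hAxs, show (Finset.univ.filter fun d : Fin 5 → F => d ⬝ᵥ v = 0 ∧ d ≠ 0) =
      (Finset.univ.filter fun d : Fin 5 → F => d ⬝ᵥ v = 0).erase 0 by ext; simp [and_comm],
      Finset.card_erase_of_mem (by simp)]
    exact Nat.sub_add_cancel (Finset.card_pos.2 ⟨0, by simp⟩)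
  have hdouble : Out.card * (A w).card = Axs.card * (C a).card := by
    have h := Finset.sum_card_bipartiteAbove_eq_sum_card_bipartiteBelow (s := Out) (t := Axs) (fun u d => Lift X v u d)
    simp only [Finset.bipartiteAbove, Finset.bipartiteBelow] at h
    rw [Finset.sum_congr rfl hAmap, Finset.sum_congr rfl hCmap, Finset.sum_const, Finset.sum_const, smul_eq_mul,
      smul_eq_mul] at h
    exact h
  have hCa : (C a).card = q * (A w).card := by
    have h1 : Out.card = q * Axs.card := by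
      have e5 : q * q ^ 4 = q ^ 5 := by ring
      have : q * (Axs.card + 1) = q ^ 5 := by rw [hAxsc, e5]
      rw [mul_add, mul_one] at this
      omega
    have hpos : 0 < Axs.card := Finset.card_pos.2 ⟨a, by simp [hAxs, hl.1, ha]⟩
    rw [h1, mul_comm q, mul_assoc] at hdouble
    exact (Nat.eq_of_mul_eq_mul_left hpos hdouble).symm
  -- the good points
  obtain ⟨-, haw, g, hg, b, hbv, hgb⟩ := id hl
  set Good : Set (Fin 5 → F) := {u | a ⬝ᵥ u = 0 ∧ ∃ d ∈ A u, d ⬝ᵥ w = 0 ∧ ∀ c : F, c • a ≠ d} with hGood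
  set P := Submodule.span F (insert v Good) with hP
  let la : (Fin 5 → F) →ₗ[F] F := dotProductBilin F F a
  have hla : ∀ u, la u = a ⬝ᵥ u := fun u => rfl
  by_cases hbig : LinearMap.ker la ≤ P
  · have hb : ∀ u, a ⬝ᵥ u = 0 → b ⬝ᵥ u = 0 := by
      intro u hu
      have huP : u ∈ P := hbig (by rw [LinearMap.mem_ker, hla, hu])
      have hle : P ≤ LinearMap.ker (dotProductBilin F F b : (Fin 5 → F) →ₗ[F] F) := by
        refine Submodule.span_le.2 ?_
        rintro x (rfl | ⟨hax, d, hd, hdw, hind⟩)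
        · exact hbv
        · exact dot_eq_zero_of_commute hnt hg hbv hgb hl.1 (Finset.mem_filter.1 hd).2 hax hdw hind
      exact hle huP
    obtain ⟨x, hx⟩ : ∃ x, a ⬝ᵥ x = 1 := by
      obtain ⟨x, hx⟩ := exists_dot_eq_one ha
      exact ⟨x, by rw [dotProduct_comm]; exact hx⟩
    have hb' : b = (b ⬝ᵥ x) • a := by
      refine dotProduct_eq _ _ fun y => ?_
      have := hb (y - (a ⬝ᵥ y) • x) (by simp [dotProduct_sub, dotProduct_smul, hx])
      rw [dotProduct_sub, dotProduct_smul, smul_eq_mul, sub_eq_zero] at this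
      rw [this, smul_dotProduct, smul_eq_mul, mul_comm]
    set z := w + (b ⬝ᵥ x) • v with hz
    have haz : a ⬝ᵥ z = 0 := by simp [hz, dotProduct_add, dotProduct_smul, haw, hl.1]
    have hgt : g = tv z a := Units.ext (by
      rw [hgb, tv_coe haz, hz, add_vecMulVec, smul_vecMulVec, ← vecMulVec_smul, ← hb', add_assoc])
    have hz0 : z ≠ 0 := fun e => hw (-(b ⬝ᵥ x)) (by
      rw [hz, add_eq_zero_iff_eq_neg] at e
      rw [neg_smul, ← e])
    obtain ⟨k, hk, c, hc, hkz⟩ := h2.exists_map hz0 hv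
    have hmem := tv_mem_conj hk (hgt ▸ hg)
    rw [hkz, ← tv_smul_right] at hmem
    have hd0 : (c • (a ᵥ* (k⁻¹).1)) ⬝ᵥ v = 0 := by
      rw [smul_dotProduct]
      have := dot_conj k a z
      rw [hkz, dotProduct_smul, haz, smul_eq_mul] at this
      rw [(mul_eq_zero.1 this).resolve_left hc, smul_zero]
    have h0 := (smul_eq_zero.1 (hnt _ hd0 hmem)).resolve_left hc
    have := congrArg (fun y => y ᵥ* k.1) h0
    exact ha (by simpa only [vecMul_vecMul, Units.inv_mul, vecMul_one, zero_vecMul] using this)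
  -- too few good points
  set U : Finset (Fin 5 → F) := Finset.univ.filter fun u => a ⬝ᵥ u = 0 ∧ u ∉ P with hU
  have hUc : q ^ 4 ≤ U.card + q ^ 3 := by
    have hinf : Module.finrank F (LinearMap.ker la ⊓ P : Submodule F (Fin 5 → F)) ≤ 3 := by
      have hlt : LinearMap.ker la ⊓ P < LinearMap.ker la :=
        lt_of_le_of_ne inf_le_left fun e => hbig (inf_eq_left.1 e)
      have h1 := Submodule.finrank_lt_finrank_of_lt hlt
      obtain ⟨x, hx⟩ := exists_dot_eq_one ha
      have h := LinearMap.finrank_range_add_finrank_ker la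
      rw [Module.finrank_fin_fun, LinearMap.range_eq_top.2 (fun c => ⟨c • x, by
        rw [hla, dotProduct_smul, dotProduct_comm, hx, smul_eq_mul, mul_one]⟩), finrank_top, Module.finrank_self] at h
      omega
    have h4 : Nat.card (LinearMap.ker la) = q ^ 4 := by
      obtain ⟨x, hx⟩ := exists_dot_eq_one ha
      have h := LinearMap.finrank_range_add_finrank_ker la
      rw [Module.finrank_fin_fun, LinearMap.range_eq_top.2 (fun c => ⟨c • x, by
        rw [hla, dotProduct_smul, dotProduct_comm, hx, smul_eq_mul, mul_one]⟩), finrank_top, Module.finrank_self] at h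
      rw [Module.natCard_eq_pow_finrank (K := F), Nat.card_eq_fintype_card, hqdef]; congr 1; omega
    have h3 : Nat.card (LinearMap.ker la ⊓ P : Submodule F (Fin 5 → F)) ≤ q ^ 3 := by
      rw [Module.natCard_eq_pow_finrank (K := F), Nat.card_eq_fintype_card]
      exact Nat.pow_le_pow_right (by omega) hinf
    have hsplit : (Finset.univ.filter fun u : Fin 5 → F => a ⬝ᵥ u = 0).card ≤ U.card +
        (Finset.univ.filter fun u : Fin 5 → F => u ∈ LinearMap.ker la ⊓ P).card := by
      refine le_trans (Finset.card_le_card ?_) (Finset.card_union_le _ _)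
      intro u hu
      simp only [hU, Finset.mem_union, Finset.mem_filter, Finset.mem_univ, true_and, Submodule.mem_inf,
        LinearMap.mem_ker, hla] at hu ⊢
      tauto
    have e4 : (Finset.univ.filter fun u : Fin 5 → F => a ⬝ᵥ u = 0).card = q ^ 4 := by
      rw [← h4, ← Fintype.card_subtype, ← Nat.card_eq_fintype_card]; rfl
    have e3 : (Finset.univ.filter fun u : Fin 5 → F => u ∈ LinearMap.ker la ⊓ P).card ≤ q ^ 3 := by
      rw [← Fintype.card_subtype, ← Nat.card_eq_fintype_card]; exact h3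
    omega
  set e := (A w).card with he
  set n : (Fin 5 → F) → ℕ := fun u => (Finset.univ.filter fun c : F => c ≠ 0 ∧ Lift X v u (c • a)).card with hn
  have hUm : ∀ {u}, u ∈ U → a ⬝ᵥ u = 0 ∧ u ∈ Out ∧ ∀ d ∈ A u, d ⬝ᵥ w = 0 → ∃ c : F, c • a = d := by
    intro u hu
    simp only [hU, Finset.mem_filter, Finset.mem_univ, true_and] at hu
    refine ⟨hu.1, ?_, fun d hd hdw => ?_⟩
    · simp only [hOut, Finset.mem_filter, Finset.mem_univ, true_and]
      exact fun c hc => hu.2 (hc ▸ P.smul_mem c (Submodule.subset_span (Set.mem_insert v _)))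
    · by_contra hno
      push Not at hno
      exact hu.2 (Submodule.subset_span (Set.mem_insert_of_mem _ ⟨hu.1, d, hd, hdw, hno⟩))
  have hne : ∀ u ∈ U, e + 1 ≤ q * (n u + 1) ∧ 1 ≤ n u := by
    intro u hu
    obtain ⟨hau, huO, hbad⟩ := hUm hu
    refine ⟨?_, ?_⟩
    · rw [← hAmap u huO]
      have h0 : (0 : Fin 5 → F) ∉ A u := by simp [hA, hAxs]
      rw [← Finset.card_insert_of_notMem h0]
      have hfib : ∀ t ∈ (Finset.univ : Finset F), ((insert 0 (A u)).filter fun d => d ⬝ᵥ w = t).card ≤ n u + 1 := by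
        intro t _
        rcases Finset.eq_empty_or_nonempty ((insert 0 (A u)).filter fun d => d ⬝ᵥ w = t) with h | ⟨d₀, hd₀⟩
        · rw [h]; simp
        have hlift : ∀ d ∈ insert 0 (A u), Lift X v u d := fun d hd => by
          rcases Finset.mem_insert.1 hd with rfl | hd
          · exact Lift.zero_right u
          · exact (Finset.mem_filter.1 hd).2
        have hneg : ∀ d, Lift X v u d → Lift X v u (-d) := by
          intro d hd
          obtain ⟨p, hchar⟩ := CharP.exists F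
          obtain ⟨f, hp, hq⟩ := FiniteField.card F p
          haveI := hchar
          have hn' : ∀ k : ℕ, Lift X v u (k • d) := fun k => by
            induction k with
            | zero => rw [zero_smul]; exact Lift.zero_right u
            | succ k ih => rw [succ_nsmul]; exact ih.add_right hd
          have h1 := hn' (p - 1)
          have hpd : p • d = 0 := by
            rw [← Nat.cast_smul_eq_nsmul F, CharP.cast_eq_zero, zero_smul]
          rwa [show (p - 1) • d = -d from eq_neg_of_add_eq_zero_left (by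
            rw [← succ_nsmul, Nat.sub_add_cancel hp.one_le, hpd])] at h1
        refine le_trans (Finset.card_le_card_of_injOn (fun d => d - d₀) (t := insert 0
          ((Finset.univ.filter fun c : F => c ≠ 0 ∧ Lift X v u (c • a)).image fun c => c • a)) ?_
          (fun x _ y _ h => sub_left_injective h)) ((Finset.card_insert_le _ _).trans (Nat.add_le_add_right Finset.card_image_le 1))
        intro d hd
        simp only [Finset.mem_coe, Finset.mem_filter] at hd
        obtain ⟨hd₀m, hd₀t⟩ := Finset.mem_filter.1 hd₀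
        have hsub : Lift X v u (d - d₀) := by
          rw [sub_eq_add_neg]; exact (hlift d hd.1).add_right (hneg _ (hlift d₀ hd₀m))
        rcases eq_or_ne (d - d₀) 0 with h0' | h0'
        · simp only [Finset.mem_coe, h0']; exact Finset.mem_insert_self _ _
        · obtain ⟨c, hc⟩ := hbad (d - d₀) (by simp [hA, hAxs, hsub, hsub.1, h0'])
            (by rw [sub_dotProduct, hd.2, hd₀t, sub_self])
          refine Finset.mem_coe.2 (Finset.mem_insert_of_mem (Finset.mem_image.2 ⟨c, ?_, hc⟩))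
          simp only [Finset.mem_filter, Finset.mem_univ, true_and]
          exact ⟨fun e0 => h0' (by rw [← hc, e0, zero_smul]), hc ▸ hsub⟩
      have := Finset.card_le_mul_card_image_of_maps_to (s := insert 0 (A u)) (t := (Finset.univ : Finset F))
        (f := fun d => d ⬝ᵥ w) (fun _ _ => Finset.mem_univ _) (n u + 1) hfib
      rw [Finset.card_univ, ← hqdef] at this
      linarith
    · refine Finset.card_pos.2 ?_
      obtain ⟨d, hd⟩ := Finset.card_pos.1 (show 0 < (A u).card by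
        rw [hAmap u huO]; exact Finset.card_pos.2 ⟨a, by simp [hA, hAxs, hl.1, ha, hl]⟩)
      have hdl := (Finset.mem_filter.1 hd).2
      by_cases hdw : d ⬝ᵥ w = 0
      · obtain ⟨c, hc⟩ := hbad d hd hdw
        refine ⟨c, ?_⟩
        simp only [Finset.mem_filter, Finset.mem_univ, true_and]
        exact ⟨fun e0 => (Finset.mem_filter.1 (Finset.mem_filter.1 hd).1).2.2 (by rw [← hc, e0, zero_smul]), hc ▸ hdl⟩
      · refine ⟨d ⬝ᵥ w, ?_⟩
        simp only [Finset.mem_filter, Finset.mem_univ, true_and]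
        exact ⟨hdw, lift_commutator hl hdl hau⟩
  have hsum : ∑ u ∈ U, n u ≤ (q - 1) * (C a).card := by
    have h1 : ∀ u ∈ U, ∀ c : F, (c ≠ 0 ∧ Lift X v u (c • a)) → c • u ∈ C a := by
      intro u hu c hc
      simp only [hC, Finset.mem_filter]
      refine ⟨?_, (Lift.smul_iff hc.1).2 hc.2⟩
      have hO := (hUm hu).2.1
      simp only [hOut, Finset.mem_filter, Finset.mem_univ, true_and] at hO ⊢
      exact fun t ht => hO (c⁻¹ * t) (by rw [← smul_smul, ht, inv_smul_smul₀ hc.1])
    calc ∑ u ∈ U, n u = (U.sigma fun u => Finset.univ.filter fun c : F => c ≠ 0 ∧ Lift X v u (c • a)).card :=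
          (Finset.card_sigma _ _).symm
      _ ≤ (((Finset.univ : Finset F).erase 0) ×ˢ C a).card := by
          refine Finset.card_le_card_of_injOn (fun x => (x.2, x.2 • x.1)) (fun x hx => ?_) ?_
          · simp only [Finset.mem_coe, Finset.mem_sigma, Finset.mem_filter] at hx
            simp only [Finset.mem_coe, Finset.mem_product, Finset.mem_erase]
            exact ⟨⟨hx.2.2.1, Finset.mem_univ _⟩, h1 x.1 hx.1 x.2 hx.2.2⟩
          · rintro ⟨u₁, c₁⟩ hx ⟨u₂, c₂⟩ - h
            simp only [Finset.mem_coe, Finset.mem_sigma, Finset.mem_filter] at hx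
            simp only [Prod.mk.injEq] at h
            obtain ⟨rfl, h⟩ := h
            rw [smul_right_injective _ hx.2.2.1 h]
      _ = (q - 1) * (C a).card := by
          rw [Finset.card_product, Finset.card_erase_of_mem (Finset.mem_univ _), Finset.card_univ]
  rw [hCa] at hsum
  -- the two bounds contradict each other
  have hlow : U.card ≤ (q - 1) * (q * e) :=
    le_trans (by
      rw [Finset.card_eq_sum_ones]
      exact Finset.sum_le_sum fun u hu => (hne u hu).2) hsum
  have hhigh : U.card * (e + 1) ≤ q * ((q - 1) * (q * e) + U.card) := by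
    calc U.card * (e + 1) = ∑ _u ∈ U, (e + 1) := by rw [Finset.sum_const, smul_eq_mul]
      _ ≤ ∑ u ∈ U, q * (n u + 1) := Finset.sum_le_sum fun u hu => (hne u hu).1
      _ = q * (∑ u ∈ U, n u + U.card) := by
          rw [← Finset.mul_sum, Finset.sum_add_distrib, Finset.card_eq_sum_ones]
      _ ≤ _ := by gcongr
  obtain ⟨k, hk⟩ : ∃ k, q = k + 2 := ⟨q - 2, by omega⟩
  rw [hk] at hUc hlow hhigh
  rw [show k + 2 - 1 = k + 1 from rfl] at hlow hhigh
  have hU4 : (k + 2) ^ 3 * (k + 1) ≤ U.card := by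
    have : (k + 2) ^ 4 = (k + 2) ^ 3 * (k + 1) + (k + 2) ^ 3 := by ring
    omega
  have he2 : (k + 2) ^ 2 ≤ e := by
    have h0 := le_trans hU4 hlow
    rw [show (k + 2) ^ 3 * (k + 1) = (k + 1) * (k + 2) * (k + 2) ^ 2 by ring,
      show (k + 1) * ((k + 2) * e) = (k + 1) * (k + 2) * e by ring] at h0
    exact Nat.le_of_mul_le_mul_left h0 (by positivity)
  have hek : k + 2 ≤ e := le_trans (Nat.le_self_pow (by norm_num) _) he2
  obtain ⟨t, ht⟩ : ∃ t, e = (k + 1) + t := ⟨e - (k + 1), by omega⟩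
  have e1 : U.card * t ≤ (k + 2) * ((k + 1) * ((k + 2) * e)) := by
    rw [show e + 1 = (k + 2) + t by omega, mul_add, mul_comm U.card (k + 2), mul_add (k + 2) ((k + 1) * ((k + 2) * e))] at hhigh
    omega
  have e2 : (k + 1) * (k + 2) * (k + 2) * ((k + 2) * t) ≤ (k + 1) * (k + 2) * (k + 2) * e := by
    calc (k + 1) * (k + 2) * (k + 2) * ((k + 2) * t) = (k + 2) ^ 3 * (k + 1) * t := by ring
      _ ≤ U.card * t := Nat.mul_le_mul_right _ hU4
      _ ≤ (k + 2) * ((k + 1) * ((k + 2) * e)) := e1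
      _ = _ := by ring
  have e3 := Nat.le_of_mul_le_mul_left e2 (by positivity)
  rw [ht] at e3
  have e4 : (k + 1) * t ≤ (k + 1) * 1 := by
    rw [show (k + 2) * t = (k + 1) * t + t by ring] at e3
    omega
  have e5 := Nat.le_of_mul_le_mul_left e4 (by omega)
  have e6 : 2 * (k + 2) ≤ (k + 2) ^ 2 := by rw [sq]; exact Nat.mul_le_mul_right _ (by omega)
  omega

/-- **A group doubly transitive on the points contains the special linear group.** -/
theorem specialLinear_le_of_twoTrans (h2 : TwoTrans X) : specialLinear (Fin 5) F ≤ X := by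
  classical
  suffices key : ∀ (v d : Fin 5 → F), v ≠ 0 → d ⬝ᵥ v = 0 → tv v d ∈ X by
    refine specialLinear_le_of_forall_tv fun v a => ?_
    rcases eq_or_ne v 0 with rfl | hv
    · rw [tv_zero_left]; exact X.one_mem
    · by_cases h : a ⬝ᵥ v = 0
      · exact key v a hv h
      · rw [tv, dif_neg h]; exact X.one_mem
  intro v d hv hdv
  obtain ⟨d₀, hd₀, hd₀v, hd₀X⟩ := exists_tv h2 hv
  let S : Set (Set (Fin 5 → F)) := {M | (0 : Fin 5 → F) ∈ M ∧ (∀ x ∈ M, ∀ y ∈ M, x + y ∈ M) ∧ (∀ x ∈ M, x ⬝ᵥ v = 0 ∧ tv v x ∈ X) ∧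
    (∀ g ∈ pointStab X v hv, ∀ c : F, g.1 *ᵥ v = c • v → ∀ x ∈ M, c • (x ᵥ* (g⁻¹).1) ∈ M) ∧ ∃ x ∈ M, x ≠ 0}
  have hfull : {x : Fin 5 → F | x ⬝ᵥ v = 0 ∧ tv v x ∈ X} ∈ S := by
    refine ⟨⟨zero_dotProduct v, by rw [tv_zero_right]; exact X.one_mem⟩, fun x hx y hy =>
      ⟨by rw [add_dotProduct, hx.1, hy.1, add_zero], tv_mem_add_right hx.1 hy.1 hx.2 hy.2⟩, fun x hx => hx, ?_,
      d₀, ⟨hd₀v, hd₀X⟩, hd₀⟩
    rintro g hg c hc x ⟨hx, hxX⟩
    have hc0 := eigen_ne_zero hv hc
    refine ⟨by rw [smul_dotProduct, dot_inv_vecMul hc0 hc, hx, mul_zero, smul_zero], ?_⟩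
    have := tv_mem_conj (mem_pointStab.1 hg).1 hxX
    rwa [hc, ← tv_smul_right] at this
  obtain ⟨M, hM, hmin⟩ := Set.Finite.exists_minimal (Set.toFinite S) ⟨_, hfull⟩
  obtain ⟨hM0, hMadd, hMX, hMinv, x₀, hx₀, hx₀0⟩ := hM
  set K : Finset F := Finset.univ.filter fun c => ∀ x ∈ M, c • x ∈ M with hK
  -- every line of the annihilator meets `M` in a line over `K`
  have hline : ∀ x ∈ M, x ≠ 0 → ∀ c : F, c • x ∈ M → c ∈ K := by
    intro x hx hx0 c hcx
    have hsub : {y | y ∈ M ∧ c • y ∈ M} ∈ S :=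
      ⟨⟨hM0, by rw [smul_zero]; exact hM0⟩, fun y hy z hz => ⟨hMadd y hy.1 z hz.1, by
        rw [smul_add]; exact hMadd _ hy.2 _ hz.2⟩, fun y hy => hMX y hy.1, fun g hg d hd y hy =>
        ⟨hMinv g hg d hd y hy.1, by
          have := hMinv g hg d hd _ hy.2
          rwa [smul_vecMul, smul_comm] at this⟩, x, ⟨hx, hcx⟩, hx0⟩
    have hle : M ⊆ {y | y ∈ M ∧ c • y ∈ M} := hmin hsub fun y hy => hy.1
    simp only [hK, Finset.mem_filter, Finset.mem_univ, true_and]
    exact fun y hy => (hle hy).2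
  have hmeet : ∀ y : Fin 5 → F, y ≠ 0 → y ⬝ᵥ v = 0 → ∃ c : F, c ≠ 0 ∧ c • y ∈ M := by
    intro y hy hyv
    obtain ⟨g, hg, c, hc, he⟩ := stab_transitive h2 hv hx₀0 hy (by simp [(hMX x₀ hx₀).1, hyv])
    obtain ⟨d, hd⟩ := (mem_pointStab.1 hg).2
    refine ⟨d * c, mul_ne_zero (eigen_ne_zero hv hd) hc, ?_⟩
    have := hMinv g hg d hd x₀ hx₀
    rwa [he, smul_smul] at this
  set Mf : Finset (Fin 5 → F) := Finset.univ.filter fun x => x ∈ M with hMf
  set Ann : Finset (Fin 5 → F) := Finset.univ.filter fun y => y ⬝ᵥ v = 0 with hAnn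
  have hcount : (Mf.card - 1) * (Fintype.card F - 1) = (Ann.card - 1) * (K.card - 1) := by
    have hK0 : (0 : F) ∈ K := by simp [hK, hM0]
    have h1 : ((Mf.erase 0) ×ˢ ((Finset.univ : Finset F).erase 0)).card = ∑ y ∈ Ann.erase 0,
        (((Mf.erase 0) ×ˢ ((Finset.univ : Finset F).erase 0)).filter fun p => p.2 • p.1 = y).card :=
      Finset.card_eq_sum_card_fiberwise fun p hp => by
        simp only [Finset.mem_coe, Finset.mem_product, Finset.mem_erase, hMf, Finset.mem_filter, Finset.mem_univ,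
          and_true, true_and] at hp
        simp only [hAnn, Finset.mem_coe, Finset.mem_erase, Finset.mem_filter, Finset.mem_univ, true_and]
        exact ⟨smul_ne_zero hp.2 hp.1.1, by rw [smul_dotProduct, (hMX _ hp.1.2).1, smul_zero]⟩
    have h2' : ∀ y ∈ Ann.erase 0, (((Mf.erase 0) ×ˢ ((Finset.univ : Finset F).erase 0)).filter fun p => p.2 • p.1 = y).card =
        (K.erase 0).card := by
      intro y hy
      simp only [hAnn, Finset.mem_erase, Finset.mem_filter, Finset.mem_univ, true_and] at hy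
      obtain ⟨c, hc, hcy⟩ := hmeet y hy.1 hy.2
      refine Finset.card_bij (fun p _ => p.2⁻¹ * c⁻¹) ?_ ?_ ?_
      · intro p hp
        simp only [Finset.mem_filter, Finset.mem_product, Finset.mem_erase, hMf, Finset.mem_univ, and_true,
          true_and] at hp
        obtain ⟨⟨⟨hp0, hpM⟩, hp2⟩, he⟩ := hp
        refine Finset.mem_erase.2 ⟨mul_ne_zero (inv_ne_zero hp2) (inv_ne_zero hc),
          hline _ hcy (smul_ne_zero hc hy.1) _ ?_⟩
        rw [smul_smul, mul_assoc, inv_mul_cancel₀ hc, mul_one, ← he, inv_smul_smul₀ hp2]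
        exact hpM
      · intro p hp p' hp' h
        simp only [Finset.mem_filter, Finset.mem_product, Finset.mem_erase] at hp hp'
        have h3 : p.2 = p'.2 := inv_injective (mul_right_cancel₀ (inv_ne_zero hc) h)
        refine Prod.ext (smul_right_injective _ hp.1.2.1 (show p.2 • p.1 = p.2 • p'.1 from ?_)) h3
        rw [hp.2, h3, hp'.2]
      · intro k hk
        simp only [Finset.mem_erase, hK, Finset.mem_filter, Finset.mem_univ, true_and] at hk
        refine ⟨(k • (c • y), c⁻¹ * k⁻¹), ?_, ?_⟩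
        · simp only [Finset.mem_filter, Finset.mem_product, Finset.mem_erase, hMf, Finset.mem_univ, and_true,
            true_and]
          refine ⟨⟨⟨smul_ne_zero hk.1 (smul_ne_zero hc hy.1), hk.2 _ hcy⟩,
            mul_ne_zero (inv_ne_zero hc) (inv_ne_zero hk.1)⟩, ?_⟩
          have hk1 := hk.1
          rw [smul_smul, smul_smul, show c⁻¹ * k⁻¹ * k * c = 1 by field_simp, one_smul]
        · show (c⁻¹ * k⁻¹)⁻¹ * c⁻¹ = k
          field_simp
    rw [Finset.sum_congr rfl h2', Finset.sum_const, smul_eq_mul, Finset.card_product,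
      Finset.card_erase_of_mem (by simp [hMf, hM0]), Finset.card_erase_of_mem (Finset.mem_univ _), Finset.card_univ,
      Finset.card_erase_of_mem (by simp [hAnn]), Finset.card_erase_of_mem hK0] at h1
    exact h1
  obtain ⟨p, hchar⟩ := CharP.exists F
  obtain ⟨f, hp, hq⟩ := FiniteField.card F p
  have hAnnc : Ann.card = Fintype.card F ^ 4 := by
    obtain ⟨a₁, ha₁⟩ := exists_dot_eq_one hv
    let l : (Fin 5 → F) →ₗ[F] F := ((dotProductBilin F F).flip v)
    have hl' : ∀ f, l f = f ⬝ᵥ v := fun f => rfl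
    have h := LinearMap.finrank_range_add_finrank_ker l
    rw [Module.finrank_fin_fun, LinearMap.range_eq_top.2 (fun c => ⟨c • a₁, by rw [hl', smul_dotProduct, ha₁, smul_eq_mul, mul_one]⟩),
      finrank_top, Module.finrank_self] at h
    have h3 : Nat.card (LinearMap.ker l) = Fintype.card F ^ 4 := by
      rw [Module.natCard_eq_pow_finrank (K := F), Nat.card_eq_fintype_card]; congr 1; omega
    rw [← h3, hAnn, ← Fintype.card_subtype, ← Nat.card_eq_fintype_card]
    rfl
  have hMpow : ∃ i, Mf.card = p ^ i := by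
    let Ms : AddSubgroup (Fin 5 → F) :=
      { carrier := M
        add_mem' := fun {x y} hx hy => hMadd x hx y hy
        zero_mem' := hM0
        neg_mem' := fun {x} hx => by
          have hn : ∀ k : ℕ, k • x ∈ M := fun k => by
            induction k with
            | zero => rw [zero_smul]; exact hM0
            | succ k ih => rw [succ_nsmul]; exact hMadd _ ih _ hx
          have hpd : p • x = 0 := by rw [← Nat.cast_smul_eq_nsmul F, CharP.cast_eq_zero, zero_smul]
          have := hn (p - 1)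
          rwa [show (p - 1) • x = -x from eq_neg_of_add_eq_zero_left (by
            rw [← succ_nsmul, Nat.sub_add_cancel hp.one_le, hpd])] at this }
    have h1 : Mf.card ∣ p ^ ((f : ℕ) * 5) := by
      rw [hMf, ← Fintype.card_subtype, ← Nat.card_eq_fintype_card, pow_mul, ← hq]
      have := AddSubgroup.card_addSubgroup_dvd_card Ms
      rw [Nat.card_fun, Nat.card_fin, Nat.card_eq_fintype_card (α := F)] at this
      exact this
    obtain ⟨i, -, hi⟩ := (Nat.dvd_prime_pow hp).1 h1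
    exact ⟨i, hi⟩
  have hKpow : ∃ i, K.card = p ^ i := by
    let Ks : AddSubgroup F :=
      { carrier := {c | ∀ x ∈ M, c • x ∈ M}
        add_mem' := fun {a b} ha hb x hx => by rw [add_smul]; exact hMadd _ (ha x hx) _ (hb x hx)
        zero_mem' := fun x hx => by rw [zero_smul]; exact hM0
        neg_mem' := fun {a} ha x hx => by
          have hn : ∀ k : ℕ, k • (a • x) ∈ M := fun k => by
            induction k with
            | zero => rw [zero_smul]; exact hM0
            | succ k ih => rw [succ_nsmul]; exact hMadd _ ih _ (ha x hx)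
          have hpd : p • (a • x) = 0 := by rw [← Nat.cast_smul_eq_nsmul F, CharP.cast_eq_zero, zero_smul]
          have := hn (p - 1)
          rw [neg_smul]
          rwa [show (p - 1) • (a • x) = -(a • x) from eq_neg_of_add_eq_zero_left (by
            rw [← succ_nsmul, Nat.sub_add_cancel hp.one_le, hpd])] at this }
    have h1 : K.card ∣ p ^ (f : ℕ) := by
      rw [hK, ← Fintype.card_subtype, ← Nat.card_eq_fintype_card, ← hq]
      have := AddSubgroup.card_addSubgroup_dvd_card Ks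
      rw [Nat.card_eq_fintype_card (α := F)] at this
      exact this
    obtain ⟨i, -, hi⟩ := (Nat.dvd_prime_pow hp).1 h1
    exact ⟨i, hi⟩
  have hKle : K.card ≤ Fintype.card F := Finset.card_le_univ K
  have hK2 : 2 ≤ K.card := by
    refine le_trans (le_of_eq ?_) (Finset.card_le_card (s := {0, 1}) ?_)
    · rw [Finset.card_pair zero_ne_one]
    · intro c hc
      rcases Finset.mem_insert.1 hc with rfl | hc
      · simp [hK, hM0]
      · rw [Finset.mem_singleton.1 hc]; simp [hK]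
  have hq2 : 2 ≤ Fintype.card F := Fintype.one_lt_card
  rw [hAnnc] at hcount
  have hMall : Mf.card = Fintype.card F ^ 4 := by
    obtain ⟨n, hn⟩ : ∃ n, Fintype.card F = n + 2 := ⟨Fintype.card F - 2, by omega⟩
    have hfac : Fintype.card F ^ 4 - 1 =
        (Fintype.card F - 1) * (Fintype.card F ^ 3 + Fintype.card F ^ 2 + Fintype.card F + 1) := by
      rw [hn, show n + 2 - 1 = n + 1 from rfl, show (n + 2) ^ 4 = (n + 1) * ((n + 2) ^ 3 + (n + 2) ^ 2 + (n + 2) + 1) + 1 by ring,
        Nat.add_sub_cancel]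
    rw [hfac, mul_assoc, mul_comm (Mf.card - 1)] at hcount
    have hc2 := Nat.eq_of_mul_eq_mul_left (by omega) hcount
    obtain ⟨i, hi⟩ := hMpow
    obtain ⟨j, hj⟩ := hKpow
    set S4 := Fintype.card F ^ 3 + Fintype.card F ^ 2 + Fintype.card F + 1 with hS4
    have hS4' : Fintype.card F + 1 ≤ S4 := by omega
    have hM2 : 2 ≤ Mf.card := by
      refine le_trans (le_of_eq ?_) (Finset.card_le_card (s := {0, x₀}) ?_)
      · rw [Finset.card_pair (Ne.symm hx₀0)]
      · intro c hc
        rcases Finset.mem_insert.1 hc with rfl | hc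
        · simp [hMf, hM0]
        · rw [Finset.mem_singleton.1 hc]; simp [hMf, hx₀]
    rcases lt_or_eq_of_le hKle with hlt | heq
    · exfalso
      have hMK : K.card < Mf.card := by
        have h5 : (Fintype.card F + 1) * (K.card - 1) ≤ S4 * (K.card - 1) := Nat.mul_le_mul_right _ hS4'
        have h6 : 3 * (K.card - 1) ≤ (Fintype.card F + 1) * (K.card - 1) := Nat.mul_le_mul_right _ (by omega)
        omega
      rw [hi, hj] at hMK
      have hji : j < i := (Nat.pow_lt_pow_iff_right hp.one_lt).1 hMK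
      rw [hj, hq] at hlt
      have hjf : j < (f : ℕ) := (Nat.pow_lt_pow_iff_right hp.one_lt).1 hlt
      -- `p ^ (j + 1)` divides both `|M|` and `q`
      have e1 : (Mf.card : ℤ) - 1 = (S4 : ℤ) * ((K.card : ℤ) - 1) := by
        have : Mf.card - 1 = S4 * (K.card - 1) := hc2
        zify [show 1 ≤ Mf.card by omega, show 1 ≤ K.card by omega] at this
        exact this
      have d1 : ((p : ℤ) ^ (j + 1)) ∣ (Mf.card : ℤ) := by
        rw [hi]; push_cast; exact pow_dvd_pow _ hji
      have d2 : ((p : ℤ) ^ (j + 1)) ∣ (Fintype.card F : ℤ) := by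
        rw [hq]; push_cast; exact pow_dvd_pow _ hjf
      have d3 : ((p : ℤ) ^ (j + 1)) ∣ (K.card : ℤ) := by
        rw [show (K.card : ℤ) = (Mf.card : ℤ) - (Fintype.card F : ℤ) *
          (((Fintype.card F : ℤ) ^ 2 + Fintype.card F + 1) * ((K.card : ℤ) - 1)) by
          rw [hS4] at e1; push_cast at e1; linear_combination -e1]
        exact dvd_sub d1 (dvd_mul_of_dvd_left d2 _)
      rw [hj] at d3
      push_cast at d3
      have d4 : p ^ (j + 1) ∣ p ^ j := by exact_mod_cast d3
      have := (Nat.pow_dvd_pow_iff_le_right hp.one_lt).1 d4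
      omega
    · rw [heq, hS4] at hc2
      rw [hn, show n + 2 - 1 = n + 1 from rfl] at hc2
      have h7 : ((n + 2) ^ 3 + (n + 2) ^ 2 + (n + 2) + 1) * (n + 1) + 1 = (n + 2) ^ 4 := by ring
      rw [hn]
      omega
  have hMeq : Mf = Ann := Finset.eq_of_subset_of_card_le (fun x hx => by
    simp only [hMf, hAnn, Finset.mem_filter, Finset.mem_univ, true_and] at hx ⊢
    exact (hMX x hx).1) (by rw [hMall, hAnnc])
  have hdM : d ∈ Mf := hMeq ▸ (by simp [hAnn, hdv])
  exact (hMX d (Finset.mem_filter.1 hdM).2).2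

end CfsgLib.SingerFive
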