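import Cfsg.Agent.SingerFive.Model
import Mathlib.LinearAlgebra.Projectivization.Cardinality

/-!
# Subgroups of `GL₅` modulo scalars and their action on the points
-/

set_option autoImplicit false
set_option linter.unusedSectionVars false
set_option linter.style.haveILetI false

namespace CfsgLib.SingerFive

open Matrix
open scoped LinearAlgebra.Projectivization

variable {F : Type*} [Field F] [Fintype F]

theorem scal_iff {g : GL (Fin 5) F} :
    Scal g ↔ ∃ z : F, (g : Matrix (Fin 5) (Fin 5) F) = z • (1 : Matrix (Fin 5) (Fin 5) F) := by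
  simp only [Scal, Algebra.algebraMap_eq_smul_one]

theorem scal_mul {g g' : GL (Fin 5) F} (hg : Scal g) (hg' : Scal g') : Scal (g * g') := by
  obtain ⟨z, hz⟩ := hg
  obtain ⟨z', hz'⟩ := hg'
  exact ⟨z * z', by rw [Units.val_mul, hz, hz', map_mul]⟩

theorem scal_inv {g : GL (Fin 5) F} (hg : Scal g) : Scal g⁻¹ := by
  obtain ⟨z, hz⟩ := hg
  rcases eq_or_ne z 0 with rfl | hz0
  · exact absurd (hz.trans (map_zero _)) g.ne_zero
  refine ⟨z⁻¹, Units.inv_eq_of_mul_eq_one_right ?_⟩
  rw [hz, ← map_mul, mul_inv_cancel₀ hz0, map_one]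

theorem scal_conj {g : GL (Fin 5) F} (hg : Scal g) (x : GL (Fin 5) F) : x * g * x⁻¹ = g := by
  obtain ⟨z, hz⟩ := hg
  ext1
  rw [Units.val_mul, Units.val_mul, hz, ← Algebra.commutes, mul_assoc, Units.mul_inv, mul_one]

/-- The scalars in a subgroup. -/
def scalIn (X : Subgroup (GL (Fin 5) F)) : Subgroup X where
  carrier := {g | Scal (g : GL (Fin 5) F)}
  one_mem' := ⟨1, by simp⟩
  mul_mem' := scal_mul
  inv_mem' := scal_inv

instance (X : Subgroup (GL (Fin 5) F)) : (scalIn X).Normal :=
  ⟨fun g hg x => show Scal ((x * g * x⁻¹ : X) : GL (Fin 5) F) by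
    rw [Subgroup.coe_mul, Subgroup.coe_mul, Subgroup.coe_inv, scal_conj hg]; exact hg⟩

theorem mem_scalIn {X : Subgroup (GL (Fin 5) F)} {g : X} : g ∈ scalIn X ↔ Scal (g : GL (Fin 5) F) :=
  Iff.rfl

theorem mk_eq_iff {X : Subgroup (GL (Fin 5) F)} {x y : X} :
    (x : X ⧸ scalIn X) = (y : X ⧸ scalIn X) ↔
      ∃ z : F, (y : GL (Fin 5) F).1 = z • (x : GL (Fin 5) F).1 := by
  rw [QuotientGroup.eq, mem_scalIn, scal_iff, Subgroup.coe_mul, Subgroup.coe_inv, Units.val_mul]
  refine exists_congr fun z => ⟨fun h => ?_, fun h => ?_⟩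
  · have := congrArg ((x : GL (Fin 5) F).1 * ·) h
    simpa [← mul_assoc] using this
  · rw [h, mul_smul_comm, Units.inv_mul]

theorem mulVec_injective' (g : GL (Fin 5) F) : Function.Injective (Matrix.toLin' g.1) := fun a b h => by
  rw [toLin'_apply, toLin'_apply] at h
  have := congrArg ((g⁻¹ : GL (Fin 5) F).1 *ᵥ ·) h
  simpa [mulVec_mulVec] using this

/-- The action on the points. -/
noncomputable def onPts : GL (Fin 5) F →* Equiv.Perm (ℙ F (Fin 5 → F)) where
  toFun g :=
    { toFun := Projectivization.map (Matrix.toLin' g.1) (mulVec_injective' g)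
      invFun := Projectivization.map (Matrix.toLin' (g⁻¹ : GL (Fin 5) F).1) (mulVec_injective' g⁻¹)
      left_inv := fun p => by
        induction p using Projectivization.ind with
        | h v hv =>
          simp only [Projectivization.map_mk, toLin'_apply, mulVec_mulVec, Units.inv_mul, one_mulVec]
      right_inv := fun p => by
        induction p using Projectivization.ind with
        | h v hv =>
          simp only [Projectivization.map_mk, toLin'_apply, mulVec_mulVec, Units.mul_inv, one_mulVec] }
  map_one' := Equiv.ext fun p => by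
    induction p using Projectivization.ind with
    | h v hv => simp [Projectivization.map_mk]
  map_mul' g g' := Equiv.ext fun p => by
    induction p using Projectivization.ind with
    | h v hv => simp [Projectivization.map_mk, Equiv.Perm.mul_apply, mulVec_mulVec]

theorem onPts_mk_eq_mk_iff {g : GL (Fin 5) F} {v w : Fin 5 → F} (hv : v ≠ 0) (hw : w ≠ 0) :
    onPts g (Projectivization.mk F v hv) = Projectivization.mk F w hw ↔ ∃ c : F, c • w = g.1 *ᵥ v := by
  simp only [onPts, MonoidHom.coe_mk, OneHom.coe_mk, Equiv.coe_fn_mk, Projectivization.map_mk, toLin'_apply,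
    Projectivization.mk_eq_mk_iff']

theorem card_pts : Nat.card (ℙ F (Fin 5 → F)) = pts (Fintype.card F) := by
  rw [Projectivization.card_of_finrank (n := 5) _ _ (Module.finrank_fin_fun F), Nat.card_eq_fintype_card, pts]
  simp only [Finset.sum_range_succ, Finset.sum_range_zero]
  ring

end CfsgLib.SingerFive
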