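import Cfsg.Agent.SingerFive.Chars
import Cfsg.Agent.SingerFive.Complement
import Cfsg.Agent.SingerFive.Field
import Cfsg.Agent.SingerFive.Arith
import Cfsg.Agent.SingerFive.Geometry
import Cfsg.Agent.SingerFive.Points
import Cfsg.Agent.Linear.Basic
import Cfsg.Agent.ExtField.Bridge

/-!
# The normaliser of a field of degree five is maximal in `SL₅ (q)`

An overgroup modulo scalars has a self-centralising cyclic T.I. subgroup with fusion of order five,
so its exceptional characters make it doubly transitive on the points.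
-/

set_option autoImplicit false
set_option linter.unusedSectionVars false
set_option linter.style.haveILetI false

namespace CfsgLib.SingerFive

open Matrix Cfsg.Geo CfsgLib.MaxSub
open scoped LinearAlgebra.Projectivization

variable {F : Type*} [Field F] [Fintype F] {L : Type*} [Field L] [Algebra F L] [Finite L]
  (e : L ≃ₗ[F] (Fin 5 → F))

local notation "σ" => (sg (F := F) : L ≃ₐ[F] L)

theorem frob_pow_five : frob e ^ 5 = 1 := by
  refine Units.ext (Matrix.ext_of_mulVec_single fun i => ?_)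
  obtain ⟨x, hx⟩ := e.surjective (Pi.single i 1)
  rw [← hx, frob_pow_mulVec, sg_five e, Units.val_one, one_mulVec]
  rfl

theorem det_eq_one {g : GL (Fin 5) F} (hg : g ∈ specialLinear (Fin 5) F) :
    (g : Matrix (Fin 5) (Fin 5) F).det = 1 := by
  rw [← Matrix.GeneralLinearGroup.val_det_apply, MonoidHom.mem_ker.1 hg, Units.val_one]

/-- Some transvection does not normalise the field. -/
theorem exists_not_normalises : ∃ t ∈ specialLinear (Fin 5) F, ¬ Normalises e t := by
  obtain ⟨c, ho, hc⟩ := exists_generator e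
  have hva : (Pi.single 1 1 : Fin 5 → F) ⬝ᵥ Pi.single 0 1 = 0 := by simp
  refine ⟨tv (Pi.single 0 1) (Pi.single 1 1), tv_mem_specialLinear _ _, fun hn => ?_⟩
  set v : Fin 5 → F := Pi.single 0 1 with hv
  set a : Fin 5 → F := Pi.single 1 1 with ha
  set t := tv v a with ht
  have hfix : ∀ {x : Fin 5 → F}, a ⬝ᵥ x = 0 → (t : Matrix (Fin 5) (Fin 5) F) *ᵥ x = x := fun {x} hx => by
    rw [ht, tv_mulVec hva, hx, zero_smul, add_zero]
  have hinj : ∀ {b : L} {x : Fin 5 → F}, x ≠ 0 → mat e b *ᵥ x = 0 → b = 0 := fun {b x} hx h => by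
    obtain ⟨y, rfl⟩ := e.surjective x
    rw [mat_mulVec, LinearEquiv.map_eq_zero_iff] at h
    exact (mul_eq_zero.1 h).resolve_right fun h' => hx (by rw [h', map_zero])
  have hcomm : ∀ k, Commute (t : Matrix (Fin 5) (Fin 5) F) (mat e k) := by
    intro k
    obtain ⟨k', hk'⟩ := hn k
    let T : (Fin 5 → F) →ₗ[F] F × F :=
      ((LinearMap.proj 1).prod ((LinearMap.proj 1).comp (mulVecLin (mat e k))))
    obtain ⟨x, hxm, hx0⟩ := Submodule.exists_mem_ne_zero_of_ne_bot
      (LinearMap.ker_ne_bot_of_finrank_lt (f := T) (by simp))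
    have h := Prod.ext_iff.1 (LinearMap.mem_ker.1 hxm)
    have hx1 : a ⬝ᵥ x = 0 := by rw [ha, single_dotProduct, one_mul]; exact h.1
    have hx2 : a ⬝ᵥ (mat e k *ᵥ x) = 0 := by rw [ha, single_dotProduct, one_mul]; exact h.2
    have hti : ((t⁻¹ : GL (Fin 5) F) : Matrix (Fin 5) (Fin 5) F) *ᵥ x = x := by
      conv_lhs => rw [← hfix hx1]
      rw [mulVec_mulVec, Units.inv_mul, one_mulVec]
    have he : k = k' := sub_eq_zero.1 (hinj hx0 (by
      rw [map_sub, sub_mulVec, ← hk', ← mulVec_mulVec, hti, ← mulVec_mulVec, hfix hx2, sub_self]))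
    rw [← he] at hk'
    exact (Units.mul_inv_eq_iff_eq_mul t).1 hk'
  obtain ⟨u, hu⟩ := exists_of_commute e (b := (c : L)) (fun z hz => not_red_dvd_small e ho hc one_pos
    (by norm_num) ((scalar_iff e ho hc).1 ⟨z, by rw [hz, pow_one]⟩)) (hcomm c)
  have h2 : (Pi.single 2 1 : Fin 5 → F) ≠ 0 := by simp
  have hu1 : u = 1 := sub_eq_zero.1 (hinj h2 (by
    rw [map_sub, map_one, hu, sub_mulVec, one_mulVec, hfix (by simp [ha]), sub_self]))
  refine tv_ne_one hva (by simp [hv]) (by simp [ha]) (Units.ext ?_)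
  rw [← ht, ← hu, hu1, map_one, Units.val_one]

/-! ### The maps of determinant one scaling the norm-one torus -/

variable {c : Lˣ} (ho : orderOf c = pts (Fintype.card F))
  (hc : ∀ a : Lˣ, a ∈ Subgroup.zpowers c ↔ Algebra.norm F (a : L) = 1)
include ho hc

theorem exists_pow_eq {u : Lˣ} (hu : Algebra.norm F (u : L) = 1) : ∃ t : ℕ, c ^ t = u := by
  obtain ⟨t, ht⟩ := (mem_powers_iff_mem_zpowers (x := c) (y := u)).2 ((hc u).2 hu)
  exact ⟨t, ht⟩

/-- The form of a map of determinant one scaling a torus element to another. -/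
theorem eq_of_scaled {g : GL (Fin 5) F} (hg : g ∈ specialLinear (Fin 5) F) {k b : ℕ}
    (hk : ¬ red (Fintype.card F) ∣ k) {z : F}
    (h : g.1 * (gl e (c ^ k)).1 = z • ((gl e (c ^ b)).1 * g.1)) :
    ∃ (t i : ℕ), i < 5 ∧ g = gl e (c ^ t) * frob e ^ i ∧ (σ ^ i) ((c : L) ^ k) = algebraMap F L z * (c : L) ^ b := by
  have h' : g.1 * mat e ((c : L) ^ k) * (g⁻¹ : GL (Fin 5) F).1 = mat e (algebraMap F L z * (c : L) ^ b) := by
    rw [← Units.val_pow_eq_pow_val, ← Units.val_pow_eq_pow_val, ← Algebra.smul_def, map_smul]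
    show g.1 * (gl e (c ^ k)).1 * _ = z • (gl e (c ^ b)).1
    rw [h, smul_mul_assoc, mul_assoc, Units.mul_inv, mul_one]
  have hn : Normalises e g := normalises_of_conj_mem e
    (fun w hw => hk ((scalar_iff e ho hc).1 ⟨w, hw⟩)) h'
  obtain ⟨u, i, hi, hgu, hconj⟩ := exists_eq_gl_mul_frob_pow e hn
  have hnu : Algebra.norm F (u : L) = 1 := by
    have h1 := det_eq_one hg
    rw [hgu, Units.val_mul, det_mul, Units.val_pow_eq_pow_val, det_pow, det_eq_one (frob_mem_specialLinear e),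
      one_pow, mul_one] at h1
    rw [← det_mat e]
    exact h1
  obtain ⟨t, ht⟩ := exists_pow_eq ho hc hnu
  refine ⟨t, i, hi, ht ▸ hgu, mat_injective e ?_⟩
  rw [← hconj, h']

/-- Only the torus centralises a torus element up to scalars. -/
theorem eq_of_commute {g : GL (Fin 5) F} (hg : g ∈ specialLinear (Fin 5) F) {k : ℕ}
    (hk : ¬ red (Fintype.card F) ∣ k) {z : F}
    (h : g.1 * (gl e (c ^ k)).1 = z • ((gl e (c ^ k)).1 * g.1)) : ∃ t : ℕ, g = gl e (c ^ t) := by
  obtain ⟨t, i, hi, hgi, hz⟩ := eq_of_scaled e ho hc hg hk h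
  rcases Nat.eq_zero_or_pos i with rfl | hi0
  · exact ⟨t, by rw [hgi, pow_zero, mul_one]⟩
  · exact absurd (no_scaled e ho hc (fun hd => by have := Nat.le_of_dvd hi0 hd; omega) hz) hk

/-! ### An overgroup modulo scalars -/

section
variable {X : Subgroup (GL (Fin 5) F)} (hC : gl e c ∈ X) (hf : frob e ∈ X)

omit ho hc in
/-- The torus generator modulo scalars. -/
noncomputable abbrev th : X ⧸ scalIn X := QuotientGroup.mk (⟨gl e c, hC⟩ : X)

omit ho hc in
/-- The Frobenius modulo scalars. -/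
noncomputable abbrev tf : X ⧸ scalIn X := QuotientGroup.mk (⟨frob e, hf⟩ : X)

include hC in
theorem pow_mem_X (k : ℕ) : gl e (c ^ k) ∈ X := by
  rw [map_pow]; exact X.pow_mem hC k

theorem mk_pow (k : ℕ) :
    (th e hC) ^ k = (QuotientGroup.mk (⟨gl e (c ^ k), pow_mem_X e ho hc hC k⟩ : X) : X ⧸ scalIn X) := by
  rw [← QuotientGroup.mk_pow]
  exact congrArg _ (Subtype.ext (map_pow (gl e) c k).symm)

theorem orderOf_mk : orderOf (th e hC) = red (Fintype.card F) := by
  have key : ∀ s : ℕ, (th e hC) ^ s = 1 ↔ red (Fintype.card F) ∣ s := fun s => by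
    rw [mk_pow e ho hc hC, QuotientGroup.eq_one_iff, mem_scalIn, scal_gl_iff, ← scalar_iff e ho hc]
    simp only [Units.val_pow_eq_pow_val]
  exact Nat.dvd_antisymm (orderOf_dvd_of_pow_eq_one ((key _).2 dvd_rfl)) ((key _).1 (pow_orderOf_eq_one _))

/-- Torus elements equal up to scalars are congruent. -/
theorem pow_eq_pow_of_scaled {a b : ℕ} {z : F} (h : (c : L) ^ a = algebraMap F L z * (c : L) ^ b) :
    (th e hC) ^ b = (th e hC) ^ a := by
  rw [mk_pow e ho hc hC, mk_pow e ho hc hC, mk_eq_iff]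
  refine ⟨z, ?_⟩
  show mat e ((c ^ a : Lˣ) : L) = z • mat e ((c ^ b : Lˣ) : L)
  rw [Units.val_pow_eq_pow_val, Units.val_pow_eq_pow_val, h, ← Algebra.smul_def, map_smul]

theorem sg_pow_gen (i k : ℕ) : (σ ^ i) ((c : L) ^ k) = (c : L) ^ (k * Fintype.card F ^ i) := by
  rw [sg_pow_apply, ← pow_mul]

/-- Conjugation by a Frobenius power. -/
theorem frob_pow_conj (i k : ℕ) : (tf e hf) ^ i * (th e hC) ^ k * ((tf e hf) ^ i)⁻¹ = (th e hC) ^ (k * Fintype.card F ^ i) := by
  rw [mul_inv_eq_iff_eq_mul, mk_pow e ho hc hC, mk_pow e ho hc hC, ← QuotientGroup.mk_pow, ← QuotientGroup.mk_mul,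
    ← QuotientGroup.mk_mul]
  refine congrArg _ (Subtype.ext (Units.ext ?_))
  show (frob e ^ i).1 * mat e ((c ^ k : Lˣ) : L) = mat e ((c ^ (k * Fintype.card F ^ i) : Lˣ) : L) * (frob e ^ i).1
  rw [Units.val_pow_eq_pow_val c, Units.val_pow_eq_pow_val c, frob_conj, sg_pow_gen ho hc]

variable (hX : X ≤ specialLinear (Fin 5) F)
include hX

theorem exists_frob_of_conj {x : X ⧸ scalIn X} {k b : ℕ} (hk : ¬ red (Fintype.card F) ∣ k)
    (h : x * (th e hC) ^ k * x⁻¹ = (th e hC) ^ b) :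
    ∃ t i : ℕ, x = (th e hC) ^ t * (tf e hf) ^ i ∧ (th e hC) ^ b = (th e hC) ^ (k * Fintype.card F ^ i) := by
  induction x using QuotientGroup.induction_on with
  | H g =>
    rw [mul_inv_eq_iff_eq_mul, mk_pow e ho hc hC, mk_pow e ho hc hC, ← QuotientGroup.mk_mul,
      ← QuotientGroup.mk_mul, eq_comm, mk_eq_iff] at h
    obtain ⟨z, hz⟩ := h
    obtain ⟨t, i, -, hg, hσ⟩ := eq_of_scaled e ho hc (hX g.2) hk (z := z) (by simpa using hz)
    refine ⟨t, i, ?_, ?_⟩
    · rw [mk_pow e ho hc hC, ← QuotientGroup.mk_pow, ← QuotientGroup.mk_mul]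
      exact congrArg _ (Subtype.ext hg)
    · rw [sg_pow_gen ho hc] at hσ
      exact pow_eq_pow_of_scaled e ho hc hC hσ

theorem mem_of_commute_mk {x : X ⧸ scalIn X} {k : ℕ} (hk : ¬ red (Fintype.card F) ∣ k)
    (h : Commute x ((th e hC) ^ k)) : x ∈ Subgroup.zpowers (th e hC) := by
  induction x using QuotientGroup.induction_on with
  | H g =>
    have h' := h.eq.symm
    rw [mk_pow e ho hc hC, ← QuotientGroup.mk_mul, ← QuotientGroup.mk_mul, mk_eq_iff] at h'
    obtain ⟨z, hz⟩ := h'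
    obtain ⟨t, ht⟩ := eq_of_commute e ho hc (hX g.2) hk (z := z) (by simpa using hz)
    refine ⟨(t : ℤ), ?_⟩
    show (th e hC) ^ (t : ℤ) = _
    rw [zpow_natCast, mk_pow e ho hc hC]
    exact congrArg _ (Subtype.ext ht.symm)

theorem frob_not_mem : (tf e hf) ∉ Subgroup.zpowers (th e hC) := by
  intro h
  have h1 : (tf e hf) * (th e hC) ^ 1 * (tf e hf)⁻¹ = (th e hC) ^ 1 := by
    rw [pow_one, (commute_of_mem_zpowers h (Subgroup.mem_zpowers (th e hC))).eq, mul_inv_cancel_right]
  rw [← pow_one (tf e hf), frob_pow_conj e ho hc hC hf] at h1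
  rw [mk_pow e ho hc hC, mk_pow e ho hc hC, eq_comm, mk_eq_iff] at h1
  obtain ⟨z, hz⟩ := h1
  change mat e ((c ^ (1 * Fintype.card F ^ 1) : Lˣ) : L) = z • mat e ((c ^ 1 : Lˣ) : L) at hz
  rw [← map_smul, Algebra.smul_def, Units.val_pow_eq_pow_val, Units.val_pow_eq_pow_val] at hz
  exact not_red_dvd_small e ho hc one_pos (by norm_num) (no_scaled e ho hc (i := 1) (z := z) (by norm_num)
    (by rw [sg_pow_gen ho hc]; exact mat_injective e hz))

/-- The overgroup modulo scalars has no abelian section of order above 25 avoiding the torus. -/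
theorem card_le_of_abelian (E : Subgroup (X ⧸ scalIn X)) (hab : ∀ x ∈ E, ∀ y ∈ E, x * y = y * x)
    (hinv : ∀ x ∈ E, (th e hC) * x * (th e hC)⁻¹ ∈ E) (hEH : E ⊓ Subgroup.zpowers (th e hC) = ⊥) : Nat.card E ≤ 25 := by
  classical
  haveI := Fintype.ofFinite E
  have hN : Subgroup.zpowers (th e hC) ≤ Subgroup.normalizer (E : Set (X ⧸ scalIn X)) := by
    rw [Subgroup.zpowers_le, Subgroup.mem_normalizer_iff]
    intro x
    refine ⟨fun hx => hinv x hx, fun hx => ?_⟩
    obtain ⟨y, hy⟩ := Finite.surjective_of_injective (f := fun y : E => (⟨_, hinv y y.2⟩ : E))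
      (fun u v huv => Subtype.ext (by simpa using congrArg Subtype.val huv)) ⟨_, hx⟩
    have hyx : (y : X ⧸ scalIn X) = x := by simpa using congrArg Subtype.val hy
    exact hyx ▸ y.2
  rw [Nat.card_eq_fintype_card]
  let mem : GL (Fin 5) F → Prop := fun g => ∃ hg : g ∈ X, (QuotientGroup.mk (⟨g, hg⟩ : X) : X ⧸ scalIn X) ∈ E
  have hmem : ∀ g, g ∈ (E.comap (QuotientGroup.mk' (scalIn X))).map X.subtype ↔ mem g := fun g =>
    ⟨fun ⟨x, hx, hxg⟩ => hxg ▸ ⟨x.2, hx⟩, fun ⟨hg, h⟩ => ⟨⟨g, hg⟩, h, rfl⟩⟩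
  refine card_le_of_scalar_commutators e ho hc (E := (E.comap (QuotientGroup.mk' (scalIn X))).map X.subtype)
    ?_ ?_ ?_ (fun i : E => ((i.1.out : X) : GL (Fin 5) F)) (fun i => ?_) (fun i j h => ?_)
  · intro g hg x hx
    rw [hmem] at hx ⊢
    obtain ⟨hxX, hxE⟩ := hx
    have hgX : g ∈ X := (Subgroup.zpowers_le.2 hC) hg
    refine ⟨X.mul_mem (X.mul_mem hgX hxX) (X.inv_mem hgX), ?_⟩
    obtain ⟨n, rfl⟩ := hg
    exact (Subgroup.mem_normalizer_iff.1 (hN ⟨n, rfl⟩) _).1 hxE
  · intro x hx y hy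
    rw [hmem] at hx hy
    obtain ⟨hxX, hxE⟩ := hx
    obtain ⟨hyX, hyE⟩ := hy
    have h := hab _ hxE _ hyE
    rw [← QuotientGroup.mk_mul, ← QuotientGroup.mk_mul, mk_eq_iff] at h
    obtain ⟨z, hz⟩ := h
    exact ⟨z, by simpa using hz⟩
  · intro x hx u hu
    rw [hmem] at hx
    obtain ⟨hxX, hxE⟩ := hx
    have hu0 : u ≠ 0 := fun h => x.ne_zero (by rw [← hu, h, map_zero])
    obtain ⟨t, ht⟩ := exists_pow_eq ho hc (u := Units.mk0 u hu0)
      (by rw [← det_mat e]; exact (congrArg Matrix.det hu).trans (det_eq_one (hX hxX)))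
    have h1 : (QuotientGroup.mk (⟨x, hxX⟩ : X) : X ⧸ scalIn X) = (th e hC) ^ t := by
      rw [mk_pow e ho hc hC]
      exact congrArg _ (Subtype.ext (Units.ext (hu.symm.trans (congrArg (fun u : Lˣ => mat e (u : L)) ht.symm))))
    have h2 : (QuotientGroup.mk (⟨x, hxX⟩ : X) : X ⧸ scalIn X) ∈ E ⊓ Subgroup.zpowers (th e hC) :=
      ⟨hxE, h1 ▸ Subgroup.pow_mem _ (Subgroup.mem_zpowers _) t⟩
    rw [hEH, Subgroup.mem_bot, QuotientGroup.eq_one_iff] at h2
    exact h2
  · rw [hmem]
    exact ⟨i.1.out.2, (QuotientGroup.out_eq' i.1).symm ▸ i.2⟩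
  · have h1 : ((i.1.out * (j.1.out)⁻¹ : X) : X ⧸ scalIn X) = 1 := (QuotientGroup.eq_one_iff _).2 h
    rw [QuotientGroup.mk_mul, QuotientGroup.mk_inv, QuotientGroup.out_eq', QuotientGroup.out_eq', mul_inv_eq_one] at h1
    exact Subtype.ext h1

theorem card_dvd_ordSL : Nat.card (X ⧸ scalIn X) ∣ ordSL (Fintype.card F) := by
  refine (Subgroup.card_quotient_dvd_card (scalIn X)).trans ((Subgroup.card_dvd_of_le hX).trans (dvd_of_eq ?_))
  have hq : 2 ≤ Fintype.card F := Fintype.one_lt_card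
  refine Nat.eq_of_mul_eq_mul_left (show 0 < Fintype.card F - 1 by omega) ?_
  have h := CfsgLib.Linear.card_SL_mul (n := Fin 5) (F := F)
  rw [CfsgLib.Linear.card_GL, CfsgLib.Linear.prod_pow_sub_pow, Fintype.card_fin,
    Nat.card_congr (CfsgLib.Linear.slEquivDetKer (n := Fin 5) (F := F)).toEquiv] at h
  refine h.trans ?_
  simp only [Finset.prod_range_succ, Finset.prod_range_zero, ordSL, Nat.reduceAdd, pow_one, one_mul]
  norm_num
  ring

include hC hf

/-- **An overgroup of the normaliser with a further element contains the special linear group.** -/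
theorem specialLinear_le_of_overgroup {g₀ : GL (Fin 5) F} (hg₀ : g₀ ∈ X) (hn₀ : ¬ Normalises e g₀) :
    specialLinear (Fin 5) F ≤ X := by
  classical
  refine specialLinear_le_of_twoTrans ?_
  set q := Fintype.card F with hq
  haveI := Fintype.ofFinite (X ⧸ scalIn X)
  have hbig : 31 ≤ red q := big_red Fintype.one_lt_card
  haveI : NeZero (red q) := ⟨by omega⟩
  have hord := orderOf_mk e ho hc hC
  have hcc : ∀ k : ℕ, ¬ red q ∣ k → ∀ x : X ⧸ scalIn X, Commute x ((th e hC) ^ k) → x ∈ Subgroup.zpowers (th e hC) :=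
    fun k hk x hx => mem_of_commute_mk e ho hc hC hX hk hx
  have hcast : ∀ a b : ℕ, (th e hC) ^ a = (th e hC) ^ b ↔ (a : ZMod (red q)) = b := fun a b => by
    rw [pow_eq_pow_iff_modEq, hord, ZMod.natCast_eq_natCast_iff]
  let S : Sys (X ⧸ scalIn X) (red q) :=
    { h := (th e hC)
      r := q
      ord := hord
      big := hbig
      r_five := by
        obtain ⟨t, ht⟩ := (red_dvd_pts q).trans (dvd_mul_left (pts q) (q - 1))
        rw [pts_mul q Fintype.card_pos] at ht
        rw [← Nat.cast_pow, ← Nat.cast_one, ZMod.natCast_eq_natCast_iff, Nat.ModEq.comm,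
          Nat.modEq_iff_dvd' (Nat.one_le_pow _ _ Fintype.card_pos), ht]
        exact dvd_mul_right _ _
      free := by
        intro k hk l hl hl5 hkl
        have h1 : (th e hC) ^ (k.val * q ^ l) = (th e hC) ^ k.val := by
          rw [hcast, Nat.cast_mul, Nat.cast_pow, ZMod.natCast_val, ZMod.cast_id]; exact hkl
        rw [mk_pow e ho hc hC, mk_pow e ho hc hC, eq_comm, mk_eq_iff] at h1
        obtain ⟨z, hz⟩ := h1
        change mat e ((c ^ (k.val * q ^ l) : Lˣ) : L) = z • mat e ((c ^ k.val : Lˣ) : L) at hz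
        rw [← map_smul, Algebra.smul_def, Units.val_pow_eq_pow_val, Units.val_pow_eq_pow_val] at hz
        exact Sys.not_dvd_val hk (no_scaled e ho hc (i := l) (z := z)
          (fun hd => by have := Nat.le_of_dvd hl hd; omega) (by rw [sg_pow_gen ho hc]; exact mat_injective e hz))
      cc := hcc
      fus := by
        intro a b ha
        rw [isConj_iff]
        constructor
        · rintro ⟨x, hx⟩
          obtain ⟨t, i, -, hb⟩ := exists_frob_of_conj e ho hc hC hf hX (Sys.not_dvd_val ha) hx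
          refine ⟨i, ?_⟩
          rw [hcast, Nat.cast_mul, Nat.cast_pow, ZMod.natCast_val, ZMod.natCast_val, ZMod.cast_id,
            ZMod.cast_id] at hb
          exact hb
        · rintro ⟨l, rfl⟩
          refine ⟨(tf e hf) ^ l, ?_⟩
          rw [frob_pow_conj e ho hc hC hf, hcast, Nat.cast_mul, Nat.cast_pow, ZMod.natCast_val,
            ZMod.natCast_val, ZMod.cast_id, ZMod.cast_id]
      gen := by
        intro N hN hhN
        haveI := hN
        refine eq_top_of_mem (f := (tf e hf)) hord hbig hcc ?_ ?_ (frob_not_mem e ho hc hC hf hX) ?_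
          (fun E => card_le_of_abelian e ho hc hC hX E) N hhN
        · intro k hk x hx
          obtain ⟨b, hb⟩ := exists_pow_of_mem_zpowers hx
          obtain ⟨t, i, rfl, -⟩ := exists_frob_of_conj e ho hc hC hf hX hk hb.symm
          exact ⟨i, by rw [mul_inv_cancel_right]; exact Subgroup.pow_mem _ (Subgroup.mem_zpowers _) t⟩
        · rw [← QuotientGroup.mk_pow, QuotientGroup.eq_one_iff, mem_scalIn, Subgroup.coe_pow, frob_pow_five]
          exact ⟨1, by simp⟩
        · refine ⟨QuotientGroup.mk ⟨g₀, hg₀⟩, fun hx => ?_⟩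
          obtain ⟨b, hb⟩ := exists_pow_of_mem_zpowers hx
          rw [eq_comm, mul_inv_eq_iff_eq_mul, mk_pow e ho hc hC, ← QuotientGroup.mk_mul, ← QuotientGroup.mk_mul,
            eq_comm, mk_eq_iff] at hb
          obtain ⟨z, hz⟩ := hb
          refine hn₀ ?_
          obtain ⟨t, i, -, hg, -⟩ := eq_of_scaled e ho hc (hX hg₀) (k := 1)
            (not_red_dvd_small e ho hc one_pos (by norm_num)) (z := z) (b := b)
            (by rw [pow_one]; simpa using hz)
          intro a
          refine ⟨(σ ^ i) a, ?_⟩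
          rw [hg, Units.mul_inv_eq_iff_eq_mul, Units.val_mul, mul_assoc, frob_conj, ← mul_assoc, ← mul_assoc]
          congr 1
          show mat e _ * mat e _ = mat e _ * mat e _
          rw [← map_mul, ← map_mul, mul_comm] }
  -- the action on the points
  have hker : scalIn X ≤ (onPts.comp X.subtype).ker := by
    intro g hg
    obtain ⟨z, hz⟩ := scal_iff.1 hg
    rw [MonoidHom.mem_ker]
    refine Equiv.ext fun p => ?_
    induction p using Projectivization.ind with
    | h v hv =>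
      rw [Equiv.Perm.one_apply, MonoidHom.comp_apply, onPts_mk_eq_mk_iff]
      exact ⟨z, by show z • v = (g : GL (Fin 5) F).1 *ᵥ v; rw [hz, smul_mulVec, one_mulVec]⟩
  letI : MulAction (X ⧸ scalIn X) (ℙ F (Fin 5 → F)) :=
    MulAction.compHom _ (QuotientGroup.lift (scalIn X) (onPts.comp X.subtype) hker)
  have hsmul : ∀ (g : X) (p : ℙ F (Fin 5 → F)),
      (QuotientGroup.mk g : X ⧸ scalIn X) • p = onPts (g : GL (Fin 5) F) p := fun g p => rfl
  have hfixP : ∀ k : ℕ, ∀ p : ℙ F (Fin 5 → F), (th e hC) ^ k • p = p → red q ∣ k := by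
    intro k p hp
    induction p using Projectivization.ind with
    | h v hv =>
      rw [mk_pow e ho hc hC, hsmul, onPts_mk_eq_mk_iff] at hp
      obtain ⟨z, hz⟩ := hp
      obtain ⟨y, rfl⟩ := e.surjective v
      rw [gl_mulVec, ← map_smul, e.injective.eq_iff, Algebra.smul_def] at hz
      refine (scalar_iff e ho hc).1 ⟨z, ?_⟩
      rw [← Units.val_pow_eq_pow_val]
      exact mul_right_cancel₀ (fun h0 => hv (by rw [h0, map_zero])) hz
  have hfixE : ∀ a, a ≠ 0 → ∀ p : ℙ F (Fin 5 → F), S.e a • p ≠ p := fun a ha p hp =>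
    Sys.not_dvd_val ha (hfixP _ p hp)
  have hv0 : (Pi.single 0 1 : Fin 5 → F) ≠ 0 := by simp
  set p₀ := Projectivization.mk F (Pi.single 0 1 : Fin 5 → F) hv0
  let Ω := MulAction.orbit (X ⧸ scalIn X) p₀
  haveI : Finite (ℙ F (Fin 5 → F)) := Quotient.finite _
  haveI := Fintype.ofFinite Ω
  -- the torus has orbits of full length
  have hdiv : red q ∣ Nat.card Ω := by
    have h0 : ∀ x : Ω, MulAction.stabilizer (Subgroup.zpowers (th e hC)) x = ⊥ := by
      intro x
      rw [eq_bot_iff]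
      intro g hg
      obtain ⟨k, hk⟩ := exists_pow_of_mem_zpowers g.2
      rw [Subgroup.mem_bot, ← Subtype.coe_inj, Subgroup.coe_one, ← hk, ← orderOf_dvd_iff_pow_eq_one, hord]
      refine hfixP k x ?_
      have := congrArg (fun y : Ω => (y : ℙ F (Fin 5 → F))) hg
      rw [hk]
      exact this
    rw [Nat.card_congr (MulAction.selfEquivOrbitsQuotientProd h0), Nat.card_prod, Nat.card_zpowers, hord]
    exact dvd_mul_left _ _
  obtain ⟨j, hj⟩ := hdiv
  have hle : Nat.card Ω ≤ pts q := card_pts (F := F) ▸ Nat.card_le_card_of_injective _ Subtype.val_injective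
  haveI : Nonempty Ω := ⟨⟨p₀, MulAction.mem_orbit_self _⟩⟩
  have hpos : 0 < Nat.card Ω := Nat.card_pos
  have hj0 : 0 < j := by
    rcases Nat.eq_zero_or_pos j with rfl | h
    · rw [hj, mul_zero] at hpos; omega
    · exact h
  have hcard : Nat.card Ω = j * red q := by rw [hj, mul_comm]
  have hfix : ∀ a, a ≠ 0 → ∀ x : Ω, S.e a • x ≠ x := fun a ha x hx =>
    hfixE a ha x (congrArg Subtype.val hx)
  have hred : (red q = pts q ∧ j ≤ 1) ∨ (5 ∣ pts q ∧ 5 * red q = pts q ∧ j ≤ 5) := by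
    have h1 : j * red q ≤ pts q := hcard ▸ hle
    by_cases h5 : 5 ∣ pts q
    · have h2 : 5 * red q = pts q := by rw [red, if_pos h5, Nat.mul_div_cancel' h5]
      rw [← h2] at h1
      exact Or.inr ⟨h5, h2, Nat.le_of_mul_le_mul_right h1 (by omega)⟩
    · have h2 : red q = pts q := by rw [red, if_neg h5]
      exact Or.inl ⟨h2, Nat.le_of_mul_le_mul_right (show j * red q ≤ 1 * red q by omega) (by omega)⟩
  have hboth : Nat.card (MulAction.orbitRel.Quotient (X ⧸ scalIn X) (Ω × Ω)) = 2 ∧ Nat.card Ω = pts q := by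
    rcases hred with ⟨h2, hj1⟩ | ⟨h5, h2, hj5⟩
    · refine ⟨S.two_trans hfix hcard (by omega) hj0 fun a v ha haj _ _ => by omega, ?_⟩
      rw [hcard, show j = 1 by omega, one_mul, h2]
    · obtain ⟨a, v, ha1, haj, hv, hdvd, h2t⟩ := S.exists_degree hfix hcard hj5 hj0
      have ha5 : a = 5 := by
        by_contra hne
        obtain ⟨p, hchar⟩ := CharP.exists F
        obtain ⟨f, hp, hqp⟩ := FiniteField.card F p
        refine not_dvd_ordSL (p := p) (f := f) hp (hqp ▸ Fintype.one_lt_card)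
          (hqp ▸ (pts_mod_twentyfive h5).1) (m := red q) (hqp ▸ h2) ha1 (by omega) hv ?_
        rw [← hqp]
        exact hdvd.trans (Nat.card_eq_fintype_card (α := X ⧸ scalIn X) ▸ card_dvd_ordSL ho hc hX)
      subst ha5
      obtain rfl : j = 5 := by omega
      exact ⟨h2t rfl, by rw [hcard, h2]⟩
  obtain ⟨h2, hall⟩ := hboth
  have hmem : ∀ p : ℙ F (Fin 5 → F), p ∈ Ω := by
    intro p
    by_contra hp
    have h1 := Set.ncard_lt_ncard (s := Ω) (t := Set.univ) ((Set.ssubset_univ_iff).2 fun h => hp (h ▸ trivial))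
    rw [Set.ncard_univ, card_pts, ← Nat.card_coe_set_eq, hall] at h1
    exact lt_irrefl _ h1
  intro u w u' w' hu hu' hw hw'
  have hw0 : w ≠ 0 := fun h => hw 0 (by rw [zero_smul, h])
  have hw'0 : w' ≠ 0 := fun h => hw' 0 (by rw [zero_smul, h])
  set P : ∀ v : Fin 5 → F, v ≠ 0 → Ω := fun v hv => ⟨Projectivization.mk F v hv, hmem _⟩ with hP
  have hne : ∀ {a b : Fin 5 → F} (ha : a ≠ 0) (hb : b ≠ 0), (∀ t : F, t • a ≠ b) → P a ha ≠ P b hb := by
    intro a b ha hb hab he
    obtain ⟨t, ht⟩ := (Projectivization.mk_eq_mk_iff' F b a hb ha).1 (congrArg Subtype.val he).symm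
    exact hab t ht
  let cls : Ω × Ω → MulAction.orbitRel.Quotient (X ⧸ scalIn X) (Ω × Ω) := Quotient.mk''
  have hoff : ∀ {a b : Ω}, a ≠ b → cls (a, b) ≠ cls (P u hu, P u hu) := by
    intro a b hab he
    obtain ⟨g, hg⟩ := Quotient.exact' he
    exact hab ((congrArg Prod.fst hg).symm.trans (congrArg Prod.snd hg))
  have hq : cls (P u' hu', P w' hw'0) = cls (P u hu, P w hw0) := by
    by_contra hne3
    haveI := Fintype.ofFinite (MulAction.orbitRel.Quotient (X ⧸ scalIn X) (Ω × Ω))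
    have h3 := Finset.card_le_univ
      ({cls (P u hu, P u hu), cls (P u hu, P w hw0), cls (P u' hu', P w' hw'0)} : Finset _)
    rw [← Nat.card_eq_fintype_card, h2, Finset.card_insert_of_notMem, Finset.card_pair (Ne.symm hne3)] at h3
    · omega
    · simp only [Finset.mem_insert, Finset.mem_singleton, not_or]
      exact ⟨(hoff (hne hu hw0 hw)).symm, (hoff (hne hu' hw'0 hw')).symm⟩
  obtain ⟨x, hx⟩ := Quotient.exact' hq
  induction x using QuotientGroup.induction_on with
  | H g =>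
    have h1 : (QuotientGroup.mk g : X ⧸ scalIn X) • P u hu = P u' hu' := congrArg Prod.fst hx
    have h2' : (QuotientGroup.mk g : X ⧸ scalIn X) • P w hw0 = P w' hw'0 := congrArg Prod.snd hx
    have key : ∀ {a b : Fin 5 → F} (ha : a ≠ 0) (hb : b ≠ 0),
        (QuotientGroup.mk g : X ⧸ scalIn X) • P a ha = P b hb →
        ∃ t : F, t ≠ 0 ∧ (g : GL (Fin 5) F).1 *ᵥ a = t • b := by
      intro a b ha hb h
      obtain ⟨t, ht⟩ := (onPts_mk_eq_mk_iff ha hb).1 (congrArg Subtype.val h)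
      refine ⟨t, fun h0 => ha ?_, ht.symm⟩
      rw [h0, zero_smul] at ht
      have := congrArg ((((g : GL (Fin 5) F)⁻¹ : GL (Fin 5) F)).1 *ᵥ ·) ht
      simpa [mulVec_mulVec] using this.symm
    exact ⟨g, g.2, key hu hu' h1, key hw0 hw'0 h2'⟩

end

omit ho hc

/-- **The normaliser of a field of degree five is maximal in `SL₅ (q)`.** -/
theorem isMaximalIn_singer : ∀ K : Subalgebra F (Matrix (Fin 5) (Fin 5) F), IsFieldSubalgebra 5 K →
    IsMaximalIn (specialLinear (Fin 5) F) (subalgebraNormalizer K ⊓ specialLinear (Fin 5) F) := by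
  intro K hK
  letI : Field K := (ExtField.isField_subalgebra hK).toField
  haveI : Finite K := Subtype.finite
  let T : K →ₗ[F] (Fin 5 → F) :=
    { toFun := fun k => (k : Matrix (Fin 5) (Fin 5) F) *ᵥ Pi.single 0 1
      map_add' := fun x y => by simp only [Subalgebra.coe_add, add_mulVec]
      map_smul' := fun r x => by simp only [Subalgebra.coe_smul, smul_mulVec, RingHom.id_apply] }
  have hT : Function.Injective T := by
    rw [← LinearMap.ker_eq_bot, Submodule.eq_bot_iff]
    intro k hk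
    by_contra hk0
    obtain ⟨y, -, hy⟩ := hK.inv k k.2 fun h => hk0 (Subtype.ext h)
    have hk' : (k : Matrix (Fin 5) (Fin 5) F) *ᵥ Pi.single 0 1 = 0 := LinearMap.mem_ker.1 hk
    have := congrArg (fun u => y *ᵥ u) hk'
    simp only [mulVec_mulVec, mulVec_zero, mul_eq_one_comm.1 hy, one_mulVec] at this
    simpa using congrFun this 0
  let e : K ≃ₗ[F] (Fin 5 → F) := LinearEquiv.ofBijective T ⟨hT,
    (LinearMap.injective_iff_surjective_of_finrank_eq_finrank
      (by rw [hK.finrank_eq, Module.finrank_fin_fun])).1 hT⟩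
  have hmat : ∀ k : K, mat e k = (k : Matrix (Fin 5) (Fin 5) F) := by
    intro k
    refine Matrix.ext_of_mulVec_single fun i => ?_
    obtain ⟨x, hx⟩ := e.surjective (Pi.single i 1)
    rw [← hx, mat_mulVec]
    show (((k * x : K) : Matrix (Fin 5) (Fin 5) F)) *ᵥ Pi.single 0 1 = _
    rw [Subalgebra.coe_mul, ← mulVec_mulVec]
    rfl
  have hiff : ∀ g : GL (Fin 5) F, g ∈ subalgebraNormalizer K ↔ Normalises e g := by
    refine fun g => ⟨fun h k => ?_, fun h => ExtField.mem_normalizer_of_conj_mem fun k hk => ?_⟩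
    · refine ⟨⟨_, (h (k : Matrix (Fin 5) (Fin 5) F)).1 k.2⟩, ?_⟩
      rw [hmat, hmat]
    · obtain ⟨b, hb⟩ := h ⟨k, hk⟩
      rw [hmat, hmat] at hb
      rw [hb]
      exact b.2
  obtain ⟨c, ho, hc⟩ := exists_generator e
  refine isMaximalIn_of inf_le_right ?_ fun M hHM hMK g hg hg' => ?_
  · obtain ⟨t, ht, htn⟩ := exists_not_normalises e
    exact ⟨t, ht, fun h => htn ((hiff t).1 h.1)⟩
  · refine specialLinear_le_of_overgroup e ho hc (X := M) ?_ ?_ hMK hg fun h => hg' ⟨(hiff g).2 h, hMK hg⟩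
    · exact hHM ⟨(hiff _).2 (normalises_gl e c), gl_mem_specialLinear e ((hc c).1 (Subgroup.mem_zpowers c))⟩
    · exact hHM ⟨(hiff _).2 (normalises_frob e), frob_mem_specialLinear e⟩

end CfsgLib.SingerFive
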