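import Cfsg.Agent.Characters.Linear
import Cfsg.Agent.Characters.FixedPoints
import Cfsg.Agent.Perm.PermChar
import Mathlib.Analysis.SpecialFunctions.Complex.CircleAddChar

/-!
# A self-centralising cyclic T.I. subgroup whose normaliser has index five over it

Column orthogonality on the non-identity elements of the cyclic subgroup gives the exceptional
characters directly.  A transitive action in which the subgroup is semiregular with at most five
orbits is then doubly transitive, as soon as certain degrees do not divide the group order.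
-/

set_option autoImplicit false
set_option linter.unusedSectionVars false
set_option linter.style.haveILetI false

namespace CfsgLib.SingerFive

open Cfsg CfsgLib.Characters
open scoped ComplexConjugate

universe u

/-! ### Integer vectors of norm six with inner products five -/

theorem support_of_norm_two {α : Type*} [Fintype α] [DecidableEq α] {d : α → ℤ}
    (h : ∑ x, d x * d x = 2) :
    ((Finset.univ.filter fun x => d x ≠ 0).card = 2) ∧ ∀ x, d x ≠ 0 → d x = 1 ∨ d x = -1 := by
  have hsum : ∑ x ∈ Finset.univ.filter (fun x => d x ≠ 0), d x * d x = 2 := by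
    rw [Finset.sum_filter_of_ne (p := fun x => d x ≠ 0) (fun x _ hx h0 => hx (by rw [h0, mul_zero])), h]
  have hle : ∀ x, d x * d x ≤ 2 := fun x =>
    h ▸ Finset.single_le_sum (f := fun x => d x * d x) (fun y _ => mul_self_nonneg (d y)) (Finset.mem_univ x)
  have hone : ∀ x, d x ≠ 0 → d x = 1 ∨ d x = -1 := by
    intro x hx
    have := hle x
    have h1 : d x ≤ 1 := by nlinarith
    have h2 : -1 ≤ d x := by nlinarith
    omega
  refine ⟨?_, hone⟩
  rw [Finset.sum_congr rfl (g := fun _ => (1 : ℤ)) (fun x hx => by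
    rcases hone x (Finset.mem_filter.1 hx).2 with e | e <;> rw [e] <;> norm_num)] at hsum
  simp only [Finset.sum_const, nsmul_eq_mul, mul_one] at hsum
  exact_mod_cast hsum

theorem exists_star {ι α : Type*} [Fintype ι] [Fintype α] (V : ι → α → ℤ) (h5 : 5 ≤ Fintype.card ι)
    (hn : ∀ i, ∑ x, V i x * V i x = 6) (hp : ∀ i j, i ≠ j → ∑ x, V i x * V j x = 5) :
    ∃ (u : α → ℤ) (E : ι → α) (τ : ι → ℤ) (k : ℤ), Function.Injective E ∧
      (∀ i, τ i = 1 ∨ τ i = -1) ∧ (∀ i, V i (E i) = u (E i) + τ i) ∧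
      (∀ i x, x ≠ E i → V i x = u x) ∧ (∀ i, τ i * u (E i) = k) ∧ ∑ x, u x * u x = 5 - 2 * k := by
  classical
  haveI : Nonempty ι := Fintype.card_pos_iff.1 (by omega)
  obtain ⟨i₀⟩ := ‹Nonempty ι›
  set d : ι → α → ℤ := fun j x => V j x - V i₀ x with hd
  have hd2 : ∀ j, j ≠ i₀ → ∑ x, d j x * d j x = 2 := fun j hj => by
    simp only [hd, sub_mul, mul_sub, Finset.sum_sub_distrib, hn, hp j i₀ hj, hp i₀ j hj.symm]
    norm_num
  have hd1 : ∀ j l, j ≠ i₀ → l ≠ i₀ → j ≠ l → ∑ x, d j x * d l x = 1 := fun j l hj hl hjl => by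
    simp only [hd, sub_mul, mul_sub, Finset.sum_sub_distrib, hn, hp j i₀ hj, hp j l hjl, hp i₀ l hl.symm]
    norm_num
  set P : ι → Finset α := fun j => Finset.univ.filter fun x => d j x ≠ 0 with hP
  have hPm : ∀ j x, x ∈ P j ↔ d j x ≠ 0 := fun j x => by simp [hP]
  have hP2 : ∀ j, j ≠ i₀ → (P j).card = 2 := fun j hj => (support_of_norm_two (hd2 j hj)).1
  have hmeet : ∀ j l, j ≠ i₀ → l ≠ i₀ → j ≠ l → ∃ x, P j ∩ P l = {x} ∧ d j x = d l x := by
    intro j l hj hl hjl
    have h1 := hd1 j l hj hl hjl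
    rw [← Finset.sum_subset (Finset.subset_univ (P j ∩ P l)) (fun x _ hx => by
      rw [Finset.mem_inter, hPm, hPm, not_and_or, not_ne_iff, not_ne_iff] at hx
      rcases hx with e | e <;> rw [e] <;> ring)] at h1
    have hsq : ∀ x ∈ P j ∩ P l, d j x * d l x = 1 ∨ d j x * d l x = -1 := fun x hx => by
      rw [Finset.mem_inter, hPm, hPm] at hx
      rcases (support_of_norm_two (hd2 j hj)).2 x hx.1 with e | e <;>
        rcases (support_of_norm_two (hd2 l hl)).2 x hx.2 with e' | e' <;> rw [e, e'] <;> norm_num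
    have hcard : (P j ∩ P l).card ≤ 2 :=
      (Finset.card_le_card Finset.inter_subset_left).trans (hP2 j hj).le
    rcases (show (P j ∩ P l).card = 0 ∨ (P j ∩ P l).card = 1 ∨ (P j ∩ P l).card = 2 by omega) with e | e | e
    · rw [Finset.card_eq_zero.1 e] at h1; simp at h1
    · obtain ⟨x, hx⟩ := Finset.card_eq_one.1 e
      refine ⟨x, hx, ?_⟩
      rw [hx, Finset.sum_singleton] at h1
      rcases Int.mul_eq_one_iff_eq_one_or_neg_one.1 h1 with ⟨a, b⟩ | ⟨a, b⟩ <;> rw [a, b]
    · obtain ⟨x, y, hxy, hx⟩ := Finset.card_eq_two.1 e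
      rw [hx, Finset.sum_pair hxy] at h1
      rcases hsq x (by simp [hx]) with a | a <;> rcases hsq y (by simp [hx]) with b | b <;> omega
  have hne : ∀ j l, j ≠ i₀ → l ≠ i₀ → j ≠ l → P j ≠ P l := fun j l hj hl hjl he => by
    obtain ⟨x, hx, -⟩ := hmeet j l hj hl hjl
    have := hP2 j hj
    rw [← he, Finset.inter_self] at hx
    rw [hx, Finset.card_singleton] at this
    omega
  set J := (Finset.univ : Finset ι).erase i₀ with hJ
  have hJc : 4 ≤ J.card := by rw [hJ, Finset.card_erase_of_mem (Finset.mem_univ _), Finset.card_univ]; omega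
  obtain ⟨j₁, hj₁⟩ := Finset.card_pos.1 (show 0 < J.card by omega)
  obtain ⟨j₂, hj₂⟩ := Finset.card_pos.1 (show 0 < (J.erase j₁).card by
    rw [Finset.card_erase_of_mem hj₁]; omega)
  obtain ⟨hj21, hj₂J⟩ := Finset.mem_erase.1 hj₂
  have hJm : ∀ {j}, j ∈ J → j ≠ i₀ := fun hj => (Finset.mem_erase.1 hj).1
  obtain ⟨a, ha, haε⟩ := hmeet j₁ j₂ (hJm hj₁) (hJm hj₂J) (Ne.symm hj21)
  have hmem : ∀ l, l ≠ i₀ → a ∈ P l := by
    by_contra hcon
    push Not at hcon
    obtain ⟨l, hl, hal⟩ := hcon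
    have ha1 : a ∈ P j₁ ∧ a ∈ P j₂ := Finset.mem_inter.1 (by rw [ha]; exact Finset.mem_singleton_self a)
    have hl1 : l ≠ j₁ := fun e => hal (e ▸ ha1.1)
    have hl2 : l ≠ j₂ := fun e => hal (e ▸ ha1.2)
    obtain ⟨b₁, hb₁⟩ := Finset.card_eq_one.1 (show ((P j₁).erase a).card = 1 by
      rw [Finset.card_erase_of_mem ha1.1, hP2 _ (hJm hj₁)])
    obtain ⟨b₂, hb₂⟩ := Finset.card_eq_one.1 (show ((P j₂).erase a).card = 1 by
      rw [Finset.card_erase_of_mem ha1.2, hP2 _ (hJm hj₂J)])
    have hb12 : b₁ ≠ b₂ := fun e => hne _ _ (hJm hj₁) (hJm hj₂J) (Ne.symm hj21) (by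
      rw [← Finset.insert_erase ha1.1, ← Finset.insert_erase ha1.2, hb₁, hb₂, e])
    have hno : ∀ t, t ≠ i₀ → t ≠ j₁ → t ≠ j₂ → a ∉ P t → P t = {b₁, b₂} := by
      intro t ht t1 t2 hat
      obtain ⟨x, hx, -⟩ := hmeet t j₁ ht (hJm hj₁) t1
      obtain ⟨y, hy, -⟩ := hmeet t j₂ ht (hJm hj₂J) t2
      have hx' := Finset.mem_inter.1 (show x ∈ P t ∩ P j₁ by rw [hx]; exact Finset.mem_singleton_self x)
      have hy' := Finset.mem_inter.1 (show y ∈ P t ∩ P j₂ by rw [hy]; exact Finset.mem_singleton_self y)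
      have hxb : x = b₁ := by
        have : x ∈ (P j₁).erase a := Finset.mem_erase.2 ⟨fun e => hat (e ▸ hx'.1), hx'.2⟩
        rwa [hb₁, Finset.mem_singleton] at this
      have hyb : y = b₂ := by
        have : y ∈ (P j₂).erase a := Finset.mem_erase.2 ⟨fun e => hat (e ▸ hy'.1), hy'.2⟩
        rwa [hb₂, Finset.mem_singleton] at this
      refine (Finset.eq_of_subset_of_card_le ?_ ?_).symm
      · exact Finset.insert_subset_iff.2 ⟨hxb ▸ hx'.1, Finset.singleton_subset_iff.2 (hyb ▸ hy'.1)⟩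
      · rw [hP2 t ht, Finset.card_pair hb12]
    obtain ⟨t, ht⟩ := Finset.card_pos.1 (show 0 < (((J.erase j₁).erase j₂).erase l).card by
      rw [Finset.card_erase_of_mem, Finset.card_erase_of_mem hj₂, Finset.card_erase_of_mem hj₁]
      · omega
      · simp [hJ, hl, hl1, hl2])
    simp only [hJ, Finset.mem_erase, Finset.mem_univ, and_true] at ht
    obtain ⟨htl, ht2, ht1, ht0⟩ := ht
    by_cases hat : a ∈ P t
    · have hl' := hno l hl hl1 hl2 hal
      obtain ⟨x, hx, -⟩ := hmeet t l ht0 hl htl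
      have hx' := Finset.mem_inter.1 (show x ∈ P t ∩ P l by rw [hx]; exact Finset.mem_singleton_self x)
      rw [hl', Finset.mem_insert, Finset.mem_singleton] at hx'
      have hxa : x ≠ a := fun e => hal (hl' ▸ by subst e; simpa using hx'.2)
      have hPt : P t = {a, x} := (Finset.eq_of_subset_of_card_le
        (Finset.insert_subset_iff.2 ⟨hat, Finset.singleton_subset_iff.2 hx'.1⟩)
        (by rw [hP2 t ht0, Finset.card_pair hxa.symm])).symm
      rcases hx'.2 with e | e
      · exact hne t j₁ ht0 (hJm hj₁) ht1 (by rw [hPt, e, ← Finset.insert_erase ha1.1, hb₁])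
      · exact hne t j₂ ht0 (hJm hj₂J) ht2 (by rw [hPt, e, ← Finset.insert_erase ha1.2, hb₂])
    · exact hne t l ht0 hl htl (by rw [hno t ht0 ht1 ht2 hat, hno l hl hl1 hl2 hal])
  set ε := d j₁ a with hεd
  have hε : ∀ l, l ≠ i₀ → d l a = ε := by
    intro l hl
    rcases eq_or_ne l j₁ with rfl | hne'
    · rfl
    · obtain ⟨x, hx, he⟩ := hmeet l j₁ hl (hJm hj₁) hne'
      have : a ∈ P l ∩ P j₁ := Finset.mem_inter.2 ⟨hmem l hl, hmem j₁ (hJm hj₁)⟩
      rw [hx, Finset.mem_singleton] at this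
      rw [this]; rw [hεd, this]; exact he
  have hbex : ∀ l, ∃ b, l ≠ i₀ → (P l).erase a = {b} := by
    intro l
    by_cases hl : l = i₀
    · exact ⟨a, fun h => absurd hl h⟩
    · obtain ⟨b, hb⟩ := Finset.card_eq_one.1 (show ((P l).erase a).card = 1 by
        rw [Finset.card_erase_of_mem (hmem l hl), hP2 l hl])
      exact ⟨b, fun _ => hb⟩
  choose b hb using hbex
  have hbne : ∀ l, l ≠ i₀ → b l ≠ a ∧ d l (b l) ≠ 0 := fun l hl => by
    have : b l ∈ (P l).erase a := by rw [hb l hl]; exact Finset.mem_singleton_self _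
    obtain ⟨h1, h2⟩ := Finset.mem_erase.1 this
    exact ⟨h1, (hPm _ _).1 h2⟩
  set E : ι → α := fun l => if l = i₀ then a else b l with hE
  set τ : ι → ℤ := fun l => if l = i₀ then -ε else d l (b l) with hτ
  set u : α → ℤ := fun x => if x = a then V i₀ a + ε else V i₀ x with hu
  have hτ1 : ∀ i, τ i = 1 ∨ τ i = -1 := by
    intro i
    have hε1 := (support_of_norm_two (hd2 j₁ (hJm hj₁))).2 a ((hPm _ _).1 (hmem j₁ (hJm hj₁)))
    by_cases hi : i = i₀
    · simp only [hτ, if_pos hi]
      rcases hε1 with e | e <;> rw [← hεd] at e <;> omega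
    · simp only [hτ, if_neg hi]
      exact (support_of_norm_two (hd2 i hi)).2 _ (hbne i hi).2
  have hVE : ∀ i, V i (E i) = u (E i) + τ i := by
    intro i
    by_cases hi : i = i₀
    · subst hi
      simp only [hE, hτ, hu, if_pos]
      ring
    · simp only [hE, hτ, hu, if_neg hi, if_neg (hbne i hi).1, hd]
      ring
  have hVx : ∀ i x, x ≠ E i → V i x = u x := by
    intro i x hx
    by_cases hi : i = i₀
    · subst hi
      simp only [hE, if_pos] at hx
      simp only [hu, if_neg hx]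
    · simp only [hE, if_neg hi] at hx
      by_cases hxa : x = a
      · subst hxa
        simp only [hu, if_pos]
        rw [← hε i hi]; simp only [hd]; ring
      · have h0 : d i x = 0 := by
          by_contra h
          have : x ∈ (P i).erase a := Finset.mem_erase.2 ⟨hxa, (hPm _ _).2 h⟩
          rw [hb i hi, Finset.mem_singleton] at this
          exact hx this
        simp only [hd, sub_eq_zero] at h0
        simp only [hu, if_neg hxa, h0]
  have hEinj : Function.Injective E := by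
    intro i l h
    by_cases hi : i = i₀ <;> by_cases hl : l = i₀
    · rw [hi, hl]
    · simp only [hE, if_pos hi, if_neg hl] at h
      exact absurd h.symm (hbne l hl).1
    · simp only [hE, if_neg hi, if_pos hl] at h
      exact absurd h (hbne i hi).1
    · simp only [hE, if_neg hi, if_neg hl] at h
      by_contra hne'
      exact hne i l hi hl hne' (by
        rw [← Finset.insert_erase (hmem i hi), ← Finset.insert_erase (hmem l hl), hb i hi, hb l hl, h])
  have hk : ∀ i, ∑ x, u x * u x + 2 * (τ i * u (E i)) = 5 := by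
    intro i
    have h1 := hn i
    rw [← Finset.add_sum_erase _ _ (Finset.mem_univ (E i)), hVE,
      Finset.sum_congr rfl (g := fun x => u x * u x) (fun x hx => by rw [hVx i x (Finset.mem_erase.1 hx).1])] at h1
    rw [← Finset.add_sum_erase _ _ (Finset.mem_univ (E i))]
    have : τ i * τ i = 1 := by rcases hτ1 i with e | e <;> rw [e] <;> norm_num
    linear_combination h1 - this
  refine ⟨u, E, τ, τ i₀ * u (E i₀), hEinj, hτ1, hVE, hVx, fun i => ?_, ?_⟩
  · have := hk i; have := hk i₀; omega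
  · have := hk i₀; omega

/-- The same with one coordinate always one and a linear relation. -/
theorem exists_star_zero {ι α : Type*} [Fintype ι] [Fintype α] (V : ι → α → ℤ) (h6 : 6 ≤ Fintype.card ι)
    (hn : ∀ i, ∑ x, V i x * V i x = 6) (hp : ∀ i j, i ≠ j → ∑ x, V i x * V j x = 5) {o : α}
    (ho : ∀ i, V i o = 1) {d : α → ℤ} (hdo : d o = 1) (hd : ∀ i, ∑ x, d x * V i x = 0) :
    ∃ (u : α → ℤ) (E : ι → α) (τ : ι → ℤ), Function.Injective E ∧ (∀ i, τ i = 1 ∨ τ i = -1) ∧
      (∀ i, u (E i) = 0) ∧ (∀ i, V i (E i) = τ i) ∧ (∀ i x, x ≠ E i → V i x = u x) ∧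
      u o = 1 ∧ (∀ i, E i ≠ o) ∧ ∑ x, u x * u x = 5 := by
  classical
  obtain ⟨u, E, τ, k, hE, hτ, hVE, hVx, hk, hu⟩ := exists_star V (by omega) hn hp
  haveI : Nonempty ι := Fintype.card_pos_iff.1 (by omega)
  have huo : u o = 1 ∧ ∀ i, E i ≠ o := by
    obtain ⟨i⟩ := ‹Nonempty ι›
    obtain ⟨j, hj⟩ : ∃ j, j ≠ i := Fintype.exists_ne_of_one_lt_card (by omega) i
    have h1 : u o = 1 := by
      by_cases h : E i = o
      · rw [← hVx j o fun e => hj (hE (e.symm.trans h.symm)), ho]
      · rw [← hVx i o (Ne.symm h), ho]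
    refine ⟨h1, fun l hl => ?_⟩
    have h2 := hVE l
    rw [hl, ho, h1] at h2
    rcases hτ l with e | e <;> omega
  have hk0 : k = 0 := by
    by_contra hk0
    set S := Finset.univ.image E with hS
    have hoS : o ∉ S := by simp [hS, huo.2]
    have hsq : ∀ i, u (E i) * u (E i) = k * k := fun i => by
      rw [← hk i]; rcases hτ i with e | e <;> rw [e] <;> ring
    have hsum : ∑ x, u x * u x =
        1 + Fintype.card ι * (k * k) + ∑ x ∈ (Finset.univ \ insert o S), u x * u x := by
      rw [← Finset.sum_sdiff (Finset.subset_univ (insert o S)), Finset.sum_insert hoS, huo.1, hS,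
        Finset.sum_image (fun a _ b _ h => hE h), Finset.sum_congr rfl (fun i _ => hsq i),
        Finset.sum_const, Finset.card_univ, nsmul_eq_mul]
      ring
    have hpos : 0 ≤ ∑ x ∈ (Finset.univ \ insert o S), u x * u x :=
      Finset.sum_nonneg fun x _ => mul_self_nonneg _
    have hkk : 0 < k * k := mul_self_pos.2 hk0
    have hk1 : k = -1 := by
      have h2 : 1 + 6 * (k * k) ≤ 5 - 2 * k := by
        have : (6 : ℤ) ≤ Fintype.card ι := by exact_mod_cast h6
        nlinarith
      nlinarith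
    subst hk1
    have hι : Fintype.card ι = 6 := by
      have : (Fintype.card ι : ℤ) ≤ 6 := by linarith
      omega
    have h0 : ∑ x ∈ (Finset.univ \ insert o S), u x * u x = 0 := by rw [hι] at hsum; omega
    have hz : ∀ x ∈ (Finset.univ \ insert o S), u x = 0 := fun x hx =>
      mul_self_eq_zero.1 ((Finset.sum_eq_zero_iff_of_nonneg fun y _ => mul_self_nonneg (u y)).1 h0 x hx)
    have hdu : ∑ x, d x * u x = 1 + ∑ i, d (E i) * u (E i) := by
      rw [← Finset.sum_sdiff (Finset.subset_univ (insert o S)), Finset.sum_insert hoS, huo.1, hdo, hS,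
        Finset.sum_image (fun a _ b _ h => hE h),
        Finset.sum_eq_zero (fun x hx => by rw [hz x hx, mul_zero])]
      ring
    have hVd : ∀ i, ∑ x, d x * u x + d (E i) * τ i = 0 := fun i => by
      have h1 := hd i
      rw [← Finset.add_sum_erase _ _ (Finset.mem_univ (E i)), hVE,
        Finset.sum_congr rfl (g := fun x => d x * u x) (fun x hx => by rw [hVx i x (Finset.mem_erase.1 hx).1])] at h1
      rw [← Finset.add_sum_erase _ _ (Finset.mem_univ (E i))]
      linarith
    have hterm : ∀ i, d (E i) * u (E i) = ∑ x, d x * u x := fun i => by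
      have h1 := hVd i
      have h2 := hk i
      rcases hτ i with e | e <;> rw [e] at h1 h2
      · rw [show u (E i) = -1 by linarith]; linarith
      · rw [show u (E i) = 1 by linarith]; linarith
    rw [Finset.sum_congr rfl (fun i _ => hterm i), Finset.sum_const, Finset.card_univ, hι] at hdu
    simp only [nsmul_eq_mul, Nat.cast_ofNat] at hdu
    omega
  subst hk0
  have hu0 : ∀ i, u (E i) = 0 := fun i => by
    rcases hτ i with e | e <;> have := hk i <;> rw [e] at this <;> linarith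
  exact ⟨u, E, τ, hE, hτ, hu0, fun i => by rw [hVE, hu0, zero_add], hVx, huo.1, huo.2, by linarith⟩

/-! ### The setting -/

/-- `h` generates a self-centralising T.I. subgroup of order `m`; `r` gives the fusion inside it. -/
structure Sys (G : Type u) [Group G] (m : ℕ) where
  h : G
  r : ZMod m
  ord : orderOf h = m
  big : 31 ≤ m
  r_five : r ^ 5 = 1
  free : ∀ k : ZMod m, k ≠ 0 → ∀ l : ℕ, 0 < l → l < 5 → k * r ^ l ≠ k
  cc : ∀ k : ℕ, ¬ m ∣ k → ∀ x : G, Commute x (h ^ k) → x ∈ Subgroup.zpowers h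
  fus : ∀ a b : ZMod m, a ≠ 0 → (IsConj (h ^ a.val) (h ^ b.val) ↔ ∃ l : ℕ, b = a * r ^ l)
  gen : ∀ N : Subgroup G, N.Normal → h ∈ N → N = ⊤

namespace Sys

variable {G : Type u} [Group G] {m : ℕ} [NeZero m] (S : Sys G m)

/-- The elements of the cyclic subgroup. -/
def e (a : ZMod m) : G := S.h ^ a.val

theorem e_zero : S.e 0 = 1 := by rw [e, ZMod.val_zero, pow_zero]

theorem e_natCast (k : ℕ) : S.e (k : ZMod m) = S.h ^ k := by
  rw [e, ZMod.val_natCast]
  exact (congrArg (fun o => S.h ^ (k % o)) S.ord).symm.trans (pow_mod_orderOf S.h k)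

theorem not_dvd_val {a : ZMod m} (ha : a ≠ 0) : ¬ m ∣ a.val := fun h =>
  ha ((ZMod.val_eq_zero a).1 (Nat.eq_zero_of_dvd_of_lt h a.val_lt))

/-- The class of an index. -/
noncomputable def orb (i : ZMod m) : Finset (ZMod m) := (Finset.range 5).image fun l => i * S.r ^ l

theorem mem_orb {i j : ZMod m} : j ∈ S.orb i ↔ ∃ l : ℕ, j = i * S.r ^ l := by
  simp only [orb, Finset.mem_image, Finset.mem_range]
  constructor
  · rintro ⟨l, -, rfl⟩; exact ⟨l, rfl⟩
  · rintro ⟨l, rfl⟩
    refine ⟨l % 5, Nat.mod_lt _ (by norm_num), ?_⟩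
    conv_rhs => rw [← Nat.div_add_mod l 5, pow_add, pow_mul, S.r_five, one_pow, one_mul]

theorem self_mem_orb (i : ZMod m) : i ∈ S.orb i := S.mem_orb.2 ⟨0, by rw [pow_zero, mul_one]⟩

theorem orb_eq_of_mem {i j : ZMod m} (h : j ∈ S.orb i) : S.orb j = S.orb i := by
  obtain ⟨l, rfl⟩ := S.mem_orb.1 h
  ext x
  rw [S.mem_orb, S.mem_orb]
  constructor
  · rintro ⟨k, rfl⟩; exact ⟨l + k, by rw [pow_add, mul_assoc]⟩
  · rintro ⟨k, rfl⟩
    refine ⟨k + 4 * l, ?_⟩
    rw [mul_assoc, ← pow_add, show l + (k + 4 * l) = k + 5 * l by ring, pow_add, pow_mul, S.r_five,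
      one_pow, mul_one]

theorem ne_zero_of_mem_orb {i j : ZMod m} (hi : i ≠ 0) (h : j ∈ S.orb i) : j ≠ 0 := by
  obtain ⟨l, rfl⟩ := S.mem_orb.1 h
  intro h0
  have hu : IsUnit (S.r ^ l) := (IsUnit.of_pow_eq_one S.r_five (by norm_num)).pow l
  exact hi (hu.mul_left_eq_zero.1 h0)

theorem card_orb {i : ZMod m} (hi : i ≠ 0) : (S.orb i).card = 5 := by
  rw [orb, Finset.card_image_of_injOn, Finset.card_range]
  have key : ∀ a b, a < b → b < 5 → i * S.r ^ a ≠ i * S.r ^ b := by
    intro a b hlt hb hab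
    obtain ⟨t, rfl⟩ := Nat.exists_eq_add_of_lt hlt
    refine S.free (i * S.r ^ a) (S.ne_zero_of_mem_orb hi (S.mem_orb.2 ⟨a, rfl⟩)) (t + 1) (by omega)
      (by omega) ?_
    rw [mul_assoc, ← pow_add, ← add_assoc, ← hab]
  intro a ha b hb hab
  simp only [Finset.coe_range, Set.mem_Iio] at ha hb
  rcases lt_trichotomy a b with h | h | h
  · exact absurd hab (key a b h hb)
  · exact h
  · exact absurd hab.symm (key b a h ha)

variable [Fintype G]

/-- The Fourier coefficient of a function on the cyclic subgroup. -/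
noncomputable def mult (f : G → ℂ) (i : ZMod m) : ℂ :=
  (m : ℂ)⁻¹ * ∑ a, f (S.e a) * ZMod.stdAddChar (-(i * a))

theorem sum_char (b : ZMod m) :
    ∑ x : ZMod m, ZMod.stdAddChar (b * x) = if b = 0 then (m : ℂ) else 0 := by
  simp only [mul_comm b]
  rw [AddChar.sum_mulShift b (ZMod.isPrimitive_stdAddChar m), ZMod.card]
  split_ifs <;> simp

theorem mult_eq_of_expansion {f : G → ℂ} {n : ZMod m → ℂ}
    (h : ∀ a, f (S.e a) = ∑ i, n i * ZMod.stdAddChar (i * a)) (i : ZMod m) : S.mult f i = n i := by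
  rw [mult]
  simp only [h, Finset.sum_mul]
  rw [Finset.sum_comm]
  simp only [mul_assoc, ← AddChar.map_add_eq_mul, ← Finset.mul_sum]
  rw [Finset.sum_congr rfl (g := fun j => n j * if j = i then (m : ℂ) else 0) (fun j _ => by
    congr 1
    rw [Finset.sum_congr rfl (g := fun a : ZMod m => ZMod.stdAddChar ((j - i) * a))
      (fun a _ => by congr 1; ring), sum_char]
    simp [sub_eq_zero])]
  simp only [mul_ite, mul_zero, Finset.sum_ite_eq', Finset.mem_univ, if_true]
  rw [mul_comm (n i), inv_mul_cancel_left₀ (Nat.cast_ne_zero.2 (NeZero.ne m))]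

theorem exists_expansion {χ : G → ℂ} (hχ : IsCharacter G χ) :
    ∃ n : ZMod m → ℕ, ∀ a, χ (S.e a) = ∑ i, (n i : ℂ) * ZMod.stdAddChar (i * a) := by
  classical
  obtain ⟨N, ρ, rfl⟩ := hχ
  obtain ⟨μ, hμ, hj, -⟩ := exists_eigenvalues ρ S.h
  rw [S.ord] at hμ
  have hω : ∀ x, ∃ i : ZMod m, μ x = ZMod.stdAddChar i := by
    intro x
    have hprim : IsPrimitiveRoot (ZMod.stdAddChar (1 : ZMod m) : ℂ) m := by
      rw [IsPrimitiveRoot.iff_def]
      refine ⟨?_, fun l hl => ?_⟩
      · rw [← AddChar.map_nsmul_eq_pow, nsmul_eq_mul, ZMod.natCast_self, zero_mul, AddChar.map_zero_eq_one]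
      · rw [← AddChar.map_nsmul_eq_pow, nsmul_eq_mul, mul_one, ← AddChar.map_zero_eq_one (ZMod.stdAddChar (N := m)),
          ZMod.injective_stdAddChar.eq_iff, ZMod.natCast_eq_zero_iff] at hl
        exact hl
    obtain ⟨i, -, hi⟩ := hprim.eq_pow_of_pow_eq_one (hμ x)
    exact ⟨i, by rw [← hi, ← AddChar.map_nsmul_eq_pow, nsmul_eq_mul, mul_one]⟩
  choose I hI using hω
  refine ⟨fun i => (Finset.univ.filter fun x => I x = i).card, fun a => ?_⟩
  rw [e, hj]
  rw [← Finset.sum_fiberwise_of_maps_to (s := Finset.univ) (t := Finset.univ) (g := I)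
    (fun x _ => Finset.mem_univ _)]
  refine Finset.sum_congr rfl fun i _ => ?_
  rw [Finset.sum_congr rfl (g := fun _ => ZMod.stdAddChar (i * a)) (fun x hx => by
    rw [hI, (Finset.mem_filter.1 hx).2, ← AddChar.map_nsmul_eq_pow, nsmul_eq_mul, ZMod.natCast_zmod_val,
      mul_comm]), Finset.sum_const, nsmul_eq_mul]

/-- The multiplicity of an irreducible character. -/
noncomputable def nI (χ : IrrCharacter G) : ZMod m → ℕ :=
  (S.exists_expansion (isCharacter_of_isIrr χ.2)).choose

theorem expansion_nI (χ : IrrCharacter G) (a : ZMod m) :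
    (χ : G → ℂ) (S.e a) = ∑ i, (S.nI χ i : ℂ) * ZMod.stdAddChar (i * a) :=
  (S.exists_expansion (isCharacter_of_isIrr χ.2)).choose_spec a

theorem mult_irr (χ : IrrCharacter G) (i : ZMod m) : S.mult χ i = (S.nI χ i : ℂ) :=
  S.mult_eq_of_expansion (n := fun i => (S.nI χ i : ℂ)) (S.expansion_nI χ) i

theorem degree_eq (χ : IrrCharacter G) : (χ : G → ℂ) 1 = ((∑ i, S.nI χ i : ℕ) : ℂ) := by
  rw [← S.e_zero, S.expansion_nI χ 0]
  simp

theorem mult_sum (c : IrrCharacter G → ℂ) (i : ZMod m) :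
    S.mult (∑ χ, c χ • (χ : G → ℂ)) i = ∑ χ, c χ * (S.nI χ i : ℂ) := by
  simp only [← S.mult_irr, mult, Finset.sum_apply, Pi.smul_apply, smul_eq_mul, Finset.sum_mul,
    Finset.mul_sum]
  rw [Finset.sum_comm]
  exact Finset.sum_congr rfl fun χ _ => Finset.sum_congr rfl fun a _ => by ring

theorem isConj_e {a b : ZMod m} (ha : a ≠ 0) : IsConj (S.e a) (S.e b) ↔ b ∈ S.orb a := by
  rw [S.mem_orb]; exact S.fus a b ha

theorem nI_orb (χ : IrrCharacter G) {i j : ZMod m} (h : j ∈ S.orb i) : S.nI χ j = S.nI χ i := by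
  obtain ⟨l, rfl⟩ := S.mem_orb.1 h
  have hu : IsUnit (S.r ^ l) := (IsUnit.of_pow_eq_one S.r_five (by norm_num)).pow l
  have h1 : S.mult χ (i * S.r ^ l) = S.mult χ i := by
    rw [mult, mult]
    congr 1
    refine Fintype.sum_bijective (fun a => a * S.r ^ l) ?_ _ _ fun a => ?_
    · refine Finite.injective_iff_bijective.1 fun a b hab => hu.mul_left_inj.1 hab
    · rcases eq_or_ne a 0 with rfl | ha
      · simp
      · congr 1
        · exact classFunction_isConj (isClassFunction_of_isIrr χ.2) ((S.isConj_e ha).2 (S.mem_orb.2 ⟨l, rfl⟩))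
        · congr 1; ring
  rw [S.mult_irr, S.mult_irr] at h1
  exact_mod_cast h1

/-- The difference of the multiplicities at zero and at `i`. -/
noncomputable def dn (χ : IrrCharacter G) (i : ZMod m) : ℤ := (S.nI χ 0 : ℤ) - S.nI χ i

theorem dn_cast (χ : IrrCharacter G) (i : ZMod m) :
    (S.dn χ i : ℂ) = (m : ℂ)⁻¹ * ∑ a, (χ : G → ℂ) (S.e a) * (1 - ZMod.stdAddChar (-(i * a))) := by
  rw [dn, Int.cast_sub, Int.cast_natCast, Int.cast_natCast, ← S.mult_irr, ← S.mult_irr, mult, mult,
    ← mul_sub, ← Finset.sum_sub_distrib]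
  refine congrArg _ (Finset.sum_congr rfl fun a _ => ?_)
  rw [zero_mul, neg_zero, AddChar.map_zero_eq_one]
  ring

theorem card_centralizer_e {a : ZMod m} (ha : a ≠ 0) :
    Nat.card (Subgroup.centralizer ({S.e a} : Set G)) = m := by
  have : Subgroup.centralizer ({S.e a} : Set G) = Subgroup.zpowers S.h := by
    ext x
    rw [Subgroup.mem_centralizer_singleton_iff]
    refine ⟨fun h => S.cc a.val (not_dvd_val ha) x h, ?_⟩
    rintro ⟨k, rfl⟩
    exact (Commute.zpow_self S.h k).pow_right a.val |>.eq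
  rw [this, Nat.card_zpowers, S.ord]

/-- The inner products. -/
theorem gram {i j : ZMod m} (hi : i ≠ 0) (hj : j ≠ 0) :
    ∑ χ : IrrCharacter G, S.dn χ i * S.dn χ j = if i ∈ S.orb j then 6 else 5 := by
  classical
  suffices h : (∑ χ : IrrCharacter G, (S.dn χ i : ℂ) * (S.dn χ j : ℂ)) =
      ((if i ∈ S.orb j then 6 else 5 : ℤ) : ℂ) by exact_mod_cast h
  set f : ZMod m → ZMod m → ℂ := fun i a => 1 - ZMod.stdAddChar (-(i * a)) with hf
  have hreal : ∀ χ : IrrCharacter G, (S.dn χ j : ℂ) = (m : ℂ)⁻¹ * ∑ b, conj ((χ : G → ℂ) (S.e b)) * f (-j) b := by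
    intro χ
    rw [← map_intCast (starRingEnd ℂ), dn_cast, map_mul, map_inv₀, Complex.conj_natCast, map_sum]
    refine congrArg _ (Finset.sum_congr rfl fun b _ => ?_)
    rw [map_mul, map_sub, map_one, ← AddChar.map_neg_eq_conj]
    simp only [hf, neg_mul, neg_neg]
  simp only [S.dn_cast _ i, hreal]
  have hf0 : ∀ i, f i 0 = 0 := fun i => by simp [hf]
  have hcol : ∀ a b : ZMod m, f i a * f (-j) b * ∑ χ : IrrCharacter G, (χ : G → ℂ) (S.e a) * conj ((χ : G → ℂ) (S.e b)) =
      ∑ l ∈ Finset.range 5, if b = a * S.r ^ l then (m : ℂ) * (f i a * f (-j) b) else 0 := by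
    intro a b
    rcases eq_or_ne a 0 with rfl | ha
    · simp [hf0]
    rw [← Finset.sum_fiberwise_of_maps_to (s := Finset.range 5) (t := S.orb a) (g := fun l => a * S.r ^ l)
      (fun l _ => S.mem_orb.2 ⟨l, rfl⟩)]
    have hone : ∀ x ∈ S.orb a, ((Finset.range 5).filter fun l => a * S.r ^ l = x).card = 1 := by
      have h1 := Finset.card_eq_sum_card_image (fun l => a * S.r ^ l) (Finset.range 5)
      rw [Finset.card_range] at h1
      intro x hx
      refine le_antisymm ?_ (Finset.card_pos.2 ?_)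
      · by_contra hgt
        have h2 : ∑ y ∈ S.orb a, 1 < ∑ y ∈ S.orb a, ((Finset.range 5).filter fun l => a * S.r ^ l = y).card :=
          Finset.sum_lt_sum (fun y hy => Finset.card_pos.2 (by
            obtain ⟨l, hl, rfl⟩ := Finset.mem_image.1 hy
            exact ⟨l, Finset.mem_filter.2 ⟨hl, rfl⟩⟩)) ⟨x, hx, by omega⟩
        rw [Finset.sum_const, smul_eq_mul, mul_one, S.card_orb ha] at h2
        exact absurd h2 (by rw [show S.orb a = (Finset.range 5).image fun l => a * S.r ^ l from rfl, ← h1]; omega)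
      · obtain ⟨l, hl, rfl⟩ := Finset.mem_image.1 hx
        exact ⟨l, Finset.mem_filter.2 ⟨hl, rfl⟩⟩
    rw [Finset.sum_congr rfl (g := fun x => if b = x then (m : ℂ) * (f i a * f (-j) b) else 0) (fun x hx => by
      rw [Finset.sum_congr rfl (g := fun _ => if b = x then (m : ℂ) * (f i a * f (-j) b) else 0)
        (fun l hl => by rw [(Finset.mem_filter.1 hl).2]), Finset.sum_const, hone x hx, one_smul]),
      Finset.sum_ite_eq]
    by_cases hb : b ∈ S.orb a
    · rw [if_pos hb, sum_irr_mul_conj_of_isConj ((S.isConj_e ha).2 hb), S.card_centralizer_e ha]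
      ring
    · rw [if_neg hb, sum_irr_mul_conj_of_not_isConj (fun h => hb ((S.isConj_e ha).1 h)), mul_zero]
  have hm : (m : ℂ) ≠ 0 := Nat.cast_ne_zero.2 (NeZero.ne m)
  calc ∑ χ : IrrCharacter G, ((m : ℂ)⁻¹ * ∑ a, (χ : G → ℂ) (S.e a) * f i a) *
        ((m : ℂ)⁻¹ * ∑ b, conj ((χ : G → ℂ) (S.e b)) * f (-j) b)
      = (m : ℂ)⁻¹ * (m : ℂ)⁻¹ * ∑ a, ∑ b, f i a * f (-j) b *
          ∑ χ : IrrCharacter G, (χ : G → ℂ) (S.e a) * conj ((χ : G → ℂ) (S.e b)) := by
        simp only [Finset.mul_sum, Finset.sum_mul]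
        rw [Finset.sum_comm]
        refine (Finset.sum_congr rfl fun b _ => Finset.sum_comm).trans ?_
        rw [Finset.sum_comm]
        exact Finset.sum_congr rfl fun a _ => Finset.sum_congr rfl fun b _ =>
          Finset.sum_congr rfl fun χ _ => by ring
    _ = (m : ℂ)⁻¹ * ∑ l ∈ Finset.range 5, ∑ a, f i a * f (-j) (a * S.r ^ l) := by
        simp only [hcol]
        rw [Finset.sum_congr rfl fun a _ => Finset.sum_comm]
        simp only [Finset.sum_ite_eq', Finset.mem_univ, if_true, ← Finset.mul_sum]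
        rw [mul_assoc, inv_mul_cancel_left₀ hm]
        refine congrArg _ ?_
        simp only [Finset.mul_sum]
        exact Finset.sum_comm
    _ = ∑ l ∈ Finset.range 5, (1 + if i = j * S.r ^ l then (1 : ℂ) else 0) := by
        rw [Finset.mul_sum]
        refine Finset.sum_congr rfl fun l _ => ?_
        have hjl : j * S.r ^ l ≠ 0 := S.ne_zero_of_mem_orb hj (S.mem_orb.2 ⟨l, rfl⟩)
        have e1 : ∀ a : ZMod m, f i a * f (-j) (a * S.r ^ l) = 1 - ZMod.stdAddChar (-i * a) -
            ZMod.stdAddChar (j * S.r ^ l * a) + ZMod.stdAddChar ((-i + j * S.r ^ l) * a) := by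
          intro a
          have e2 : ZMod.stdAddChar ((-i + j * S.r ^ l) * a) =
              ZMod.stdAddChar (-i * a) * ZMod.stdAddChar (j * S.r ^ l * a) := by
            rw [add_mul, AddChar.map_add_eq_mul]
          simp only [hf, e2, neg_mul]
          ring_nf
        simp only [e1, Finset.sum_add_distrib, Finset.sum_sub_distrib, sum_char, neg_eq_zero, hi, hjl,
          if_false, Finset.sum_const, Finset.card_univ, ZMod.card, nsmul_eq_mul, mul_one, sub_zero,
          neg_add_eq_zero]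
        split_ifs <;> field_simp <;> ring
    _ = ((if i ∈ S.orb j then 6 else 5 : ℤ) : ℂ) := by
        rw [Finset.sum_add_distrib, Finset.sum_const, Finset.card_range, nsmul_eq_mul, mul_one,
          ← Finset.sum_filter, Finset.sum_const, nsmul_eq_mul, mul_one]
        by_cases h : i ∈ S.orb j
        · rw [if_pos h]
          have h1 : ((Finset.range 5).filter fun l => i = j * S.r ^ l).card = 1 := by
            obtain ⟨l, hl, rfl⟩ := Finset.mem_image.1 h
            refine Finset.card_eq_one.2 ⟨l, Finset.eq_singleton_iff_unique_mem.2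
              ⟨Finset.mem_filter.2 ⟨hl, rfl⟩, fun l' hl' => ?_⟩⟩
            obtain ⟨h1, h2⟩ := Finset.mem_filter.1 hl'
            have := Finset.card_image_iff.1 ((S.card_orb hj).trans (Finset.card_range 5).symm :
              ((Finset.range 5).image fun l => j * S.r ^ l).card = (Finset.range 5).card)
            exact this h1 hl h2.symm
          rw [h1]; norm_num
        · rw [if_neg h, Finset.filter_eq_empty_iff.2 (fun l hl he => h (Finset.mem_image.2 ⟨l, hl, he.symm⟩))]
          simp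

/-- The trivial character. -/
def one (G : Type u) [Group G] : IrrCharacter G := ⟨fun _ => 1, isIrr_one⟩

theorem nI_one (i : ZMod m) : S.nI (one G) i = if i = 0 then 1 else 0 := by
  have h := S.mult_eq_of_expansion (f := ((one G : IrrCharacter G) : G → ℂ))
    (n := fun i => if i = 0 then 1 else 0) (fun a => by simp [one]) i
  rw [S.mult_irr] at h
  by_cases hi : i = 0
  · rw [if_pos hi] at h ⊢; exact_mod_cast h
  · rw [if_neg hi] at h ⊢; exact_mod_cast h

theorem e_ne_one {a : ZMod m} (ha : a ≠ 0) : S.e a ≠ 1 := fun h =>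
  not_dvd_val ha (by
    have h1 := orderOf_dvd_of_pow_eq_one h
    rwa [S.ord] at h1)

/-- An irreducible character with `h` in its kernel is trivial. -/
theorem eq_one_of_kernel {χ : IrrCharacter G} (h : ∀ i, i ≠ 0 → S.nI χ i = 0) : χ = one G := by
  classical
  have hcast : (1 : ℕ) < m := lt_of_lt_of_le (by norm_num) S.big
  haveI : Fact (1 < m) := ⟨hcast⟩
  have hχ : (χ : G → ℂ) S.h = (χ : G → ℂ) 1 := by
    rw [← pow_one S.h, ← S.e_natCast 1, ← S.e_zero, S.expansion_nI, S.expansion_nI]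
    refine Finset.sum_congr rfl fun i _ => ?_
    rcases eq_or_ne i 0 with rfl | hi
    · simp
    · simp [h i hi]
  obtain ⟨N, ρ, hρ, hρc⟩ := χ.2
  have hker := S.gen (MonoidHom.ker ρ) inferInstance (MonoidHom.mem_ker.2 ((char_eq_finrank_iff ρ S.h).1 (by
    rw [hρc, hχ, ← hρc, Representation.char_one])))
  refine Subtype.ext ?_
  have hconst : ∀ g, (χ : G → ℂ) g = (χ : G → ℂ) 1 := fun g => by
    have hg : ρ g = 1 := MonoidHom.mem_ker.1 (hker ▸ Subgroup.mem_top g)
    rw [← hρc, Representation.character, hg, ← map_one ρ, Representation.character]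
  obtain ⟨d, hd0, hd⟩ := exists_degree_pos χ.2
  have h1 := classInner_isIrr_self χ.2
  rw [classInner] at h1
  simp only [hconst, hd, Complex.conj_natCast, Finset.sum_const, Finset.card_univ, nsmul_eq_mul,
    Nat.card_eq_fintype_card] at h1
  rw [inv_mul_cancel_left₀ (Nat.cast_ne_zero.2 Fintype.card_ne_zero)] at h1
  have : d * d = 1 := by exact_mod_cast h1
  funext g
  rw [hconst, hd, Nat.eq_one_of_mul_eq_one_left this]
  simp [one]

/-- The exceptional characters. -/
theorem classify : ∃ u : IrrCharacter G → ℤ,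
    (∀ χ : IrrCharacter G, (∀ i, i ≠ 0 → S.dn χ i = u χ) ∨
      (u χ = 0 ∧ ∃ i₀, i₀ ≠ 0 ∧ ∃ t : ℤ, (t = 1 ∨ t = -1) ∧
        ∀ i, i ≠ 0 → S.dn χ i = if i ∈ S.orb i₀ then t else 0)) ∧
    u (one G) = 1 ∧ ∑ χ, u χ * u χ = 5 ∧
    ∃ (s : Finset (Finset (ZMod m))) (E : {x // x ∈ s} → IrrCharacter G), 6 ≤ s.card ∧
      Function.Injective E ∧ (∀ x, u (E x) = 0) ∧
      (∀ χ, (∀ x, E x ≠ χ) → ∀ i, i ≠ 0 → S.dn χ i = u χ) ∧ ∀ x : {x // x ∈ s}, ∃ i, i ≠ 0 ∧
        (S.dn (E x) i = 1 ∨ S.dn (E x) i = -1) ∧ ∀ χ, χ ≠ E x → S.dn χ i = u χ := by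
  classical
  set s := ((Finset.univ : Finset (ZMod m)).erase 0).image S.orb with hs
  have hfib : ∀ x ∈ s, (((Finset.univ : Finset (ZMod m)).erase 0).filter fun i => S.orb i = x).card = 5 := by
    intro x hx
    obtain ⟨i, hi, rfl⟩ := Finset.mem_image.1 hx
    rw [← S.card_orb (Finset.mem_erase.1 hi).1]
    congr 1
    ext j
    simp only [Finset.mem_filter, Finset.mem_erase, Finset.mem_univ, and_true]
    exact ⟨fun h => h.2 ▸ S.self_mem_orb j,
      fun h => ⟨S.ne_zero_of_mem_orb (Finset.mem_erase.1 hi).1 h, S.orb_eq_of_mem h⟩⟩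
  have hsc : 6 ≤ s.card := by
    have h1 := Finset.card_eq_sum_card_image S.orb ((Finset.univ : Finset (ZMod m)).erase 0)
    rw [← hs, Finset.sum_congr rfl hfib, Finset.sum_const, smul_eq_mul,
      Finset.card_erase_of_mem (Finset.mem_univ _), Finset.card_univ, ZMod.card] at h1
    have := S.big
    omega
  have hrep : ∀ x : {x // x ∈ s}, ∃ i, i ≠ 0 ∧ x.1 = S.orb i := fun x => by
    obtain ⟨i, hi, he⟩ := Finset.mem_image.1 x.2
    exact ⟨i, (Finset.mem_erase.1 hi).1, he.symm⟩
  choose rep hrep0 hrepo using hrep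
  have hsame : ∀ x y : {x // x ∈ s}, rep x ∈ S.orb (rep y) → x = y := fun x y h =>
    Subtype.ext (by rw [hrepo, hrepo, S.orb_eq_of_mem h])
  have hdeg : ∀ x, ∑ χ : IrrCharacter G, ((∑ i, S.nI χ i : ℕ) : ℤ) * S.dn χ (rep x) = 0 := by
    intro x
    suffices h : (∑ χ : IrrCharacter G, (χ : G → ℂ) 1 * (S.dn χ (rep x) : ℂ)) = 0 by
      simp only [S.degree_eq] at h
      exact_mod_cast h
    simp only [S.dn_cast, Finset.mul_sum]
    rw [Finset.sum_comm]
    refine Finset.sum_eq_zero fun a _ => ?_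
    rcases eq_or_ne a 0 with rfl | ha
    · simp
    · have h1 := sum_degree_mul (S.e a)
      rw [if_neg (S.e_ne_one ha)] at h1
      rw [← mul_zero ((m : ℂ)⁻¹ * (1 - ZMod.stdAddChar (-(rep x * a)))), ← h1, Finset.mul_sum]
      exact Finset.sum_congr rfl fun χ _ => by ring
  obtain ⟨u, E, t, hE, ht, hu0, hVE, hVx, huo, -, hu⟩ := exists_star_zero
    (fun (x : {x // x ∈ s}) χ => S.dn χ (rep x)) (by rwa [Fintype.card_coe])
    (fun x => by rw [S.gram (hrep0 x) (hrep0 x), if_pos (S.self_mem_orb _)])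
    (fun x y hxy => by rw [S.gram (hrep0 x) (hrep0 y), if_neg fun h => hxy (hsame x y h)])
    (o := one G) (fun x => by simp [dn, S.nI_one, hrep0 x])
    (d := fun χ => ((∑ i, S.nI χ i : ℕ) : ℤ)) (by simp [S.nI_one]) hdeg
  have hval : ∀ (χ : IrrCharacter G) i, i ≠ 0 → ∃ x : {x // x ∈ s}, i ∈ S.orb (rep x) ∧ S.dn χ i = S.dn χ (rep x) := by
    intro χ i hi
    have hx : S.orb i ∈ s := Finset.mem_image_of_mem _ (Finset.mem_erase.2 ⟨hi, Finset.mem_univ _⟩)
    have hmem : i ∈ S.orb (rep ⟨_, hx⟩) := by rw [← hrepo]; exact S.self_mem_orb i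
    exact ⟨⟨_, hx⟩, hmem, by rw [dn, dn, S.nI_orb χ hmem]⟩
  have hout : ∀ χ, (∀ x, E x ≠ χ) → ∀ i, i ≠ 0 → S.dn χ i = u χ := by
    intro χ hχ i hi
    obtain ⟨x, -, he⟩ := hval _ i hi
    rw [he, hVx x χ (Ne.symm (hχ x))]
  refine ⟨u, fun χ => ?_, huo, hu, s, E, hsc, hE, hu0, hout, fun x =>
    ⟨rep x, hrep0 x, by rw [hVE]; exact ht x, fun χ hχ => hVx x χ hχ⟩⟩
  by_cases hχ : ∃ x, E x = χ
  · obtain ⟨x₀, rfl⟩ := hχ
    refine Or.inr ⟨hu0 x₀, rep x₀, hrep0 x₀, t x₀, ht x₀, fun i hi => ?_⟩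
    obtain ⟨x, hx, he⟩ := hval _ i hi
    rw [he]
    by_cases hxx : x = x₀
    · subst hxx; rw [if_pos hx, hVE]
    · rw [if_neg fun h => hxx (Subtype.ext (by rw [hrepo, hrepo, ← S.orb_eq_of_mem hx, S.orb_eq_of_mem h])),
        hVx x _ fun h => hxx (hE h).symm, hu0]
  · exact Or.inl (hout χ fun x h => hχ ⟨x, h⟩)

/-- No irreducible character is the sum over one class. -/
theorem no_orbit_character {χ : IrrCharacter G} {i₀ : ZMod m} (hi₀ : i₀ ≠ 0)
    (hn : ∀ i, S.nI χ i = if i ∈ S.orb i₀ then 1 else 0) : False := by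
  classical
  obtain ⟨u, hcl, -, -, -⟩ := S.classify
  set θ : G → ℂ := (χ : G → ℂ) * fun g => conj ((χ : G → ℂ) g) with hθdef
  have hθ : IsCharacter G θ := isCharacter_mul (isCharacter_of_isIrr χ.2) (isCharacter_of_isIrr (isIrr_conj χ.2))
  obtain ⟨c, hc⟩ := exists_nat_coeff hθ
  set O := S.orb i₀ with hO
  set D := (O ×ˢ O).image fun q => q.1 - q.2 with hD
  have hDc : D.card ≤ 25 := by
    refine Finset.card_image_le.trans ?_
    rw [Finset.card_product, hO, S.card_orb hi₀]
  have hexp : ∀ a, θ (S.e a) = ∑ k, ((((O ×ˢ O).filter fun q => q.1 - q.2 = k).card : ℕ) : ℂ) * ZMod.stdAddChar (k * a) := by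
    intro a
    have h1 : (χ : G → ℂ) (S.e a) = ∑ i ∈ O, ZMod.stdAddChar (i * a) := by
      rw [S.expansion_nI]
      simp [hn]
    rw [hθdef, Pi.mul_apply, h1, map_sum, Finset.sum_mul_sum, ← Finset.sum_product',
      ← Finset.sum_fiberwise_of_maps_to (t := Finset.univ) (g := fun q : ZMod m × ZMod m => q.1 - q.2)
        (fun q _ => Finset.mem_univ _)]
    refine Finset.sum_congr rfl fun k _ => ?_
    rw [Finset.sum_congr rfl (g := fun _ => ZMod.stdAddChar (k * a)) (fun q hq => by
      rw [← AddChar.map_neg_eq_conj, ← AddChar.map_add_eq_mul, ← (Finset.mem_filter.1 hq).2]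
      congr 1; ring), Finset.sum_const, nsmul_eq_mul]
  have hmult : ∀ k, ∑ ψ, c ψ * S.nI ψ k = ((O ×ˢ O).filter fun q => q.1 - q.2 = k).card := by
    intro k
    have h1 := S.mult_eq_of_expansion hexp k
    rw [hc, S.mult_sum] at h1
    exact_mod_cast h1
  have h0 : ∀ ψ, c ψ ≠ 0 → S.nI ψ 0 = if ψ = one G then 1 else 0 := by
    intro ψ hψ
    by_cases hψ1 : ψ = one G
    · rw [if_pos hψ1, hψ1, S.nI_one, if_pos rfl]
    rw [if_neg hψ1]
    have hzero : ∀ k, k ∉ D → S.nI ψ k = 0 := by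
      intro k hk
      have h1 := hmult k
      rw [Finset.filter_eq_empty_iff.2 (fun q hq he => hk (Finset.mem_image.2 ⟨q, hq, he⟩)), Finset.card_empty,
        Finset.sum_eq_zero_iff] at h1
      exact (mul_eq_zero.1 (h1 ψ (Finset.mem_univ _))).resolve_left hψ
    have hpick : ∀ A : Finset (ZMod m), A.card ≤ 5 → ∃ k, k ∉ D ∧ k ∉ A := by
      intro A hA
      by_contra hcon
      push Not at hcon
      have h1 := Finset.card_le_card (show (Finset.univ : Finset (ZMod m)) ⊆ D ∪ A from fun k _ =>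
        Finset.mem_union.2 ((em (k ∈ D)).imp id fun h => hcon k h))
      rw [Finset.card_univ, ZMod.card] at h1
      have := Finset.card_union_le D A
      have := S.big
      omega
    have h0D : (0 : ZMod m) ∈ D := Finset.mem_image.2 ⟨(i₀, i₀), Finset.mem_product.2
      ⟨S.self_mem_orb _, S.self_mem_orb _⟩, sub_self _⟩
    rcases hcl ψ with h | ⟨hu, i₁, hi₁, t, -, h⟩
    · obtain ⟨k, hkD, -⟩ := hpick ∅ (by simp)
      have hk0 : k ≠ 0 := fun e => hkD (e ▸ h0D)
      refine absurd (S.eq_one_of_kernel fun i hi => ?_) hψ1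
      have e1 := h k hk0
      have e2 := h i hi
      have e3 := hzero k hkD
      simp only [dn] at e1 e2
      omega
    · obtain ⟨k, hkD, hk1⟩ := hpick (S.orb i₁) (S.card_orb hi₁).le
      have hk0 : k ≠ 0 := fun e => hkD (e ▸ h0D)
      have e1 := h k hk0
      rw [if_neg hk1, dn] at e1
      have e3 := hzero k hkD
      omega
  have h5 := hmult 0
  rw [show ((O ×ˢ O).filter fun q => q.1 - q.2 = 0).card = 5 from ?_] at h5
  · rw [Finset.sum_congr rfl (g := fun ψ => if ψ = one G then c ψ else 0) (fun ψ _ => by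
      rcases eq_or_ne (c ψ) 0 with e | e
      · simp [e]
      · rw [h0 ψ e]; split_ifs <;> simp), Finset.sum_ite_eq', if_pos (Finset.mem_univ _)] at h5
    have h1 : classInner θ ((one G : IrrCharacter G) : G → ℂ) = 1 := by
      rw [← classInner_isIrr_self χ.2, classInner, classInner]
      simp [hθdef, one]
    rw [hc, classInner_irr_coeff, h5] at h1
    norm_num at h1
  · rw [← S.card_orb hi₀, ← hO]
    refine Finset.card_bij (fun q _ => q.1) (fun q hq => (Finset.mem_product.1 (Finset.mem_filter.1 hq).1).1)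
      (fun q hq q' hq' h => ?_) (fun x hx => ⟨(x, x), by simp [hx], rfl⟩)
    have e1 := sub_eq_zero.1 (Finset.mem_filter.1 hq).2
    have e2 := sub_eq_zero.1 (Finset.mem_filter.1 hq').2
    exact Prod.ext h (by rw [← e1, ← e2, h])

/-- A linear character is trivial. -/
theorem eq_one_of_degree {χ : IrrCharacter G} (hd : ∑ i, S.nI χ i = 1) : χ = one G := by
  classical
  refine S.eq_one_of_kernel fun i hi => ?_
  obtain ⟨u, hcl, huo, hu, -⟩ := S.classify
  by_contra hni
  have hsplit : ∀ j, S.nI χ i + S.nI χ j ≤ 1 ∨ j = i := fun j => by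
    rcases eq_or_ne j i with e | e
    · exact Or.inr e
    · left
      rw [← hd, ← Finset.sum_pair (f := S.nI χ) (Ne.symm e)]
      exact Finset.sum_le_sum_of_subset (Finset.subset_univ _)
  have hlu : ∀ j, j ∈ S.orb i → j = i := fun j hj => by
    rcases hsplit j with h | h
    · rw [S.nI_orb χ hj] at h; omega
    · exact h
  have := Finset.card_le_card (show S.orb i ⊆ {i} from fun j hj => Finset.mem_singleton.2 (hlu j hj))
  rw [S.card_orb hi, Finset.card_singleton] at this
  omega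

/-- The degree of an irreducible character divides the group order. -/
theorem degree_dvd (χ : IrrCharacter G) : (∑ i, S.nI χ i) ∣ Nat.card G := by
  obtain ⟨N, ρ, hρ, hρc⟩ := χ.2
  haveI := hρ
  have h1 := S.degree_eq χ
  rw [← hρc, Representation.char_one] at h1
  have : Module.finrank ℂ (Fin N → ℂ) = ∑ i, S.nI χ i := by exact_mod_cast h1
  exact this ▸ finrank_dvd_card ρ

/-- **Double transitivity.** -/
theorem exists_degree {Ω : Type*} [Fintype Ω] [MulAction G Ω] [MulAction.IsPretransitive G Ω]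
    (hfix : ∀ a, a ≠ 0 → ∀ x : Ω, S.e a • x ≠ x) {j : ℕ} (hcard : Nat.card Ω = j * m) (hj : j ≤ 5)
    (hj0 : 0 < j) : ∃ a v : ℕ, 1 ≤ a ∧ a ≤ j ∧ (v = 1 ∨ v = 2) ∧ a * m - v ∣ Nat.card G ∧
      (a = j → Nat.card (MulAction.orbitRel.Quotient G (Ω × Ω)) = 2) := by
  classical
  have hbig := S.big
  haveI : Nonempty Ω := (Nat.card_pos_iff.1 (by rw [hcard]; exact Nat.mul_pos hj0 (by omega))).1
  obtain ⟨c, hc, hdeg, hrank⟩ := CfsgLib.Perm.PermChar.exists_mult (G := G) (Ω := Ω)
  set π := CfsgLib.Perm.PermChar.perm G Ω with hπ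
  have hπc : π = ∑ χ, (c χ : ℂ) • (χ : G → ℂ) := by
    rw [hπ]
    conv_lhs => rw [character_expansion (CfsgLib.Perm.PermChar.isCharacter_perm (G := G) (Ω := Ω))]
    simp only [← hπ, hc]
  have hπmult : ∀ i, ∑ χ, c χ * S.nI χ i = j := by
    intro i
    have h1 : S.mult π i = (j : ℂ) := by
      rw [mult, Finset.sum_eq_single (0 : ZMod m)]
      · rw [S.e_zero, hπ, CfsgLib.Perm.PermChar.perm_one, hcard, mul_zero, neg_zero,
          AddChar.map_zero_eq_one, mul_one]
        push_cast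
        rw [mul_comm (j : ℂ), inv_mul_cancel_left₀ (Nat.cast_ne_zero.2 (NeZero.ne m))]
      · intro a _ ha
        have : π (S.e a) = 0 := by
          rw [hπ, CfsgLib.Perm.PermChar.perm, Nat.cast_eq_zero, Nat.card_eq_zero]
          exact Or.inl ⟨fun x => hfix a ha x.1 x.2⟩
        rw [this, zero_mul]
      · intro h; exact absurd (Finset.mem_univ _) h
    rw [hπc, S.mult_sum] at h1
    exact_mod_cast h1
  have hc1 : c (one G) = 1 := by
    have h1 := CfsgLib.Perm.PermChar.inner_one_of_transitive (G := G) (Ω := Ω)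
    have h2 := hc (one G)
    rw [show ((one G : IrrCharacter G) : G → ℂ) = fun _ => 1 from rfl, h1] at h2
    exact_mod_cast h2.symm
  set deg : IrrCharacter G → ℕ := fun χ => ∑ i, S.nI χ i with hdegd
  have htot : 1 + ∑ χ ∈ Finset.univ.erase (one G), c χ * deg χ = j * m := by
    have h1 : j * m = ∑ χ, c χ * deg χ := by
      simp only [S.degree_eq, hcard] at hdeg
      exact_mod_cast hdeg
    rw [h1, ← Finset.add_sum_erase _ _ (Finset.mem_univ (one G)), hc1]
    simp [hdegd, S.nI_one]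
  have hsingle : ∀ χ, χ ≠ one G → c χ * deg χ + 1 ≤ j * m := fun χ hχ => by
    have := Finset.single_le_sum (f := fun χ => c χ * deg χ) (fun y _ => Nat.zero_le _)
      (Finset.mem_erase.2 ⟨hχ, Finset.mem_univ χ⟩)
    omega
  obtain ⟨u, hcl, huo, hu, s, E, hs6, hE, hu0, hout, hEs⟩ := S.classify
  have hsum : ∀ i, i ≠ 0 → ∑ χ, (c χ : ℤ) * S.dn χ i = 0 := by
    intro i _
    simp only [dn, mul_sub, Finset.sum_sub_distrib]
    have h0 := hπmult 0
    have h1 := hπmult i
    zify at h0 h1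
    rw [h0, h1, sub_self]
  have hnone : ∀ x, c (E x) = 0 := by
    by_contra hcon
    push Not at hcon
    obtain ⟨x₀, hx₀⟩ := hcon
    have hrel : ∀ x, ∃ t : ℤ, (t = 1 ∨ t = -1) ∧ ∑ χ, (c χ : ℤ) * u χ + c (E x) * t = 0 := by
      intro x
      obtain ⟨i, hi, ht, hrest⟩ := hEs x
      refine ⟨S.dn (E x) i, ht, ?_⟩
      have h1 := hsum i hi
      rw [← Finset.add_sum_erase _ _ (Finset.mem_univ (E x)),
        Finset.sum_congr rfl (g := fun χ => (c χ : ℤ) * u χ) (fun χ hχ => by
          rw [hrest χ (Finset.mem_erase.1 hχ).1])] at h1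
      rw [← Finset.add_sum_erase _ _ (Finset.mem_univ (E x)), hu0]
      linarith
    have hall : ∀ x, c (E x) ≠ 0 := fun x h => by
      obtain ⟨t, -, ht⟩ := hrel x
      obtain ⟨t', ht', ht''⟩ := hrel x₀
      rw [h] at ht
      rcases ht' with e | e <;> rw [e] at ht'' <;> push_cast at ht <;> omega
    have hdE : ∀ x, m ≤ deg (E x) + 5 := by
      intro x
      obtain ⟨i, hi, ht, -⟩ := hEs x
      rcases hcl (E x) with h | ⟨-, i₀, hi₀, t, ht1, h⟩
      · rw [h i hi, hu0] at ht; omega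
      by_contra hlt
      have hk : ∀ k, k ≠ 0 → (S.nI (E x) k : ℤ) = S.nI (E x) 0 - if k ∈ S.orb i₀ then t else 0 :=
        fun k hk => by have := h k hk; rw [dn] at this; omega
      have h0 : S.nI (E x) 0 = 0 := by
        by_contra hne
        refine hlt ?_
        have : ∑ k ∈ Finset.univ \ S.orb i₀, 1 ≤ deg (E x) := by
          refine le_trans (Finset.sum_le_sum fun k hk' => ?_) (Finset.sum_le_sum_of_subset (Finset.subset_univ _))
          rcases eq_or_ne k 0 with e | e
          · rw [e]; omega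
          · have := hk k e
            have h2 := hk k e
            rw [if_neg (Finset.mem_sdiff.1 hk').2] at h2
            omega
        rw [Finset.sum_const, smul_eq_mul, mul_one, Finset.card_sdiff, Finset.inter_univ, Finset.card_univ,
          ZMod.card, S.card_orb hi₀] at this
        omega
      have htm : t = -1 := by
        have := hk i₀ hi₀
        rw [if_pos (S.self_mem_orb _), h0] at this
        rcases ht1 with e | e
        · omega
        · exact e
      refine S.no_orbit_character hi₀ (χ := E x) fun k => ?_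
      rcases eq_or_ne k 0 with rfl | hk0
      · rw [h0, if_neg fun hh => S.ne_zero_of_mem_orb hi₀ hh rfl]
      · have := hk k hk0
        rw [h0, htm] at this
        split_ifs with hh
        · rw [if_pos hh] at this; omega
        · rw [if_neg hh] at this; omega
    have hbound : s.card * (m - 5) + 1 ≤ j * m := by
      have h1 : ∑ x : {x // x ∈ s}, (m - 5) ≤ ∑ χ ∈ Finset.univ.erase (one G), c χ * deg χ := by
        refine le_trans (Finset.sum_le_sum (g := fun x => c (E x) * deg (E x)) fun x _ => ?_) ?_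
        · exact le_trans (by have := hdE x; omega) (Nat.le_mul_of_pos_left _ (Nat.pos_of_ne_zero (hall x)))
        · rw [← Finset.sum_image (f := fun χ => c χ * deg χ) (fun a _ b _ h => hE h)]
          refine Finset.sum_le_sum_of_subset fun χ hχ => Finset.mem_erase.2 ⟨fun e => ?_, Finset.mem_univ _⟩
          obtain ⟨x, -, rfl⟩ := Finset.mem_image.1 hχ
          have := hu0 x
          rw [e, huo] at this
          omega
      simp only [Finset.sum_const, Finset.card_univ, Fintype.card_coe, smul_eq_mul] at h1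
      omega
    have h2 : 6 * (m - 5) ≤ s.card * (m - 5) := Nat.mul_le_mul_right _ hs6
    have h3 : j * m ≤ 5 * m := Nat.mul_le_mul_right _ hj
    omega
  have hNE : ∀ χ, c χ ≠ 0 → ∀ i, i ≠ 0 → S.dn χ i = u χ := fun χ hχ =>
    hout χ fun x h => hχ (h ▸ hnone x)
  haveI : Fact (1 < m) := ⟨by omega⟩
  obtain ⟨χ, hcχ, hu'⟩ : ∃ χ, c χ ≠ 0 ∧ u χ < 0 := by
    by_contra hcon
    push Not at hcon
    have h1 : ∑ χ, (c χ : ℤ) * S.dn χ 1 = ∑ χ, (c χ : ℤ) * u χ := Finset.sum_congr rfl fun χ _ => by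
      rcases eq_or_ne (c χ) 0 with e | e
      · simp [e]
      · rw [hNE χ e 1 one_ne_zero]
    have h2 : (c (one G) : ℤ) * u (one G) ≤ ∑ χ, (c χ : ℤ) * u χ :=
      Finset.single_le_sum (f := fun χ => (c χ : ℤ) * u χ) (fun χ _ => by
        rcases eq_or_ne (c χ) 0 with e | e
        · simp [e]
        · exact mul_nonneg (Nat.cast_nonneg _) (hcon χ e)) (Finset.mem_univ _)
    rw [← h1, hsum 1 one_ne_zero, hc1, huo] at h2
    norm_num at h2
  have hχ1 : χ ≠ one G := fun e => by rw [e, huo] at hu'; omega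
  have hu2 : u χ = -1 ∨ u χ = -2 := by
    have h1 := Finset.sum_le_sum_of_subset_of_nonneg (s := {one G, χ}) (Finset.subset_univ _)
      (f := fun χ => u χ * u χ) fun x _ _ => mul_self_nonneg _
    rw [Finset.sum_pair (Ne.symm hχ1), huo, hu] at h1
    have : -2 ≤ u χ := by nlinarith
    omega
  obtain ⟨v, hv, hv'⟩ : ∃ v : ℕ, (v = 1 ∨ v = 2) ∧ u χ = -(v : ℤ) := by
    rcases hu2 with e | e
    · exact ⟨1, Or.inl rfl, e⟩
    · exact ⟨2, Or.inr rfl, e⟩
  set a := S.nI χ (1 : ZMod m) with ha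
  have hk : ∀ k, k ≠ 0 → S.nI χ k = a := fun k hk => by
    have e1 := hNE χ hcχ k hk
    have e2 := hNE χ hcχ 1 one_ne_zero
    simp only [dn] at e1 e2
    omega
  have hd : deg χ + v = a * m := by
    have e2 := hNE χ hcχ 1 one_ne_zero
    simp only [dn] at e2
    simp only [hdegd]
    rw [← Finset.add_sum_erase _ _ (Finset.mem_univ (0 : ZMod m)),
      Finset.sum_congr rfl (g := fun _ => a) (fun k hk' => hk k (Finset.mem_erase.1 hk').1),
      Finset.sum_const, Finset.card_erase_of_mem (Finset.mem_univ _), Finset.card_univ, ZMod.card, smul_eq_mul]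
    have h3 : a * m = a + (m - 1) * a := by
      conv_lhs => rw [show m = 1 + (m - 1) by omega, mul_add, mul_one, mul_comm a (m - 1)]
    omega
  have ha1 : 1 ≤ a := by
    rcases Nat.eq_zero_or_pos a with e | e
    · rw [e, zero_mul] at hd; omega
    · exact e
  have haj : a ≤ j := by
    have h1 := hsingle χ hχ1
    have h2 : deg χ ≤ c χ * deg χ := Nat.le_mul_of_pos_left _ (Nat.pos_of_ne_zero hcχ)
    by_contra h3
    have h4 : (j + 1) * m ≤ a * m := Nat.mul_le_mul_right _ (by omega)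
    rw [add_mul, one_mul] at h4
    omega
  have hdvd : a * m - v ∣ Nat.card G := by
    rw [show a * m - v = deg χ by omega]; exact S.degree_dvd χ
  refine ⟨a, v, ha1, haj, hv, hdvd, ?_⟩
  rintro rfl
  have hmm : m ≤ a * m := Nat.le_mul_of_pos_left _ ha1
  have hcχ1 : c χ = 1 := by
    have h1 := hsingle χ hχ1
    by_contra hne
    have h2 : 2 * deg χ ≤ c χ * deg χ := Nat.mul_le_mul_right _ (by omega)
    omega
  have hrest : ∀ ψ, ψ ≠ one G → ψ ≠ χ → c ψ = 0 := by
    intro ψ h1 h2
    by_contra hψ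
    have h3 : deg χ + c ψ * deg ψ + 1 ≤ a * m := by
      have h4 := Finset.sum_le_sum_of_subset (f := fun χ => c χ * deg χ) (s := {χ, ψ})
        (t := Finset.univ.erase (one G)) (fun x hx => by
          rcases Finset.mem_insert.1 hx with rfl | hx
          · exact Finset.mem_erase.2 ⟨hχ1, Finset.mem_univ _⟩
          · rw [Finset.mem_singleton.1 hx]; exact Finset.mem_erase.2 ⟨h1, Finset.mem_univ _⟩)
      rw [Finset.sum_pair (Ne.symm h2), hcχ1, one_mul] at h4
      omega
    have h5 : deg ψ ≤ c ψ * deg ψ := Nat.le_mul_of_pos_left _ (Nat.pos_of_ne_zero hψ)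
    have h6 : 0 < deg ψ := by
      obtain ⟨d, hd0, hd'⟩ := exists_degree_pos ψ.2
      rw [S.degree_eq] at hd'
      have : deg ψ = d := by exact_mod_cast hd'
      omega
    exact h1 (S.eq_one_of_degree (show deg ψ = 1 by omega))
  rw [hrank, ← Finset.sum_subset (Finset.subset_univ ({one G, χ} : Finset (IrrCharacter G))) (fun x _ hx => by
    simp only [Finset.mem_insert, Finset.mem_singleton, not_or] at hx
    rw [hrest x hx.1 hx.2, mul_zero]), Finset.sum_pair (Ne.symm hχ1), hc1, hcχ1]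

/-- A transitive action is doubly transitive when only one degree can divide the order. -/
theorem two_trans {Ω : Type*} [Fintype Ω] [MulAction G Ω] [MulAction.IsPretransitive G Ω]
    (hfix : ∀ a, a ≠ 0 → ∀ x : Ω, S.e a • x ≠ x) {j : ℕ} (hcard : Nat.card Ω = j * m) (hj : j ≤ 5)
    (hj0 : 0 < j) (hdiv : ∀ a v : ℕ, 1 ≤ a → a ≤ j → (v = 1 ∨ v = 2) → a * m - v ∣ Nat.card G → a = j) :
    Nat.card (MulAction.orbitRel.Quotient G (Ω × Ω)) = 2 := by
  obtain ⟨a, v, ha1, haj, hv, hdvd, h2⟩ := S.exists_degree hfix hcard hj hj0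
  exact h2 (hdiv a v ha1 haj hv hdvd)

end Sys

end CfsgLib.SingerFive
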