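import Cfsg.Agent.MaxSub.Transvection
import Mathlib.FieldTheory.Finite.Trace
import Mathlib.FieldTheory.Finite.GaloisField
import Mathlib.RingTheory.Norm.Transitivity
import Mathlib.RingTheory.Trace.Basic
import Mathlib.RingTheory.Adjoin.Basic

/-!
# The field model of the Singer normaliser in `GL₅`

An extension `L` of degree five of a finite field `F` with a coordinate isomorphism `e : L ≃ F⁵`:
multiplications, the Frobenius, the elements of norm one modulo scalars and the maps normalising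
the field.
-/

set_option autoImplicit false
set_option linter.unusedSectionVars false
set_option linter.style.haveILetI false

namespace CfsgLib.SingerFive

open Matrix Cfsg.Geo CfsgLib.MaxSub

variable {F : Type*} [Field F] [Fintype F] {L : Type*} [Field L] [Algebra F L] [Finite L]
  (e : L ≃ₗ[F] (Fin 5 → F))

include e in
theorem finrank_eq_five : Module.finrank F L = 5 := by
  rw [e.finrank_eq, Module.finrank_fin_fun]

include e in
theorem card_L : Nat.card L = Fintype.card F ^ 5 := by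
  rw [Module.natCard_eq_pow_finrank (K := F), finrank_eq_five e, Nat.card_eq_fintype_card]

/-- The Frobenius of `L` over `F`. -/
noncomputable def sg : L ≃ₐ[F] L := FiniteField.frobeniusAlgEquivOfAlgebraic F L

theorem sg_apply (x : L) : (sg (F := F) : L ≃ₐ[F] L) x = x ^ Fintype.card F :=
  congrFun (FiniteField.coe_frobeniusAlgEquivOfAlgebraic F L) x

local notation "σ" => (sg (F := F) : L ≃ₐ[F] L)

theorem sg_pow_apply (i : ℕ) (x : L) : (σ ^ i) x = x ^ Fintype.card F ^ i := by
  induction i generalizing x with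
  | zero => simp
  | succ i ih =>
    rw [pow_succ', AlgEquiv.mul_apply, ih, sg_apply, ← pow_mul, ← pow_succ]

include e in
theorem sg_five : σ ^ 5 = 1 := by
  have := Fintype.ofFinite L
  ext x
  rw [sg_pow_apply, ← card_L e, Nat.card_eq_fintype_card, FiniteField.pow_card]
  rfl

include e in
theorem mem_range_of_sg_fixed {x : L} (h : σ x = x) : ∃ c : F, algebraMap F L c = x := by
  refine (IsGalois.mem_range_algebraMap_iff_fixed x).2 fun f => ?_
  obtain ⟨n, rfl⟩ := (FiniteField.bijective_frobeniusAlgEquivOfAlgebraic_pow F L).2 f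
  rw [AlgEquiv.coe_pow]
  exact Function.iterate_fixed h n.1

include e in
/-- A fixed element of a nontrivial power of the Frobenius lies in `F`. -/
theorem mem_range_of_pow_fixed {x : L} {i : ℕ} (hi : ¬ 5 ∣ i) (h : (σ ^ i) x = x) :
    ∃ c : F, algebraMap F L c = x := by
  refine mem_range_of_sg_fixed e ?_
  have hfix : ∀ j : ℕ, (σ ^ (i * j)) x = x := fun j => by
    rw [pow_mul, AlgEquiv.coe_pow]; exact Function.iterate_fixed h j
  obtain ⟨j, hj⟩ : ∃ j, i * j % 5 = 1 := by
    have : ∀ r : Fin 5, r ≠ 0 → ∃ j : Fin 5, (r : ℕ) * j % 5 = 1 := by decide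
    obtain ⟨j, hj⟩ := this ⟨i % 5, Nat.mod_lt _ (by norm_num)⟩ (fun h0 => hi (Nat.dvd_of_mod_eq_zero (congrArg Fin.val h0)))
    exact ⟨j, by rw [Nat.mul_mod, Nat.mod_eq_of_lt j.2]; exact hj⟩
  have := hfix j
  rwa [← Nat.div_add_mod (i * j) 5, pow_add, pow_mul, sg_five e, one_pow, one_mul, hj, pow_one] at this

include e in
theorem norm_eq_pow (x : L) : algebraMap F L (Algebra.norm F x) =
    x ^ (1 + Fintype.card F + Fintype.card F ^ 2 + Fintype.card F ^ 3 + Fintype.card F ^ 4) := by
  rw [FiniteField.algebraMap_norm_eq_prod_pow, finrank_eq_five e]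
  simp only [Finset.prod_range_succ, Finset.prod_range_zero, one_mul, Nat.card_eq_fintype_card, pow_zero,
    pow_one, pow_add]

include e in
theorem trace_sg (x : L) : Algebra.trace F L (σ x) = Algebra.trace F L x :=
  (Algebra.trace_eq_of_algEquiv σ x)

/-- Multiplications as matrices. -/
noncomputable def mat : L →ₐ[F] Matrix (Fin 5) (Fin 5) F :=
  (Matrix.toLinAlgEquiv'.symm.toAlgHom).comp ((e.conjAlgEquiv F).toAlgHom.comp (Algebra.lmul F L))

theorem mat_mulVec (a x : L) : mat e a *ᵥ e x = e (a * x) := by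
  rw [← Matrix.toLinAlgEquiv'_apply]
  simp [mat]

/-- Multiplications as invertible matrices. -/
noncomputable def gl : Lˣ →* GL (Fin 5) F := Units.map (mat e : L →* Matrix (Fin 5) (Fin 5) F)

theorem gl_mulVec (a : Lˣ) (x : L) :
    (gl e a : Matrix (Fin 5) (Fin 5) F) *ᵥ e x = e ((a : L) * x) :=
  mat_mulVec e a x

theorem det_mat (a : L) : (mat e a).det = Algebra.norm F a := by
  rw [Algebra.norm_apply, ← LinearMap.det_conj (Algebra.lmul F L a) e, ← LinearMap.det_toMatrix']
  rfl

theorem gl_mem_specialLinear {a : Lˣ} (h : Algebra.norm F (a : L) = 1) :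
    gl e a ∈ specialLinear (Fin 5) F := by
  rw [specialLinear, MonoidHom.mem_ker]
  apply Units.ext
  rw [Matrix.GeneralLinearGroup.val_det_apply, Units.val_one]
  exact (det_mat e a).trans h

/-- The Frobenius as a linear map in coordinates. -/
noncomputable def frobLin : (Fin 5 → F) →ₗ[F] (Fin 5 → F) :=
  e.toLinearMap ∘ₗ (σ).toLinearMap ∘ₗ e.symm.toLinearMap

theorem frobLin_apply (x : L) : frobLin e (e x) = e (σ x) := by simp [frobLin]

theorem frobLin_pow_apply (i : ℕ) (x : L) : (frobLin e ^ i) (e x) = e ((σ ^ i) x) := by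
  induction i generalizing x with
  | zero => simp
  | succ i ih => rw [pow_succ', Module.End.mul_apply, ih, frobLin_apply, pow_succ' σ, AlgEquiv.mul_apply]

theorem frobLin_five : frobLin e ^ 5 = 1 :=
  LinearMap.ext fun y => by
    obtain ⟨x, rfl⟩ := e.surjective y
    rw [frobLin_pow_apply, sg_five e]
    rfl

/-- The Frobenius as an invertible matrix. -/
noncomputable def frob : GL (Fin 5) F where
  val := LinearMap.toMatrixAlgEquiv' (frobLin e)
  inv := LinearMap.toMatrixAlgEquiv' (frobLin e ^ 4)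
  val_inv := by rw [← map_mul, ← pow_succ', frobLin_five, map_one]
  inv_val := by rw [← map_mul, ← pow_succ, frobLin_five, map_one]

theorem frob_mulVec (x : L) : (frob e : Matrix (Fin 5) (Fin 5) F) *ᵥ e x = e (σ x) := by
  show LinearMap.toMatrix' (frobLin e) *ᵥ e x = _
  rw [LinearMap.toMatrix'_mulVec, frobLin_apply]

theorem frob_pow_mulVec (i : ℕ) (x : L) :
    ((frob e ^ i : GL (Fin 5) F) : Matrix (Fin 5) (Fin 5) F) *ᵥ e x = e ((σ ^ i) x) := by
  induction i generalizing x with
  | zero => simp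
  | succ i ih => rw [pow_succ', Units.val_mul, ← mulVec_mulVec, ih, frob_mulVec, pow_succ' σ, AlgEquiv.mul_apply]

theorem frob_mem_specialLinear : frob e ∈ specialLinear (Fin 5) F := by
  set P := (frob e : Matrix (Fin 5) (Fin 5) F) with hP
  let G : Matrix (Fin 5) (Fin 5) F := Matrix.of fun i j =>
    Algebra.trace F L (e.symm (Pi.single i 1) * e.symm (Pi.single j 1))
  have hG : ∀ x y, e x ⬝ᵥ (G *ᵥ e y) = Algebra.trace F L (x * y) := by
    intro x y
    let B : (Fin 5 → F) →ₗ[F] (Fin 5 → F) →ₗ[F] F :=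
      (Algebra.traceForm F L).compl₁₂ e.symm.toLinearMap e.symm.toLinearMap
    have hGB : LinearMap.toMatrix₂' F B = G := by
      ext i j
      rw [LinearMap.toMatrix₂'_apply]
      simp [B, G, Algebra.traceForm_apply]
    rw [← hGB, ← Matrix.toLinearMap₂'_apply', Matrix.toLinearMap₂'_toMatrix']
    simp [B, Algebra.traceForm_apply]
  have hG0 : G.det ≠ 0 := fun h => by
    obtain ⟨v, hv0, hv⟩ := exists_mulVec_eq_zero_iff.2 h
    obtain ⟨y, rfl⟩ := e.surjective v
    have hy : y = 0 := (traceForm_nondegenerate F L).1 _ fun x => by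
      rw [Algebra.traceForm_apply, mul_comm, ← hG x y, hv, dotProduct_zero]
    exact hv0 (by rw [hy, map_zero])
  have hPG : Pᵀ * G * P = G := by
    refine Matrix.ext fun i j => ?_
    obtain ⟨x, hx⟩ := e.surjective (Pi.single i 1)
    obtain ⟨y, hy⟩ := e.surjective (Pi.single j 1)
    have h1 : (Pᵀ * G * P) i j = (P *ᵥ e x) ⬝ᵥ (G *ᵥ (P *ᵥ e y)) := by
      rw [hx, hy, mulVec_single_one, mulVec_single_one, mul_assoc]
      rfl
    have h2 : G i j = e x ⬝ᵥ (G *ᵥ e y) := by
      rw [hx, hy, single_dotProduct, one_mul, mulVec_single_one]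
      rfl
    rw [h1, h2, hP, frob_mulVec, frob_mulVec, hG, hG, ← map_mul, trace_sg e]
  have hd2 : P.det * P.det = 1 := by
    have := congrArg Matrix.det hPG
    rw [det_mul, det_mul, det_transpose, mul_right_comm] at this
    exact (mul_eq_right₀ hG0).1 this
  have hd5 : P.det ^ 5 = 1 := by
    rw [← det_pow, hP]
    show Matrix.det (LinearMap.toMatrixAlgEquiv' (frobLin e) ^ 5) = 1
    rw [← map_pow, frobLin_five, map_one, det_one]
  replace hd5 : P.det = 1 := by
    calc P.det = P.det * (P.det * P.det) * (P.det * P.det) := by rw [hd2, mul_one, mul_one]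
      _ = P.det ^ 5 := by ring
      _ = 1 := hd5
  rw [specialLinear, MonoidHom.mem_ker]
  apply Units.ext
  rw [Matrix.GeneralLinearGroup.val_det_apply, Units.val_one]
  exact hd5

/-- Being a scalar. -/
def Scal (g : GL (Fin 5) F) : Prop :=
  ∃ z : F, (g : Matrix (Fin 5) (Fin 5) F) = algebraMap F (Matrix (Fin 5) (Fin 5) F) z

/-- Normalising the field. -/
def Normalises (g : GL (Fin 5) F) : Prop :=
  ∀ a : L, ∃ b : L, (g : Matrix (Fin 5) (Fin 5) F) * mat e a * ((g⁻¹ : GL (Fin 5) F) :
    Matrix (Fin 5) (Fin 5) F) = mat e b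

include e in
/-- An element outside `F` generates `L`. -/
theorem mem_subalgebra {S : Subalgebra F L} {d : L} (hd : d ∈ S) (hnF : ∀ z, algebraMap F L z ≠ d) (x : L) :
    x ∈ S := by
  haveI := Subalgebra.isSimpleOrder_of_finrank_prime F L (by rw [finrank_eq_five e]; exact Nat.prime_five)
  rcases eq_bot_or_eq_top S with h | h
  · rw [h, Algebra.mem_bot] at hd
    obtain ⟨z, hz⟩ := hd
    exact absurd hz (hnF z)
  · rw [h]; exact Algebra.mem_top

theorem exists_of_commute {b : L} (hb : ∀ z, algebraMap F L z ≠ b) {X : Matrix (Fin 5) (Fin 5) F}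
    (h : Commute X (mat e b)) : ∃ u, mat e u = X := by
  have hall : ∀ a, Commute X (mat e a) := fun a => by
    have := mem_subalgebra e (S := (Subalgebra.centralizer F ({X} : Set (Matrix (Fin 5) (Fin 5) F))).comap
      (mat e)) (d := b) (by
        rw [Subalgebra.mem_comap, Subalgebra.mem_centralizer_iff]
        rintro _ rfl
        exact h) hb a
    rw [Subalgebra.mem_comap, Subalgebra.mem_centralizer_iff] at this
    exact this X rfl
  obtain ⟨u, hu⟩ := e.surjective (X *ᵥ e 1)
  refine ⟨u, Matrix.ext_of_mulVec_single fun i => ?_⟩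
  obtain ⟨a, ha⟩ := e.surjective (Pi.single i 1)
  have h1 : X *ᵥ e a = mat e a *ᵥ (X *ᵥ e 1) := by
    rw [mulVec_mulVec, ← (hall a).eq, ← mulVec_mulVec, mat_mulVec, mul_one]
  rw [← ha, mat_mulVec, h1, ← hu, mat_mulVec, mul_comm]

theorem mat_injective : Function.Injective (mat e) := fun a b h => by
  have := congrArg (fun M => M *ᵥ e 1) h
  simpa [mat_mulVec] using this

theorem scal_gl_iff {u : Lˣ} : Scal (gl e u) ↔ ∃ z : F, algebraMap F L z = (u : L) :=
  exists_congr fun z => ⟨fun h => mat_injective e ((AlgHom.commutes (mat e) z).trans h.symm),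
    fun h => by
      show mat e (u : L) = _
      rw [← h, AlgHom.commutes]⟩

theorem frob_conj (i : ℕ) (a : L) :
    ((frob e ^ i : GL (Fin 5) F) : Matrix (Fin 5) (Fin 5) F) * mat e a =
      mat e ((σ ^ i) a) * ((frob e ^ i : GL (Fin 5) F) : Matrix (Fin 5) (Fin 5) F) := by
  refine Matrix.ext_of_mulVec_single fun k => ?_
  obtain ⟨x, hx⟩ := e.surjective (Pi.single k 1)
  rw [← hx, ← mulVec_mulVec, ← mulVec_mulVec, frob_pow_mulVec, mat_mulVec, frob_pow_mulVec, mat_mulVec, map_mul]

theorem normalises_gl (c : Lˣ) : Normalises e (gl e c) := fun a =>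
  ⟨a, by
    rw [← map_inv]
    show mat e c * mat e a * mat e ((c⁻¹ : Lˣ) : L) = _
    rw [← map_mul, ← map_mul, mul_right_comm, Units.mul_inv, one_mul]⟩

theorem normalises_frob : Normalises e (frob e) := fun a => by
  refine ⟨σ a, ?_⟩
  rw [Units.mul_inv_eq_iff_eq_mul]
  simpa using frob_conj e 1 a

/-- A map taking an element outside `F` into the field normalises it. -/
theorem normalises_of_conj_mem {g : GL (Fin 5) F} {d d' : L} (hd : ∀ z, algebraMap F L z ≠ d)
    (h : (g : Matrix (Fin 5) (Fin 5) F) * mat e d * ((g⁻¹ : GL (Fin 5) F) : Matrix (Fin 5) (Fin 5) F) = mat e d') :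
    Normalises e g := by
  intro b
  let T : Subalgebra F L :=
    { carrier := {b | ∃ b' : L, (g : Matrix (Fin 5) (Fin 5) F) * mat e b * ((g⁻¹ : GL (Fin 5) F) :
        Matrix (Fin 5) (Fin 5) F) = mat e b'}
      mul_mem' := by
        rintro x y ⟨x', hx⟩ ⟨y', hy⟩
        refine ⟨x' * y', ?_⟩
        rw [map_mul, map_mul, ← hx, ← hy]
        simp only [mul_assoc, Units.inv_mul_cancel_left]
      add_mem' := by
        rintro x y ⟨x', hx⟩ ⟨y', hy⟩
        exact ⟨x' + y', by rw [map_add, map_add, ← hx, ← hy, mul_add, add_mul]⟩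
      algebraMap_mem' := fun r => ⟨algebraMap F L r, by
        rw [AlgHom.commutes, ← Algebra.commutes, mul_assoc, Units.mul_inv, mul_one]⟩ }
  exact mem_subalgebra e (S := T) (d := d) ⟨d', h⟩ hd b

/-- The maps normalising the field. -/
theorem exists_eq_gl_mul_frob_pow {g : GL (Fin 5) F} (hg : Normalises e g) :
    ∃ (u : Lˣ) (i : ℕ), i < 5 ∧ g = gl e u * frob e ^ i ∧
      ∀ a, (g : Matrix (Fin 5) (Fin 5) F) * mat e a * ((g⁻¹ : GL (Fin 5) F) : Matrix (Fin 5) (Fin 5) F) =
        mat e ((σ ^ i) a) := by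
  choose f hf using hg
  let ψ : L →ₐ[F] L := AlgHom.ofLinearMap
    { toFun := f
      map_add' := fun x y => mat_injective e (by
        rw [← hf, map_add, map_add, mul_add, add_mul, hf, hf])
      map_smul' := fun r x => mat_injective e (by
        rw [← hf, map_smul, RingHom.id_apply, map_smul, mul_smul_comm, smul_mul_assoc, hf]) }
    (mat_injective e (by
      show mat e (f 1) = _
      rw [← hf, map_one, mul_one, Units.mul_inv]))
    (fun x y => mat_injective e (by
      show mat e (f (x * y)) = mat e (f x * f y)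
      rw [← hf, map_mul, map_mul, ← hf, ← hf]
      simp only [mul_assoc, Units.inv_mul_cancel_left]))
  have hb : Function.Bijective ψ := ψ.bijective
  obtain ⟨i, hi⟩ := (FiniteField.bijective_frobeniusAlgEquivOfAlgebraic_pow F L).2 (AlgEquiv.ofBijective ψ hb)
  have hconj : ∀ a, (g : Matrix (Fin 5) (Fin 5) F) * mat e a * ((g⁻¹ : GL (Fin 5) F) : Matrix (Fin 5) (Fin 5) F) =
      mat e ((σ ^ (i : ℕ)) a) := fun a => by
    rw [hf, show (σ ^ (i : ℕ)) a = f a from DFunLike.congr_fun hi a]
  set w := g * (frob e ^ (i : ℕ))⁻¹ with hw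
  obtain ⟨c, hc⟩ : ∃ c : L, ∀ z, algebraMap F L z ≠ c := by
    by_contra hcon
    push Not at hcon
    have hsur : Function.Surjective (Algebra.linearMap F L) := hcon
    have := LinearMap.finrank_le_finrank_of_injective (f := (LinearEquiv.ofBijective (Algebra.linearMap F L)
      ⟨(algebraMap F L).injective, hsur⟩).symm.toLinearMap) (LinearEquiv.injective _)
    rw [finrank_eq_five e, Module.finrank_self] at this
    omega
  have hwc : Commute (w : Matrix (Fin 5) (Fin 5) F) (mat e c) := by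
    obtain ⟨a, rfl⟩ := (σ ^ (i : ℕ)).surjective c
    show _ * _ = _ * _
    have h1 : ((frob e ^ (i : ℕ))⁻¹ : GL (Fin 5) F).1 * mat e ((σ ^ (i : ℕ)) a) =
        mat e a * ((frob e ^ (i : ℕ))⁻¹ : GL (Fin 5) F).1 := by
      rw [Units.inv_mul_eq_iff_eq_mul, ← mul_assoc, frob_conj, Units.mul_inv_cancel_right]
    rw [hw, Units.val_mul, mul_assoc, h1, ← hconj a]
    simp only [mul_assoc, Units.inv_mul_cancel_left]
  obtain ⟨u, hu⟩ := exists_of_commute e hc hwc
  have hu0 : u ≠ 0 := fun h => w.ne_zero (by rw [← hu, h, map_zero])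
  refine ⟨Units.mk0 u hu0, i, ?_, ?_, hconj⟩
  · exact lt_of_lt_of_le i.2 (finrank_eq_five e).le
  · have : gl e (Units.mk0 u hu0) = w := Units.ext hu
    rw [this, hw, inv_mul_cancel_right]

/-! ### The elements of norm one -/

/-- `(q⁵ - 1) / (q - 1)`. -/
def pts (q : ℕ) : ℕ := q ^ 4 + q ^ 3 + q ^ 2 + q + 1

/-- The order of the elements of norm one modulo scalars. -/
def red (q : ℕ) : ℕ := if 5 ∣ pts q then pts q / 5 else pts q

theorem pts_mul (q : ℕ) (hq : 1 ≤ q) : (q - 1) * pts q = q ^ 5 - 1 := by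
  obtain ⟨k, rfl⟩ := Nat.exists_eq_add_of_le hq
  rw [show (1 + k) ^ 5 = k * pts (1 + k) + 1 by rw [pts]; ring, Nat.add_sub_cancel_left, Nat.add_sub_cancel]

theorem pts_mod_twentyfive {q : ℕ} (h : 5 ∣ pts q) : q % 5 = 1 ∧ ¬ 25 ∣ pts q := by
  have h1 : q % 5 = 1 := by
    have key : ∀ r : Fin 5, ((r : ℕ) ^ 4 + (r : ℕ) ^ 3 + (r : ℕ) ^ 2 + r + 1) % 5 = 0 → (r : ℕ) = 1 := by decide
    refine key ⟨q % 5, Nat.mod_lt _ (by norm_num)⟩ ?_
    have := Nat.mod_eq_zero_of_dvd h
    rw [pts] at this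
    simpa [Nat.add_mod, Nat.pow_mod] using this
  refine ⟨h1, fun h25 => ?_⟩
  obtain ⟨t, rfl⟩ : ∃ t, q = 5 * t + 1 := ⟨q / 5, by omega⟩
  rw [show pts (5 * t + 1) = 5 + 25 * (25 * t ^ 4 + 25 * t ^ 3 + 10 * t ^ 2 + 2 * t) by rw [pts]; ring] at h25
  omega

theorem not_five_dvd_red (q : ℕ) : ¬ 5 ∣ red q := by
  rw [red]
  split_ifs with h
  · intro h'
    exact (pts_mod_twentyfive h).2 (by
      obtain ⟨k, hk⟩ := h'
      exact ⟨k, by rw [← Nat.div_mul_cancel h, hk]; ring⟩)
  · exact h

theorem red_dvd_pts (q : ℕ) : red q ∣ pts q := by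
  rw [red]
  split_ifs with h
  · exact Nat.div_dvd_of_dvd h
  · exact dvd_rfl

theorem red_dvd_of_pts_dvd {q s : ℕ} (h : pts q ∣ 5 * s) : red q ∣ s :=
  (Nat.Coprime.dvd_of_dvd_mul_left (Nat.Coprime.symm ((Nat.Prime.coprime_iff_not_dvd Nat.prime_five).2
    (not_five_dvd_red q))) ((red_dvd_pts q).trans h))

theorem big_red {q : ℕ} (hq : 2 ≤ q) : 31 ≤ red q := by
  by_cases h : 5 ∣ pts q
  · rw [red, if_pos h, Nat.le_div_iff_mul_le (by norm_num)]
    have h6 : 6 ≤ q := by have := (pts_mod_twentyfive h).1; omega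
    have := Nat.pow_le_pow_left h6 4
    rw [pts]
    omega
  · rw [red, if_neg h, pts]
    have h2 := Nat.pow_le_pow_left hq 2
    have h3 := Nat.pow_le_pow_left hq 3
    have h4 := Nat.pow_le_pow_left hq 4
    omega

include e in
/-- A generator of the elements of norm one. -/
theorem exists_generator : ∃ c : Lˣ, orderOf c = pts (Fintype.card F) ∧
    ∀ a : Lˣ, a ∈ Subgroup.zpowers c ↔ Algebra.norm F (a : L) = 1 := by
  classical
  have hq : 2 ≤ Fintype.card F := Fintype.one_lt_card
  obtain ⟨g, hg⟩ := IsCyclic.exists_ofOrder_eq_natCard (α := Lˣ)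
  have hcard : Nat.card Lˣ = (Fintype.card F - 1) * pts (Fintype.card F) := by
    rw [Nat.card_units, card_L e, pts_mul _ (by omega)]
  have hord : orderOf (g ^ (Fintype.card F - 1)) = pts (Fintype.card F) := by
    rw [orderOf_pow' _ (by omega), hg, hcard, Nat.gcd_mul_right_left, Nat.mul_div_cancel_left _ (by omega)]
  have hsum : 1 + Fintype.card F + Fintype.card F ^ 2 + Fintype.card F ^ 3 + Fintype.card F ^ 4 =
      pts (Fintype.card F) := by rw [pts]; ring
  have hiff : ∀ a : Lˣ, Algebra.norm F (a : L) = 1 ↔ a ^ pts (Fintype.card F) = 1 := fun a => by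
    rw [← (algebraMap F L).injective.eq_iff, map_one, norm_eq_pow e, hsum, ← Units.val_pow_eq_pow_val,
      Units.val_eq_one]
  refine ⟨g ^ (Fintype.card F - 1), hord, fun a => ⟨fun ha => ?_, fun ha => ?_⟩⟩
  · obtain ⟨k, rfl⟩ := ha
    rw [hiff, ← zpow_natCast, ← _root_.zpow_mul, mul_comm, _root_.zpow_mul, zpow_natCast, ← hord, pow_orderOf_eq_one, _root_.one_zpow]
  · obtain ⟨k, rfl⟩ : ∃ k : ℕ, g ^ k = a := by
      have htop : Subgroup.zpowers g = ⊤ := Subgroup.eq_top_of_card_eq _ (by rw [Nat.card_zpowers, hg])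
      obtain ⟨k, hk⟩ := (mem_powers_iff_mem_zpowers (x := g) (y := a)).2 (htop ▸ Subgroup.mem_top a)
      exact ⟨k, hk⟩
    rw [hiff, ← pow_mul] at ha
    have h1 := orderOf_dvd_of_pow_eq_one ha
    rw [hg, hcard] at h1
    obtain ⟨j, rfl⟩ := Nat.dvd_of_mul_dvd_mul_right (by rw [pts]; omega) h1
    exact ⟨(j : ℤ), by simp [pow_mul]⟩

section
variable {c : Lˣ} (ho : orderOf c = pts (Fintype.card F))
  (hc : ∀ a : Lˣ, a ∈ Subgroup.zpowers c ↔ Algebra.norm F (a : L) = 1)
include ho hc

theorem norm_gen_pow (k : ℕ) : Algebra.norm F ((c : L) ^ k) = 1 := by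
  rw [← Units.val_pow_eq_pow_val]
  exact (hc _).1 (Subgroup.pow_mem _ (Subgroup.mem_zpowers c) k)

include e in
/-- A power of the generator is scalar exactly at the multiples of the reduced order. -/
theorem scalar_iff {s : ℕ} : (∃ z : F, algebraMap F L z = (c : L) ^ s) ↔ red (Fintype.card F) ∣ s := by
  constructor
  · rintro ⟨z, h⟩
    refine red_dvd_of_pts_dvd ?_
    rw [← ho]
    apply orderOf_dvd_of_pow_eq_one
    have hz : z ^ 5 = 1 := by
      have := congrArg (Algebra.norm F) h
      rwa [Algebra.norm_algebraMap, finrank_eq_five e, norm_gen_pow ho hc] at this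
    apply Units.ext
    rw [Units.val_pow_eq_pow_val, mul_comm, pow_mul, ← h, ← map_pow, hz, map_one, Units.val_one]
  · rintro ⟨k, rfl⟩
    obtain ⟨z, hz⟩ : ∃ z : F, algebraMap F L z = (c : L) ^ red (Fintype.card F) := by
      refine mem_range_of_sg_fixed e ?_
      rw [sg_apply, ← pow_mul]
      obtain ⟨n, hn⟩ : ∃ n, Fintype.card F = n + 1 :=
        ⟨Fintype.card F - 1, by have := Fintype.one_lt_card (α := F); omega⟩
      have h1 : orderOf c ∣ red (Fintype.card F) * n := by
        rw [ho, red]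
        split_ifs with h
        · obtain ⟨t, ht⟩ : 5 ∣ n := by have := (pts_mod_twentyfive h).1; omega
          exact ⟨t, by rw [ht, ← mul_assoc, Nat.div_mul_cancel h]⟩
        · exact dvd_mul_right _ _
      rw [hn, mul_add, mul_one, pow_add]
      rw [hn] at h1
      rw [← Units.val_pow_eq_pow_val c (red (n + 1) * n), orderOf_dvd_iff_pow_eq_one.1 h1, Units.val_one, one_mul]
    exact ⟨z ^ k, by rw [map_pow, hz, pow_mul]⟩

include e in
/-- No nontrivial power of the Frobenius scales a non-scalar element of norm one. -/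
theorem no_scaled {i k : ℕ} (hi : ¬ 5 ∣ i) {z : F}
    (h : (σ ^ i) ((c : L) ^ k) = algebraMap F L z * (c : L) ^ k) : red (Fintype.card F) ∣ k := by
  have hit : ∀ j : ℕ, ((σ ^ i) ^ j) ((c : L) ^ k) = algebraMap F L z ^ j * (c : L) ^ k := by
    intro j
    induction j with
    | zero => simp
    | succ j ih =>
      rw [pow_succ', AlgEquiv.mul_apply, ih, map_mul, map_pow, AlgEquiv.commutes, h, pow_succ]
      ring
  have h5 := hit 5
  rw [← pow_mul, mul_comm i 5, pow_mul, sg_five e, one_pow, AlgEquiv.one_apply, eq_comm, ← map_pow,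
    mul_eq_right₀ (pow_ne_zero _ c.ne_zero), ← map_one (algebraMap F L)] at h5
  have hz := (algebraMap F L).injective h5
  obtain ⟨w, hw⟩ := mem_range_of_pow_fixed e (x := ((c : L) ^ k) ^ 5) hi (by
    rw [map_pow, h, mul_pow, ← map_pow, hz, map_one, one_mul])
  have := (scalar_iff e ho hc).1 ⟨w, hw.trans (pow_mul _ _ _).symm⟩
  exact (Nat.Coprime.dvd_of_dvd_mul_right (Nat.Coprime.symm ((Nat.Prime.coprime_iff_not_dvd Nat.prime_five).2
    (not_five_dvd_red _))) this)

end

end CfsgLib.SingerFive
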